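import Groth.Agent.H15Site.FppfEt.Resolution
import Groth.Agent.H15Site.RDExt
import Groth.Prelude.Def_EtCore
import Mathlib.CategoryTheory.Sites.ConstantSheaf
import Mathlib.Algebra.Category.Grp.Ulift
import Mathlib.CategoryTheory.Adjunction.Unique

/-!
# The fppf site against the small étale site: inverse images, higher direct images, cohomology
-/

set_option autoImplicit false
set_option linter.style.haveILetI false
set_option linter.unusedSectionVars false
set_option backward.isDefEq.respectTransparency false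
set_option backward.isDefEq.respectTransparency.types false

universe u

open CategoryTheory CategoryTheory.Limits AlgebraicGeometry Opposite Simplicial CategoryTheory.Abelian

namespace Groth.Agent.H15Site.FppfEt

open Groth.Agent.H15Site.IntDesc (bigSh)

section Generic

universe w v t

variable {C : Type t} [Category.{v} C] {J : GrothendieckTopology C} [HasSheafify J AddCommGrpCat.{w}]
  [J.HasSheafCompose (CategoryTheory.forget AddCommGrpCat.{w})] [J.WEqualsLocallyBijective AddCommGrpCat.{w}]

/-- The constant sheaf `ℤ`. -/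
noncomputable abbrev Zc (J : GrothendieckTopology C) [HasSheafify J AddCommGrpCat.{w}] :
    Sheaf J AddCommGrpCat.{w} :=
  (constantSheaf J AddCommGrpCat.{w}).obj (AddCommGrpCat.of (ULift.{w} ℤ))

/-- Sections over the final object are maps from `ℤ`. -/
noncomputable def sectEquiv {T : C} (hT : IsTerminal T) (Y : Sheaf J AddCommGrpCat.{w}) :
    Y.obj.obj (op T) ≃+ (Zc J ⟶ Y) :=
  AddEquiv.symm
    { toEquiv := ((constantSheafAdj J AddCommGrpCat.{w} hT).homEquiv _ Y).trans
        (AddCommGrpCat.uliftZMultiplesAddEquiv _).toEquiv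
      map_add' := fun f g => by
        show AddCommGrpCat.uliftZMultiplesAddEquiv _ ((constantSheafAdj J AddCommGrpCat.{w} hT).homEquiv _ Y (f + g)) = _
        rw [Adjunction.homEquiv_unit]
        show AddCommGrpCat.uliftZMultiplesAddEquiv _
          ((constantSheafAdj J AddCommGrpCat.{w} hT).unit.app _ ≫ (f.hom.app (op T) + g.hom.app (op T))) = _
        rw [Preadditive.comp_add, map_add]
        refine congrArg₂ (· + ·) ?_ ?_
        · exact congrArg _ ((constantSheafAdj J AddCommGrpCat.{w} hT).homEquiv_unit _ _ f).symm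
        · exact congrArg _ ((constantSheafAdj J AddCommGrpCat.{w} hT).homEquiv_unit _ _ g).symm }

theorem sectEquiv_map {T : C} (hT : IsTerminal T) {Y Y' : Sheaf J AddCommGrpCat.{w}} (f : Y ⟶ Y')
    (s : Y.obj.obj (op T)) : sectEquiv hT Y' (f.hom.app (op T) s) = sectEquiv hT Y s ≫ f := by
  apply (sectEquiv hT Y').symm.injective
  rw [AddEquiv.symm_apply_apply]
  show _ = AddCommGrpCat.uliftZMultiplesAddEquiv _
    ((constantSheafAdj J AddCommGrpCat.{w} hT).homEquiv _ Y' (sectEquiv hT Y s ≫ f))
  rw [Adjunction.homEquiv_naturality_right]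
  show f.hom.app (op T) s = (ConcreteCategory.hom (f.hom.app (op T)))
    ((sectEquiv hT Y).symm (sectEquiv hT Y s))
  rw [AddEquiv.symm_apply_apply]

/-- A sequence of sheaves with local preimages is exact. -/
theorem exact_of_local {T : ShortComplex (Sheaf J AddCommGrpCat.{w})}
    (h : ∀ (W : C) (x : T.X₂.obj.obj (op W)), T.g.hom.app (op W) x = 0 →
      ∃ R ∈ J W, ∀ ⦃Z : C⦄ (f : Z ⟶ W), R.arrows f → ∃ y, T.f.hom.app (op Z) y = T.X₂.obj.map f.op x) :
    T.Exact := by
  rw [ShortComplex.exact_iff_epi_kernel_lift]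
  refine (Sheaf.isLocallySurjective_iff_epi' _ _).1 ⟨fun {W} k => ?_⟩
  obtain ⟨R, hR, hy⟩ := h W ((kernel.ι T.g).hom.app (op W) k)
    (ConcreteCategory.congr_hom (congr_app (congrArg (fun g => g.hom) (kernel.condition T.g)) (op W)) k)
  refine J.superset_covering (fun Z f hf => ?_) hR
  obtain ⟨y, hy⟩ := hy f hf
  refine ⟨y, Sections.injective_app (kernel.ι T.g) Z ?_⟩
  refine Eq.trans ?_ ((ConcreteCategory.congr_hom ((kernel.ι T.g).hom.naturality f.op) k).symm)
  refine Eq.trans ?_ hy
  exact ConcreteCategory.congr_hom (congr_app (congrArg (fun g => g.hom) (kernel.lift_ι T.g T.f T.zero)) (op Z)) y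

end Generic

variable {S : Scheme.{u}}

section Pull

variable (S) [EtFppf.ACont S]

/-- `ε_* ⋙ π_* ≅ a_*`. -/
noncomputable def resIso : E S ⋙ BigSite.resEt Scheme.etalePrecoverage S ≅ EtFppf.aPush S :=
  NatIso.ofComponents (fun G => (fullyFaithfulSheafToPresheaf _ _).preimageIso
    (NatIso.ofComponents (fun _ => Iso.refl _) (fun h => (Category.comp_id _).trans (Category.id_comp _).symm)))
    (fun h => by ext W x; rfl)

/-- The composed adjunction. -/
noncomputable def adjPiL : BigSite.piEtPull Scheme.etalePrecoverage S ⋙ L S ⊣ EtFppf.aPush S :=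
  ((BigSite.piEtAdj Scheme.etalePrecoverage S).comp (adjLE S)).ofNatIsoRight (resIso S)

/-- `a⁻¹ ≅` fppf sheafification of `π⁻¹`. -/
noncomputable def aPullIso : EtFppf.aPull S ≅ BigSite.piEtPull Scheme.etalePrecoverage S ⋙ L S :=
  Adjunction.leftAdjointUniq (EtFppf.aAdj S) (adjPiL S)

theorem adjLE_unit_app (P : BigSite.Ab Scheme.etalePrecoverage S) : (adjLE S).unit.app P = η P := by
  refine CategoryTheory.Sheaf.hom_ext ?_
  simp only [adjLE, Adjunction.mkOfHomEquiv_unit_app, Equiv.trans_apply, Equiv.coe_fn_mk, η]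
  exact ((sheafificationAdjunction (EtFppf.J S) AddCommGrpCat.{u + 1}).homEquiv_id P.obj).trans
    (sheafificationAdjunction_unit_app _ _)

theorem isIso_unit (F : EtCoh.Ab S) : IsIso ((EtFppf.aAdj S).unit.app F) := by
  haveI := (Groth.Agent.S6184.result S).2 F
  haveI : IsIso ((adjLE S).unit.app ((BigSite.piEtPull Scheme.etalePrecoverage S).obj F)) := by
    rw [adjLE_unit_app]; exact isIso_η F
  haveI : IsIso ((adjPiL S).unit.app F) := by
    simp only [adjPiL, Adjunction.ofNatIsoRight]
    rw [NatTrans.comp_app, Adjunction.comp_unit_app, Functor.whiskerLeft_app]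
    infer_instance
  have e := Adjunction.unit_leftAdjointUniq_hom_app (EtFppf.aAdj S) (adjPiL S) F
  haveI : IsIso ((EtFppf.aAdj S).unit.app F ≫
      (EtFppf.aPush S).map (((EtFppf.aAdj S).leftAdjointUniq (adjPiL S)).hom.app F)) := by
    rw [e]; infer_instance
  exact IsIso.of_isIso_comp_right _
    ((EtFppf.aPush S).map (((EtFppf.aAdj S).leftAdjointUniq (adjPiL S)).hom.app F))

theorem preservesMono_aPull : (EtFppf.aPull S).PreservesMonomorphisms := by
  haveI := H13Desc.BigExact.preservesMonomorphisms_piEtPull Scheme.etalePrecoverage S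
  haveI := preservesMono_L S
  exact Functor.PreservesMonomorphisms.of_iso (aPullIso S).symm

theorem injective_aPush (I : EtFppf.AbF S) [Injective I] : Injective ((EtFppf.aPush S).obj I) := by
  haveI := preservesMono_aPull S
  exact Injective.injective_of_adjoint (EtFppf.aAdj S) I

end Pull

section Res

variable (F : EtCoh.Ab S)

/-- Restriction from the fppf site to the small étale site of an object. -/
noncomputable abbrev rTo (T : Over S) : EtFppf.AbF S ⥤ EtCoh.Ab T.left :=
  E S ⋙ BigSite.pullBig Scheme.etalePrecoverage T.hom AddCommGrpCat.{u + 1} ⋙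
    BigSite.resEt Scheme.etalePrecoverage T.left

theorem injective_rTo (T : Over S) (G : EtFppf.AbF S) [Injective G] : Injective ((rTo T).obj G) := by
  haveI := injective_E G
  exact H13Desc.BigExact.injective_resEtAlong Scheme.etalePrecoverage T.hom ((E S).obj G)

theorem mem_smallEtale {X : Scheme.{u}} (W : X.Etale) (R : Sieve W)
    (h : ∀ x : W.left, ∃ (Y : X.Etale) (f : Y ⟶ W) (y : Y.left), R.arrows f ∧ f.left.base y = x) :
    R ∈ X.smallEtaleTopology W := by
  have eY : X.smallEtaleTopology = (X.smallPretopology (P := EtCoh.etaleMP) (Q := EtCoh.etaleMP)).toGrothendieck :=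
    Scheme.smallGrothendieckTopology_eq_toGrothendieck_smallPretopology X le_rfl
  rw [eY]
  refine (Scheme.mem_toGrothendieck_smallPretopology W R).2 fun x => ?_
  obtain ⟨Y, f, y, hR, hy⟩ := h x
  exact ⟨Y, f, y, hR, H18Et.etale_left f, hy⟩

theorem exact_rTo (T : Over S) (q : ℕ) :
    ((ShortComplex.mk _ _ ((Res F).cocomplex.d_comp_d q (q + 1) (q + 1 + 1))).map (rTo T)).Exact := by
  refine exact_of_local.{u + 1, u, u + 1} (J := T.left.smallEtaleTopology) fun W x hx => ?_
  choose V g hg hu y hy using lv F q (etO T W) x hx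
  haveI : Etale W.hom := W.prop
  let Y : W.left → T.left.Etale := fun p => MorphismProperty.Over.mk ⊤ ((g p).left ≫ W.hom)
    (by haveI := hg p; exact inferInstanceAs (Etale ((g p).left ≫ W.hom)))
  let f : ∀ p, Y p ⟶ W := fun p => MorphismProperty.Over.homMk (g p).left rfl trivial
  refine ⟨Sieve.ofArrows Y f, mem_smallEtale W _ fun p => ?_, fun Z k hk => ?_⟩
  · obtain ⟨p', hp'⟩ := hu p
    exact ⟨Y p, f p, p', Sieve.ofArrows_mk Y f p, hp'⟩
  · obtain ⟨p, l, rfl⟩ := (Sieve.mem_ofArrows_iff _ _ _).1 hk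
    have hw : (g p).left ≫ W.hom ≫ T.hom = (V p).hom := Over.w (g p)
    let i : etO T Z ⟶ V p := Over.homMk l.left (by
      show l.left ≫ (V p).hom = Z.hom ≫ T.hom
      rw [← hw, ← MorphismProperty.Over.w l]
      show l.left ≫ (g p).left ≫ W.hom ≫ T.hom = (l.left ≫ (g p).left ≫ W.hom) ≫ T.hom
      simp only [Category.assoc])
    refine ⟨(I F q).map i.op (y p), ?_⟩
    refine (nat_app (dI F q) i (y p)).trans ((congrArg _ (hy p)).trans ?_)
    refine (Sections.map_map ((Res F).cocomplex.X (q + 1)) i (g p) x).trans ?_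
    exact Sections.map_congr ((Res F).cocomplex.X (q + 1))
      (show i ≫ g p = etMap T (l ≫ f p) from Over.OverMorphism.ext rfl) x

/-- The augmentation on the small site of an object. -/
noncomputable def ι₁ (T : Over S) : IntDesc.G F T ⟶ (rTo T).obj ((Res F).cocomplex.X 0) :=
  (BigSite.resEt Scheme.etalePrecoverage T.left).map
    ((BigSite.pullBig Scheme.etalePrecoverage T.hom AddCommGrpCat.{u + 1}).map
      (η (bigSh F) ≫ (E S).map ((Res F).ι.f 0)))

/-- The restricted complex. -/
noncomputable abbrev resCx (T : Over S) : CochainComplex (EtCoh.Ab T.left) ℕ :=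
  ((rTo T).mapHomologicalComplex (ComplexShape.up ℕ)).obj (Res F).cocomplex

theorem ι₁_comp_d (T : Over S) : ι₁ F T ≫ (resCx F T).d 0 1 = 0 := by
  ext W x
  exact dI_ιI F (etO T W.unop) x

/-- The augmentation as a map of complexes. -/
noncomputable def ιC (T : Over S) : (CochainComplex.single₀ _).obj (IntDesc.G F T) ⟶ resCx F T :=
  (CochainComplex.fromSingle₀Equiv _ _).symm ⟨ι₁ F T, ι₁_comp_d F T⟩

theorem mono_ι₁ (T : Over S) : Mono (ι₁ F T) := by
  haveI : ∀ W, Mono ((ι₁ F T).hom.app W) := fun W =>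
    (AddCommGrpCat.mono_iff_injective _).2 (ιI_injective F (etO T W.unop))
  haveI : Mono ((sheafToPresheaf _ _).map (ι₁ F T)) :=
    @NatTrans.mono_of_mono_app _ _ _ _ _ _ (ι₁ F T).hom this
  exact (sheafToPresheaf _ _).mono_of_mono_map this

theorem quasiIso_ιC (T : Over S) : QuasiIso (ιC F T) := by
  refine ⟨fun n => ?_⟩
  cases n with
  | zero =>
    rw [CochainComplex.quasiIsoAt₀_iff, ShortComplex.quasiIso_iff_of_zeros]
    · refine (ShortComplex.exact_and_mono_f_iff_of_iso
        (S₂ := ShortComplex.mk (ι₁ F T) ((resCx F T).d 0 1) (ι₁_comp_d F T)) ?_).2 ⟨?_, mono_ι₁ F T⟩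
      · exact ShortComplex.isoMk (Iso.refl _) (Iso.refl _) (Iso.refl _)
          (by simp [ιC]) (by simp)
      · refine exact_of_local.{u + 1, u, u + 1} (J := T.left.smallEtaleTopology) fun W x hx => ⟨⊤, GrothendieckTopology.top_mem _ _, fun Z f _ => ?_⟩
        obtain ⟨p, hp⟩ := exists_ιI_eq F (etO T W) x hx
        exact ⟨(bigSh F).obj.map (etMap T f).op p,
          (nat_app (ιI F) (etMap T f) p).trans (congrArg _ hp)⟩
    all_goals first | rfl | exact (resCx F T).shape 0 0 (by simp)
  | succ n =>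
    rw [quasiIsoAt_iff_exactAt _ _ (CochainComplex.exactAt_succ_single_obj _ _),
      HomologicalComplex.exactAt_iff' _ n (n + 1) (n + 1 + 1) (by simp) (by simp)]
    exact exact_rTo F T n

/-- The resolution on the small site of an object. -/
noncomputable def smallRes (T : Over S) : InjectiveResolution (IntDesc.G F T) where
  cocomplex := resCx F T
  injective n := injective_rTo T _
  ι := ιC F T
  quasiIso := quasiIso_ιC F T

/-- Sections of the resolution, as a functor of the object. -/
noncomputable def Kfun : (Over S)ᵒᵖ ⥤ CochainComplex AddCommGrpCat.{u + 1} ℕ where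
  obj W :=
    { X := fun j => (I F j).obj W
      d := fun i j => ((Res F).cocomplex.d i j).hom.app W
      shape := fun i j h => by
        have h0 : (Res F).cocomplex.d i j = 0 := (Res F).cocomplex.shape i j h
        rw [h0]; rfl
      d_comp_d' := fun i j k _ _ => by
        refine (congr_app (congrArg (fun m => m.hom) ((Res F).cocomplex.d_comp_d i j k)) W) }
  map h :=
    { f := fun j => (I F j).map h
      comm' := fun i j _ => ((Res F).cocomplex.d i j).hom.naturality h }
  map_id W := by ext j : 1; exact (I F j).map_id W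
  map_comp g h := by ext j : 1; exact (I F j).map_comp g h

/-- The object over the whole of `T`. -/
noncomputable def topIso (T : Over S) : etO T (EtCoh.top T.left) ≅ T :=
  Over.isoMk (Iso.refl _) (by
    show 𝟙 _ ≫ T.hom = 𝟙 _ ≫ T.hom
    rfl)

/-- **Sections of the fppf resolution compute étale cohomology.** -/
theorem nonempty_homology_iso (T : Over S) (n : ℕ) :
    Nonempty (((Kfun F).obj (op T)).homology n ≅
      AddCommGrpCat.of (EtCoh.H T.left ((EtCoh.pull T.hom).obj F) n)) := by
  let G' : EtCoh.Ab T.left ⥤ AddCommGrpCat.{u + 1} :=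
    sheafToPresheaf _ _ ⋙ (evaluation _ AddCommGrpCat.{u + 1}).obj (op (EtCoh.top T.left))
  let e : EtCoh.top T.left ⟶ EtCoh.top T.left := 𝟙 _
  let i₁ : RDExt.cx G' (smallRes F T) ≅ (Kfun F).obj (op (etO T (EtCoh.top T.left))) :=
    HomologicalComplex.Hom.isoOfComponents (fun _ => Iso.refl _)
      (fun _ _ _ => (Category.id_comp _).trans (Category.comp_id _).symm)
  exact ⟨(HomologicalComplex.homologyFunctor _ _ n).mapIso
      ((Kfun F).mapIso (topIso T).op ≪≫ i₁.symm) ≪≫
    (RDExt.homologyEquiv (Zc.{u + 1, u, u + 1} T.left.smallEtaleTopology) G'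
      (sectEquiv (EtCore.topIsTerminal T.left))
      (fun _ _ f s => sectEquiv_map (EtCore.topIsTerminal T.left) f s) (smallRes F T) n).toAddCommGrpIso ≪≫
    (EtCoh.HF T.left n).mapIso (H13Desc.BigRes.resPiIso T.hom F)⟩

/-- Cohomology of `π⁻¹F` on the fppf site. -/
theorem nonempty_HF_iso (n : ℕ) :
    Nonempty (AddCommGrpCat.of (EtFppf.HF S (QF F) n) ≅ ((Kfun F).obj (op (Over.mk (𝟙 S)))).homology n) := by
  let G' : EtFppf.AbF S ⥤ AddCommGrpCat.{u + 1} :=
    sheafToPresheaf _ _ ⋙ (evaluation _ AddCommGrpCat.{u + 1}).obj (op (Over.mk (𝟙 S)))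
  let i₁ : RDExt.cx G' (Res F) ≅ (Kfun F).obj (op (Over.mk (𝟙 S))) :=
    HomologicalComplex.Hom.isoOfComponents (fun _ => Iso.refl _)
      (fun _ _ _ => (Category.id_comp _).trans (Category.comp_id _).symm)
  exact ⟨(RDExt.homologyEquiv (Zc.{u + 1, u, u + 1} (EtFppf.J S)) G'
      (sectEquiv (Over.mkIdTerminal : IsTerminal (Over.mk (𝟙 S))))
      (fun _ _ f s => sectEquiv_map _ f s) (Res F) n).toAddCommGrpIso.symm ≪≫
    (HomologicalComplex.homologyFunctor _ _ n).mapIso i₁⟩

variable [EtFppf.ACont S]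

/-- Higher direct images of `π⁻¹F` to the small site vanish. -/
theorem isZero_RaPush (q : ℕ) : IsZero ((EtFppf.RaPush S (q + 1)).obj (QF F)) := by
  refine IsZero.of_iso ?_ ((Res F).isoRightDerivedObj (EtFppf.aPush S) (q + 1))
  refine (HomologicalComplex.exactAt_iff_isZero_homology _ _).1 ?_
  rw [HomologicalComplex.exactAt_iff' _ q (q + 1) (q + 1 + 1) (by simp) (by simp)]
  refine exact_of_local.{u + 1, u, u + 1} (J := S.smallEtaleTopology) fun W x hx => ?_
  choose V g hg hu y hy using lv F q ((EtFppf.a S).obj W) x hx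
  haveI : Etale W.hom := W.prop
  let Y : W.left → S.Etale := fun p => MorphismProperty.Over.mk ⊤ ((g p).left ≫ W.hom)
    (by haveI := hg p; exact inferInstanceAs (Etale ((g p).left ≫ W.hom)))
  let f : ∀ p, Y p ⟶ W := fun p => MorphismProperty.Over.homMk (g p).left rfl trivial
  refine ⟨Sieve.ofArrows Y f, mem_smallEtale W _ fun p => ?_, fun Z k hk => ?_⟩
  · obtain ⟨p', hp'⟩ := hu p
    exact ⟨Y p, f p, p', Sieve.ofArrows_mk Y f p, hp'⟩
  · obtain ⟨p, l, rfl⟩ := (Sieve.mem_ofArrows_iff _ _ _).1 hk
    have hw : (g p).left ≫ W.hom = (V p).hom := Over.w (g p)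
    let i : (EtFppf.a S).obj Z ⟶ V p := Over.homMk l.left (by
      show l.left ≫ (V p).hom = Z.hom
      rw [← hw, ← MorphismProperty.Over.w l]
      rfl)
    refine ⟨(I F q).map i.op (y p), ?_⟩
    refine (nat_app (dI F q) i (y p)).trans ((congrArg _ (hy p)).trans ?_)
    refine (Sections.map_map ((Res F).cocomplex.X (q + 1)) i (g p) x).trans ?_
    exact Sections.map_congr ((Res F).cocomplex.X (q + 1))
      (show i ≫ g p = (EtFppf.a S).map (l ≫ f p) from Over.OverMorphism.ext rfl) x

end Res

end Groth.Agent.H15Site.FppfEt
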