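import Groth.Agent.H15Site.FppfEt.Sections
import Groth.Prelude.Def_BigSite
import Groth.Agent.S1379
import Mathlib.AlgebraicGeometry.Sites.Pretopology
import Mathlib.AlgebraicGeometry.Morphisms.Flat
import Mathlib.AlgebraicGeometry.Limits

/-!
# Coverings in the big étale and fppf sites
-/

set_option autoImplicit false
set_option linter.style.haveILetI false
set_option linter.unusedSectionVars false
set_option backward.isDefEq.respectTransparency false
set_option backward.isDefEq.respectTransparency.types false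

universe u

open CategoryTheory CategoryTheory.Limits AlgebraicGeometry Opposite

namespace Groth.Agent.H15Site.FppfEt

variable {S : Scheme.{u}}

theorem ofArrows_mem_etale {U : Over S} {ι : Type*} (Z : ι → Over S) (f : ∀ i, Z i ⟶ U)
    (he : ∀ i, Etale (f i).left) (hs : ∀ x : U.left, ∃ i, x ∈ Set.range (f i).left.base) :
    Sieve.ofArrows Z f ∈ QuotSh.J Scheme.etalePrecoverage S U := by
  rw [GrothendieckTopology.mem_over_iff, Sieve.overEquiv_ofArrows]
  refine Precoverage.generate_mem_toGrothendieck ?_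
  show _ ∈ (Scheme.precoverage @Etale) U.left
  rw [Scheme.ofArrows_mem_precoverage_iff]
  exact ⟨fun t => by obtain ⟨i, hi⟩ := hs t; exact ⟨i, hi⟩, he⟩

theorem ofArrows_mem_fppf {U : Over S} {ι : Type*} (Z : ι → Over S) (f : ∀ i, Z i ⟶ U)
    (hflat : ∀ i, Flat (f i).left) (hlfp : ∀ i, LocallyOfFinitePresentation (f i).left)
    (hs : ∀ x : U.left, ∃ i, x ∈ Set.range (f i).left.base) :
    Sieve.ofArrows Z f ∈ QuotSh.J Scheme.fppfPrecoverage S U := by
  rw [GrothendieckTopology.mem_over_iff, Sieve.overEquiv_ofArrows]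
  refine Precoverage.generate_mem_toGrothendieck ?_
  show _ ∈ (Scheme.precoverage (@Flat ⊓ @LocallyOfFinitePresentation)) U.left
  rw [Scheme.ofArrows_mem_precoverage_iff]
  exact ⟨fun t => by obtain ⟨i, hi⟩ := hs t; exact ⟨i, hi⟩, fun i => ⟨hflat i, hlfp i⟩⟩

theorem bot_mem_etale (U : Over S) [IsEmpty U.left] :
    (⊥ : Sieve U) ∈ QuotSh.J Scheme.etalePrecoverage S U := by
  rw [GrothendieckTopology.mem_over_iff, OrderIso.map_bot]
  exact Scheme.bot_mem_grothendieckTopology (P := @Etale) U.left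

/-- Sections on disjoint opens covering an object glue. -/
theorem exists_glue_opens (Q : BigSite.Ab Scheme.etalePrecoverage S) {U : Over S} {ι : Type u}
    (O : ι → U.left.Opens) (hd : ∀ i j, i ≠ j → Disjoint (O i) (O j)) (hc : ⨆ i, O i = ⊤)
    (s : ∀ i, Q.obj.obj (op (Over.mk ((O i).ι ≫ U.hom)))) :
    ∃ x, ∀ i, Q.obj.map (Over.homMk (U := Over.mk ((O i).ι ≫ U.hom)) (V := U) (O i).ι rfl).op x = s i := by
  refine Sections.exists_glue Q _ (fun i => Over.homMk (U := Over.mk ((O i).ι ≫ U.hom)) (V := U) (O i).ι rfl)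
    (ofArrows_mem_etale _ _ (fun i => inferInstanceAs (Etale (O i).ι)) fun x => ?_)
    (fun i j T a b hab => ?_) s
  · obtain ⟨i, hi⟩ := TopologicalSpace.Opens.mem_iSup.1 (show x ∈ ⨆ i, O i from hc ▸ trivial)
    exact ⟨i, ⟨x, hi⟩, rfl⟩
  · have hl : a.left ≫ (O i).ι = b.left ≫ (O j).ι := congrArg (fun m => m.left) hab
    by_cases hij : i = j
    · subst hij
      refine Or.inl ⟨rfl, Over.OverMorphism.ext ?_⟩
      rw [← cancel_mono (O i).ι]
      simpa using hl
    · haveI : IsEmpty T.left := ⟨fun x => by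
        let ai : T.left ⟶ (O i).toScheme := a.left
        let bj : T.left ⟶ (O j).toScheme := b.left
        have e : ((ai.base x).1 : U.left) = (bj.base x).1 := congrArg (fun k : T.left ⟶ U.left => k.base x) hl
        exact Set.disjoint_left.1 (TopologicalSpace.Opens.coe_disjoint.2 (hd i j hij)) (ai.base x).2
          (e ▸ (bj.base x).2)⟩
      exact Or.inr (bot_mem_etale T)

/-- An fppf covering sieve contains an fppf family. -/
theorem exists_family_of_mem_fppf {U : Over S} {R : Sieve U} (hR : R ∈ QuotSh.J Scheme.fppfPrecoverage S U) :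
    ∃ (ι : Type u) (Z : ι → Over S) (f : ∀ i, Z i ⟶ U),
      (∀ i, Flat (f i).left) ∧ (∀ i, LocallyOfFinitePresentation (f i).left) ∧
        (∀ x : U.left, ∃ i, x ∈ Set.range (f i).left.base) ∧ ∀ i, R.arrows (f i) := by
  rw [GrothendieckTopology.mem_over_iff] at hR
  haveI : MorphismProperty.IsMultiplicative (@Flat ⊓ @LocallyOfFinitePresentation : MorphismProperty Scheme.{u}) :=
    { id_mem := fun X => ⟨inferInstanceAs (Flat (𝟙 X)), inferInstanceAs (LocallyOfFinitePresentation (𝟙 X))⟩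
      comp_mem := fun a b ha hb => by
        have := ha.1; have := ha.2; have := hb.1; have := hb.2
        exact ⟨inferInstanceAs (Flat (a ≫ b)), inferInstanceAs (LocallyOfFinitePresentation (a ≫ b))⟩ }
  obtain ⟨𝒰, h𝒰⟩ := Scheme.mem_grothendieckTopology_iff (P := @Flat ⊓ @LocallyOfFinitePresentation).1 hR
  refine ⟨𝒰.I₀, fun i => Over.mk (𝒰.f i ≫ U.hom), fun i => Over.homMk (𝒰.f i) rfl,
    fun i => (𝒰.map_prop i).1, fun i => (𝒰.map_prop i).2, fun x => ?_,
    fun i => (Sieve.overEquiv_iff R _).1 (h𝒰 _ _ ⟨i⟩)⟩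
  obtain ⟨i, y, hy⟩ := 𝒰.exists_eq x
  exact ⟨i, y, hy⟩

/-- An fppf covering sieve is, on an étale neighbourhood of any point, dominated Zariski locally on a finite
flat covering. -/
theorem exists_finite_flat_nbhd {U : Over S} {R : Sieve U} (hR : R ∈ QuotSh.J Scheme.fppfPrecoverage S U)
    (u : U.left) :
    ∃ (V : Over S) (g : V ⟶ U) (T : Scheme.{u}) (π : T ⟶ V.left),
      Etale g.left ∧ u ∈ Set.range g.left.base ∧ Surjective π ∧ IsFinite π ∧ Flat π ∧
        LocallyOfFinitePresentation π ∧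
        ∀ t : T, ∃ (O : T.Opens), t ∈ O ∧
          R.arrows (Over.homMk (U := Over.mk (O.ι ≫ π ≫ g.left ≫ U.hom)) (V := U) (O.ι ≫ π ≫ g.left)
            (by simp)) := by
  obtain ⟨ι, Z, f, hflat, hlfp, hs, hf⟩ := exists_family_of_mem_fppf hR
  let p : ∐ (fun i => (Z i).left) ⟶ U.left := Limits.Sigma.desc fun i => (f i).left
  haveI : Flat p := IsZariskiLocalAtSource.sigmaDesc hflat
  haveI : LocallyOfFinitePresentation p := IsZariskiLocalAtSource.sigmaDesc hlfp
  haveI : Surjective p := ⟨fun x => by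
    obtain ⟨i, y, hy⟩ := hs x
    exact ⟨(Limits.Sigma.ι (fun i => (Z i).left) i).base y, ((Scheme.Hom.comp_apply _ _ _).symm.trans
      ((congrArg (fun k : (Z i).left ⟶ U.left => k.base y) (Sigma.ι_desc _ i)).trans hy))⟩⟩
  obtain ⟨S', T, e, π, he, hu, h1, h2, h3, h4, hT⟩ := S1379.result p u
  refine ⟨Over.mk (e ≫ U.hom), Over.homMk e rfl, T, π, he, hu, h1, h2, h3, h4, fun t => ?_⟩
  obtain ⟨W, r, htW, hr⟩ := hT t
  obtain ⟨i, y, hy⟩ := (sigmaOpenCover fun i => (Z i).left).exists_eq (r.base ⟨t, htW⟩)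
  let O' : W.toScheme.Opens := r ⁻¹ᵁ (Limits.Sigma.ι (fun i => (Z i).left) i).opensRange
  let O : T.Opens := W.ι ''ᵁ O'
  refine ⟨O, ⟨⟨t, htW⟩, ⟨y, hy⟩, rfl⟩, ?_⟩
  have hOW : O ≤ W := by
    rintro _ ⟨x, -, rfl⟩
    exact x.2
  let k : O.toScheme ⟶ (Z i).left := IsOpenImmersion.lift (Limits.Sigma.ι (fun i => (Z i).left) i)
    (T.homOfLE hOW ≫ r) (by
      rintro _ ⟨x, rfl⟩
      obtain ⟨x', hx', hx''⟩ := x.2
      have : (T.homOfLE hOW).base x = x' := W.ι.injective
        (((congrArg (fun k : O.toScheme ⟶ T => k.base x) (T.homOfLE_ι hOW))).trans hx''.symm)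
      rw [Scheme.Hom.comp_apply, this]
      exact hx')
  have hk : k ≫ (f i).left = O.ι ≫ π ≫ e := by
    rw [show (f i).left = Limits.Sigma.ι (fun i => (Z i).left) i ≫ p from
        (Sigma.ι_desc (fun i => (f i).left) i).symm,
      ← Category.assoc, IsOpenImmersion.lift_fac, Category.assoc, hr, Scheme.homOfLE_ι_assoc]
  let l : Over.mk (O.ι ≫ π ≫ e ≫ U.hom) ⟶ Z i := Over.homMk k (by
    show k ≫ (Z i).hom = O.ι ≫ π ≫ e ≫ U.hom
    rw [← Over.w (f i), ← Category.assoc, hk]
    simp)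
  have he' : l ≫ f i = (Over.homMk (O.ι ≫ π ≫ e) (by simp) : Over.mk (O.ι ≫ π ≫ e ≫ U.hom) ⟶ U) :=
    Over.OverMorphism.ext hk
  exact he' ▸ R.downward_closed (hf i) l

end Groth.Agent.H15Site.FppfEt
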