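import Groth.Agent.H15Site.FppfEt.PiDescent
import Mathlib.CategoryTheory.Sites.LocallyBijective
import Mathlib.CategoryTheory.Adjunction.Restrict

/-!
# Inverse images from the small étale site are fppf sheaves

`η : π⁻¹F ⟶ ε_*(fppf sheafification of π⁻¹F)` is an isomorphism.
-/

set_option autoImplicit false
set_option linter.style.haveILetI false
set_option linter.unusedSectionVars false
set_option backward.isDefEq.respectTransparency false
set_option backward.isDefEq.respectTransparency.types false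

universe u

open CategoryTheory CategoryTheory.Limits AlgebraicGeometry Opposite Simplicial

namespace Groth.Agent.H15Site.FppfEt

open Groth.Agent.H15Site.IntDesc (bigSh)

variable (S : Scheme.{u})

/-- `ε_*`. -/
noncomputable abbrev E : EtFppf.AbF S ⥤ BigSite.Ab Scheme.etalePrecoverage S :=
  BigSite.eps Scheme.etalePrecoverage Scheme.fppfPrecoverage S AddCommGrpCat.{u + 1}

/-- fppf sheafification of étale sheaves. -/
noncomputable abbrev L : BigSite.Ab Scheme.etalePrecoverage S ⥤ EtFppf.AbF S :=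
  sheafToPresheaf _ _ ⋙ presheafToSheaf (EtFppf.J S) AddCommGrpCat.{u + 1}

variable {S}

/-- The unit. -/
noncomputable def η (P : BigSite.Ab Scheme.etalePrecoverage S) : P ⟶ (E S).obj ((L S).obj P) :=
  ⟨toSheafify (EtFppf.J S) P.obj⟩

theorem powBase_one {B T : Scheme.{u}} (π : T ⟶ B) :
    ∃ e : widePullback B (fun _ : Fin 1 => T) (fun _ => π) ≅ T, IntDesc.powBase π 1 = e.hom ≫ π :=
  ⟨{ hom := WidePullback.π (fun _ : Fin 1 => π) 0
     inv := WidePullback.lift π (fun _ => 𝟙 T) (fun _ => Category.id_comp _)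
     hom_inv_id := WidePullback.hom_ext _ _ _
       (fun j => by
         rw [Category.assoc, WidePullback.lift_π, Category.id_comp, Category.comp_id, Subsingleton.elim j 0])
       (by rw [Category.assoc, WidePullback.lift_base, Category.id_comp, WidePullback.π_arrow])
     inv_hom_id := WidePullback.lift_π _ _ _ _ _ },
   (WidePullback.π_arrow (fun _ : Fin 1 => π) 0).symm⟩

variable {B : Over S} {T : Scheme.{u}} (π : T ⟶ B.left) [Flat π] [LocallyOfFinitePresentation π]
  [Surjective π]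

/-- The augmentation is an fppf covering. -/
theorem augm_mem_fppf (V : B.left.Etale) :
    Sieve.ofArrows (fun _ : PUnit.{u + 1} => ob (Kv π V) 0) (fun _ => augm (Kv π V) 0) ∈
      QuotSh.J Scheme.fppfPrecoverage S (etO B V) := by
  obtain ⟨e, he⟩ := powBase_one π
  haveI : IsIso e.hom := e.isIso_hom
  haveI : Flat (IntDesc.powBase π 1) := he.symm ▸ inferInstanceAs (Flat (e.hom ≫ π))
  haveI : LocallyOfFinitePresentation (IntDesc.powBase π 1) :=
    he.symm ▸ inferInstanceAs (LocallyOfFinitePresentation (e.hom ≫ π))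
  haveI : Surjective (IntDesc.powBase π 1) := he.symm ▸ inferInstanceAs (Surjective (e.hom ≫ π))
  haveI hs : Surjective (pullback.fst V.hom (IntDesc.powBase π 1)) :=
    MorphismProperty.pullback_fst (P := @Surjective) _ _ inferInstance
  exact ofArrows_mem_fppf _ _
    (fun _ => MorphismProperty.pullback_fst (P := @Flat) V.hom (IntDesc.powBase π 1)
      (inferInstanceAs (Flat (IntDesc.powBase π 1))))
    (fun _ => MorphismProperty.pullback_fst (P := @LocallyOfFinitePresentation) V.hom (IntDesc.powBase π 1)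
      (inferInstanceAs (LocallyOfFinitePresentation (IntDesc.powBase π 1))))
    fun x => ⟨PUnit.unit, hs.surj x⟩

theorem ee_injective_fppf (G : EtFppf.AbF S) (V : B.left.Etale) {x y : G.obj.obj (op (etO B V))}
    (h : ee G.obj (Kv π V) x = ee G.obj (Kv π V) y) : x = y :=
  Sections.eq_of_family G _ _ (augm_mem_fppf π V) fun _ => h

section Cmp

variable (F : EtCoh.Ab S)

/-- The composite neighbourhood. -/
noncomputable abbrev toU {U V : Over S} (g : V ⟶ U) (V₁ : V.left.Etale) : etO V V₁ ⟶ U :=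
  Over.homMk (U := etO V V₁) V₁.hom rfl ≫ g

/-- Zariski locally, the first level of the nerve over the whole object lies in the sieve. -/
theorem exists_piece {U V : Over S} (g : V ⟶ U) {T : Scheme.{u}} (π : T ⟶ V.left) {R : Sieve U}
    (hT : ∀ t : T, ∃ (O : T.Opens), t ∈ O ∧
      R.arrows (Over.homMk (U := Over.mk (O.ι ≫ π ≫ g.left ≫ U.hom)) (V := U) (O.ι ≫ π ≫ g.left)
        (by simp)))
    (V₁ : V.left.Etale) (x : (ob (Kv π V₁) 0).left) :
    ∃ (Z : Over S) (f : Z ⟶ ob (Kv π V₁) 0), Etale f.left ∧ x ∈ Set.range f.left.base ∧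
      R.arrows (f ≫ augm (Kv π V₁) 0 ≫ toU g V₁) := by
  let r : (ob (Kv π V₁) 0).left ⟶ T :=
    pullback.snd V₁.hom (IntDesc.powBase π 1) ≫ WidePullback.π (fun _ : Fin 1 => π) 0
  obtain ⟨O, hxO, hO⟩ := hT (r.base x)
  let W : (ob (Kv π V₁) 0).left.Opens := r ⁻¹ᵁ O
  refine ⟨Over.mk (W.ι ≫ (ob (Kv π V₁) 0).hom), Over.homMk W.ι rfl, inferInstanceAs (Etale W.ι),
    ⟨⟨x, hxO⟩, rfl⟩, ?_⟩
  have hr : r ≫ π = pullback.fst V₁.hom (IntDesc.powBase π 1) ≫ V₁.hom := by
    rw [pullback.condition, Category.assoc, WidePullback.π_arrow]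
  have hk : r.resLE O W le_rfl ≫ O.ι ≫ π ≫ g.left = W.ι ≫ pullback.fst V₁.hom (IntDesc.powBase π 1) ≫ V₁.hom ≫ g.left := by
    rw [← Category.assoc (r.resLE O W le_rfl), Scheme.Hom.resLE_comp_ι, Category.assoc,
      ← Category.assoc r, hr, Category.assoc]
  let f : Over.mk (W.ι ≫ (ob (Kv π V₁) 0).hom) ⟶ U :=
    (Over.homMk W.ι rfl : Over.mk (W.ι ≫ (ob (Kv π V₁) 0).hom) ⟶ ob (Kv π V₁) 0) ≫ augm (Kv π V₁) 0 ≫ toU g V₁
  let l : Over.mk (W.ι ≫ (ob (Kv π V₁) 0).hom) ⟶ Over.mk (O.ι ≫ π ≫ g.left ≫ U.hom) :=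
    Over.homMk (r.resLE O W le_rfl) (by
      refine Eq.trans ?_ (Over.w f)
      show r.resLE O W le_rfl ≫ O.ι ≫ π ≫ g.left ≫ U.hom =
        (W.ι ≫ pullback.fst V₁.hom (IntDesc.powBase π 1) ≫ V₁.hom ≫ g.left) ≫ U.hom
      rw [← hk]
      simp only [Category.assoc])
  have e : l ≫ (Over.homMk (O.ι ≫ π ≫ g.left) (by simp) : Over.mk (O.ι ≫ π ≫ g.left ≫ U.hom) ⟶ U) = f :=
    Over.OverMorphism.ext hk
  show R.arrows f
  rw [← e]
  exact R.downward_closed hO l

theorem η_app_injective (U : Over S) (s : (bigSh F).obj.obj (op U))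
    (hs : (η (bigSh F)).hom.app (op U) s = 0) : s = 0 := by
  have hR := Presheaf.equalizerSieve_mem (EtFppf.J S) (toSheafify (EtFppf.J S) (bigSh F).obj) s 0
    (hs.trans (map_zero _).symm)
  choose V g T π hg hu h1 h2 h3 h4 hT using fun u : U.left => exists_finite_flat_nbhd hR u
  refine Sections.eq_of_family (bigSh F) (fun u => etO (V u) (EtCoh.top (V u).left))
    (fun u => toU (g u) (EtCoh.top (V u).left))
    (ofArrows_mem_etale _ _ (fun u => by
      haveI := hg u
      exact inferInstanceAs (Etale (𝟙 _ ≫ (g u).left))) fun u => ?_) fun u => ?_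
  · obtain ⟨v, hv⟩ := hu u
    exact ⟨u, v, hv⟩
  · haveI := h1 u; haveI := h2 u; haveI := h3 u; haveI := h4 u
    rw [map_zero]
    refine ee_injective F (π u) _ _ ?_
    choose Z f hf hx hZ using exists_piece (g u) (π u) (hT u) (EtCoh.top (V u).left)
    refine Sections.eq_of_family (bigSh F) Z f (ofArrows_mem_etale _ _ hf fun x => ⟨x, hx x⟩) fun x => ?_
    rw [map_zero]
    refine (Sections.map_map (bigSh F) _ _ _).trans ((Sections.map_map (bigSh F) _ _ s).trans ?_)
    rw [Category.assoc]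
    exact (hZ x).trans (map_zero _)

theorem η_app_surjective_local (U : Over S) (t : ((L S).obj (bigSh F)).obj.obj (op U)) (u : U.left) :
    ∃ (V : Over S) (g : V ⟶ U), Etale g.left ∧ u ∈ Set.range g.left.base ∧
      ∃ s, (η (bigSh F)).hom.app (op V) s = ((L S).obj (bigSh F)).obj.map g.op t := by
  let Q := (L S).obj (bigSh F)
  have hR := Presheaf.imageSieve_mem (EtFppf.J S) (toSheafify (EtFppf.J S) (bigSh F).obj) (U := op U) t
  obtain ⟨V, g, T, π, hg, ⟨v, hv⟩, h1, h2, h3, h4, hT⟩ := exists_finite_flat_nbhd hR u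
  let V₁ : V.left.Etale := EtCoh.top V.left
  let t₁ : Q.obj.obj (op (ob (Kv π V₁) 0)) := ee Q.obj (Kv π V₁) (Q.obj.map (toU g V₁).op t)
  obtain ⟨V₂, g₂, v₂, hv₂, y, hy⟩ := exists_nbhd_image π (η (bigSh F)) 0 V₁ v t₁ fun x => by
    obtain ⟨Z, f, hf, hx, y, hy⟩ := exists_piece g π hT V₁ x
    refine ⟨Z, f, hf, hx, y, hy.trans ?_⟩
    refine Eq.trans ?_ (Sections.map_map Q _ _ _).symm
    refine Eq.trans ?_ (Sections.map_map Q _ _ t).symm
    rw [Category.assoc]
    rfl
  have hdd : dd (bigSh F).obj (Kv π V₂) 0 y = 0 := by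
    refine η_app_injective F _ _ ((map_dd (Kv π V₂) (η (bigSh F)).hom 0 y).trans ?_)
    refine (congrArg (dd ((E S).obj Q).obj (Kv π V₂) 0) hy).trans ?_
    refine (congrArg (dd Q.obj (Kv π V₂) 0) (map_ρ_ee π Q.obj g₂ _)).trans ?_
    exact dd_ee_apply Q.obj _ _
  obtain ⟨V₃, g₃, v₃, hv₃, c, hc⟩ := exists_nbhd_ee F π V₂ v₂ y hdd
  haveI : Etale V₃.hom := V₃.prop
  refine ⟨etO V V₃, toU g V₃, ?_, ⟨v₃, ?_⟩, c, ee_injective_fppf π Q V₃ ?_⟩
  · exact inferInstanceAs (Etale (V₃.hom ≫ g.left))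
  · have e1 : ∀ {V' V'' : V.left.Etale} (k : V'' ⟶ V') (p : V''.left), V''.hom.base p = V'.hom.base (k.left.base p) :=
      fun k p => ((congrArg (fun m => m.base p) (MorphismProperty.Over.w k)).symm.trans (Scheme.Hom.comp_apply _ _ _))
    show (V₃.hom ≫ g.left).base v₃ = u
    rw [Scheme.Hom.comp_apply, e1 g₃ v₃, hv₃, e1 g₂ v₂, hv₂]
    exact hv
  · refine (map_ee (Kv π V₃) (η (bigSh F)).hom c).symm.trans ?_
    refine (congrArg ((η (bigSh F)).hom.app _) hc).trans ?_
    refine (ConcreteCategory.congr_hom ((η (bigSh F)).hom.naturality (ρ π 0 g₃).op) y).trans ?_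
    refine (congrArg (Q.obj.map (ρ π 0 g₃).op) (hy.trans (map_ρ_ee π Q.obj g₂ _))).trans ?_
    refine (map_ρ_ee π Q.obj g₃ _).trans (congrArg (ee Q.obj (Kv π V₃)) ?_)
    refine (Sections.map_map Q _ _ _).trans ((Sections.map_map Q _ _ t).trans ?_)
    refine Sections.map_congr Q (Over.OverMorphism.ext ?_) t
    show g₃.left ≫ g₂.left ≫ V₁.hom ≫ g.left = V₃.hom ≫ g.left
    rw [← MorphismProperty.Over.w g₃, ← MorphismProperty.Over.w g₂]
    simp only [Category.assoc]

theorem bijective_η_app (U : Over S) : Function.Bijective ((η (bigSh F)).hom.app (op U)) := by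
  refine ⟨(injective_iff_map_eq_zero _).2 (η_app_injective F U), fun t => ?_⟩
  choose V g hg hu s hs using η_app_surjective_local F U t
  have hcov := ofArrows_mem_etale _ g hg fun u => ⟨u, hu u⟩
  have hcomp : Presieve.Arrows.Compatible
      ((bigSh F).obj ⋙ CategoryTheory.forget AddCommGrpCat.{u + 1}) g s := by
    intro i j Z a b hab
    refine sub_eq_zero.1 (η_app_injective F Z _ ?_)
    rw [map_sub, sub_eq_zero]
    refine (ConcreteCategory.congr_hom ((η (bigSh F)).hom.naturality a.op) (s i)).trans ?_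
    refine Eq.trans ?_ (ConcreteCategory.congr_hom ((η (bigSh F)).hom.naturality b.op) (s j)).symm
    refine ((congrArg _ (hs i)).trans (Sections.map_map ((E S).obj ((L S).obj (bigSh F))) a (g i) t)).trans ?_
    refine Eq.trans ?_ ((congrArg _ (hs j)).trans (Sections.map_map ((E S).obj ((L S).obj (bigSh F))) b (g j) t)).symm
    exact Sections.map_congr _ hab t
  have hsh : Presieve.IsSheafFor ((bigSh F).obj ⋙ CategoryTheory.forget AddCommGrpCat.{u + 1})
      (Presieve.ofArrows V g) := by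
    rw [Presieve.isSheafFor_iff_generate]
    exact Sections.isSheafFor (bigSh F) hcov
  obtain ⟨x, hx, -⟩ := (Presieve.isSheafFor_arrows_iff _ _).1 hsh s hcomp
  refine ⟨x, Sections.eq_of_family ((E S).obj ((L S).obj (bigSh F))) V g hcov fun i => ?_⟩
  refine ((ConcreteCategory.congr_hom ((η (bigSh F)).hom.naturality (g i).op) x).symm.trans ?_)
  exact (congrArg _ (hx i)).trans (hs i)

/-- **`π⁻¹F` is an fppf sheaf.** -/
theorem isIso_η : IsIso (η (bigSh F)) := by
  haveI : IsIso (η (bigSh F)).hom := by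
    haveI : ∀ W, IsIso ((η (bigSh F)).hom.app W) := fun W =>
      (ConcreteCategory.isIso_iff_bijective _).2 (bijective_η_app F W.unop)
    exact NatIso.isIso_of_isIso_app _
  haveI : IsIso ((sheafToPresheaf _ _).map (η (bigSh F))) :=
    inferInstanceAs (IsIso (η (bigSh F)).hom)
  exact isIso_of_reflects_iso _ (sheafToPresheaf _ _)

end Cmp

end Groth.Agent.H15Site.FppfEt
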