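import Groth.Agent.H15Site.FppfEt.Apps
import Groth.Agent.H15Site.DoubleSS.Engine
import Groth.Agent.H15Site.IntDesc.PushH
import Mathlib.Algebra.Homology.Augment
import Mathlib.Algebra.Homology.Embedding.ExtendHomology
import Mathlib.Algebra.Homology.HomologicalComplexAbelian
import Mathlib.Algebra.Homology.ShortComplex.ExactFunctor

/-!
# The descent spectral sequence of a flat covering, for étale cohomology
-/

set_option autoImplicit false
set_option linter.style.haveILetI false
set_option linter.unusedSectionVars false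
set_option backward.isDefEq.respectTransparency false
set_option backward.isDefEq.respectTransparency.types false

universe u

open CategoryTheory CategoryTheory.Limits AlgebraicGeometry Opposite Simplicial

namespace Groth.Agent.H15Site.FppfEt

open Groth.Agent.H15Site.IntDesc (cech powBase)

variable {X S : Scheme.{u}} (f : X ⟶ S)

/-- The Čech nerve over the base is contractible over every map which lifts. -/
theorem hasContr_cech : HasContr (cech f) := by
  intro W g t ht
  have hb : ∀ n (h : W ⟶ ob (cech f) n), h.left ≫ powBase f (n + 1) = W.hom := fun n h => Over.w h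
  have gd : ∀ n (h : W ⟶ ob (cech f) n), h ≫ augm (cech f) n = g := fun n h => by
    refine Over.OverMorphism.ext ?_
    have : g.left = W.hom := (Category.comp_id g.left).symm.trans (Over.w g)
    exact (hb n h).trans this.symm
  let t0 : W.left ⟶ X := t.left ≫ WidePullback.π (fun _ : Fin 1 => f) 0
  have ht0 : t0 ≫ f = W.hom := by
    rw [Category.assoc, WidePullback.π_arrow]; exact hb 0 t
  let σ : ∀ n, (W ⟶ ob (cech f) n) → (W ⟶ ob (cech f) (n + 1)) := fun n h =>
    Over.homMk (WidePullback.lift W.hom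
      (Fin.cases t0 fun i => h.left ≫ WidePullback.π (fun _ : Fin (n + 1) => f) i)
      (fun j => by
        cases j using Fin.cases with
        | zero => exact ht0
        | succ i => rw [Fin.cases_succ, Category.assoc, WidePullback.π_arrow]; exact hb n h))
      (WidePullback.lift_base _ _ _ _)
  have ext : ∀ n (a b : W ⟶ ob (cech f) n),
      (∀ i, a.left ≫ WidePullback.π (fun _ : Fin (n + 1) => f) i = b.left ≫ WidePullback.π (fun _ : Fin (n + 1) => f) i) →
      a = b := fun n a b h =>
    Over.OverMorphism.ext (WidePullback.hom_ext _ _ _ h ((hb n a).trans (hb n b).symm))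
  have key : ∀ n (h : W ⟶ ob (cech f) (n + 1)) (j : Fin (n + 2)) (i : Fin (n + 1)),
      (h ≫ (cech f).left.δ j).left ≫ WidePullback.π (fun _ : Fin (n + 1) => f) i =
        h.left ≫ WidePullback.π (fun _ : Fin (n + 2) => f) (j.succAbove i) := fun n h j i => by
    show (h.left ≫ ((cech f).left.δ j).left) ≫ _ = _
    rw [Category.assoc]
    exact congrArg (h.left ≫ ·) (WidePullback.lift_π _ _ _ _ _)
  have σ0 : ∀ n h, (σ n h).left ≫ WidePullback.π (fun _ : Fin (n + 2) => f) 0 = t0 := fun n h =>
    (WidePullback.lift_π _ _ _ _ _).trans (Fin.cases_zero ..)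
  have σS : ∀ n h i, (σ n h).left ≫ WidePullback.π (fun _ : Fin (n + 2) => f) (Fin.succ i) =
      h.left ≫ WidePullback.π (fun _ : Fin (n + 1) => f) i := fun n h i =>
    (WidePullback.lift_π _ _ _ _ _).trans (Fin.cases_succ ..)
  refine ⟨σ, fun n h _ => gd _ _, fun n h _ => ext n _ _ fun i => ?_, fun h _ => ext 0 _ _ fun i => ?_,
    fun n i h _ => ext (n + 1) _ _ fun k => ?_⟩
  · rw [key, Fin.succAbove_zero, σS]
  · rw [key, Fin.fin_one_eq_zero i, show (1 : Fin 2).succAbove 0 = 0 from rfl, σ0]
  · cases k using Fin.cases with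
    | zero => rw [key, Fin.succ_succAbove_zero, σ0, σ0]
    | succ k => rw [key, Fin.succ_succAbove_succ, σS, σS, key]

theorem aug_mem_fppf [Flat f] [LocallyOfFinitePresentation f] [Surjective f] :
    Sieve.ofArrows (fun _ : PUnit.{u + 1} => ob (cech f) 0) (fun _ => augm (cech f) 0) ∈
      QuotSh.J Scheme.fppfPrecoverage S (Over.mk (𝟙 S)) := by
  obtain ⟨e, he⟩ := powBase_one f
  haveI : IsIso e.hom := e.isIso_hom
  haveI hf : Flat (powBase f 1) := he.symm ▸ inferInstanceAs (Flat (e.hom ≫ f))
  haveI hl : LocallyOfFinitePresentation (powBase f 1) :=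
    he.symm ▸ inferInstanceAs (LocallyOfFinitePresentation (e.hom ≫ f))
  haveI hs : Surjective (powBase f 1) := he.symm ▸ inferInstanceAs (Surjective (e.hom ≫ f))
  exact ofArrows_mem_fppf _ _ (fun _ => hf) (fun _ => hl) fun x => ⟨PUnit.unit, hs.surj x⟩

variable (F : EtCoh.Ab S)

/-- The complexes of sections on the nerve. -/
noncomputable def coK : CochainComplex (CochainComplex AddCommGrpCat.{u + 1} ℕ) ℕ :=
  CochainComplex.of (fun n => (Kfun F).obj (op (ob (cech f) n)))
    (fun n => ∑ i : Fin (n + 2), ((-1 : ℤ) ^ (i : ℕ)) • (Kfun F).map ((cech f).left.δ i).op)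
    (fun n => AlgebraicTopology.AlternatingCofaceMapComplex.d_squared ((cech f).left.rightOp ⋙ Kfun F) n)

theorem coK_d_f (n q : ℕ) (x : (I F q).obj (op (ob (cech f) n))) :
    ((coK f F).d n (n + 1)).f q x = dd (I F q) (cech f) n x := by
  rw [show (coK f F).d n (n + 1) =
      ∑ i : Fin (n + 2), ((-1 : ℤ) ^ (i : ℕ)) • (Kfun F).map ((cech f).left.δ i).op by simp [coK], dd_apply]
  let e : ((Kfun F).obj (op (ob (cech f) n)) ⟶ (Kfun F).obj (op (ob (cech f) (n + 1)))) →+
      (I F q).obj (op (ob (cech f) (n + 1))) := AddMonoidHom.mk' (fun φ => φ.f q x) (fun _ _ => rfl)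
  show e _ = _
  rw [map_sum]
  refine Finset.sum_congr rfl fun i _ => ?_
  rw [map_zsmul]
  rfl

theorem aug_d : (Kfun F).map (augm (cech f) 0).op ≫ (coK f F).d 0 1 = 0 := by
  ext q x
  exact (coK_d_f f F 0 q _).trans (dd_ee_apply (I F q) (cech f) x)

/-- The augmented complex of complexes. -/
noncomputable abbrev augK : CochainComplex (CochainComplex AddCommGrpCat.{u + 1} ℕ) ℕ :=
  CochainComplex.augment (coK f F) ((Kfun F).map (augm (cech f) 0).op) (aug_d f F)

variable [Flat f] [LocallyOfFinitePresentation f] [Surjective f]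

theorem exactAt_augK (m : ℕ) : (augK f F).ExactAt m := by
  match m with
  | 0 =>
    rw [HomologicalComplex.exactAt_iff' _ 0 0 1 (by simp) (by simp)]
    refine HomologicalComplex.exact_of_degreewise_exact _ fun q => ?_
    rw [ShortComplex.ab_exact_iff]
    intro x hx
    refine ⟨0, (map_zero _).trans ?_⟩
    exact (Sections.eq_of_family ((Res F).cocomplex.X q) _ _ (aug_mem_fppf f)
      fun _ => hx.trans (map_zero _).symm).symm
  | 1 =>
    rw [HomologicalComplex.exactAt_iff' _ 0 1 2 (by simp) (by simp)]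
    refine HomologicalComplex.exact_of_degreewise_exact _ fun q => ?_
    rw [ShortComplex.ab_exact_iff]
    intro x hx
    haveI : Injective (I F q) := injective_presheaf _
    exact exists_ee_eq (I F q) (hasContr_cech f) x ((coK_d_f f F 0 q x).symm.trans hx)
  | m + 2 =>
    rw [HomologicalComplex.exactAt_iff' _ (m + 1) (m + 2) (m + 3) (by simp) (by simp)]
    refine HomologicalComplex.exact_of_degreewise_exact _ fun q => ?_
    rw [ShortComplex.ab_exact_iff]
    intro x hx
    haveI : Injective (I F q) := injective_presheaf _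
    obtain ⟨c, hc⟩ := exists_dd_eq (I F q) (hasContr_cech f) m x ((coK_d_f f F (m + 1) q x).symm.trans hx)
    exact ⟨c, (coK_d_f f F m q c).trans hc⟩

/-- From degree `-1`. -/
noncomputable abbrev augZ : CochainComplex (CochainComplex AddCommGrpCat.{u + 1} ℕ) ℤ :=
  (augK f F).extend (ComplexShape.embeddingUpIntGE (-1))

theorem exactAt_augZ (p : ℤ) : (augZ f F).ExactAt p := by
  by_cases hp : ∃ m : ℕ, (ComplexShape.embeddingUpIntGE (-1)).f m = p
  · obtain ⟨m, rfl⟩ := hp
    rw [HomologicalComplex.extend_exactAt_iff (augK f F) _ rfl]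
    exact exactAt_augK f F m
  · exact HomologicalComplex.extend_exactAt _ _ p fun j hj => hp ⟨j, hj⟩

/-- The double complex. -/
noncomputable abbrev dbl : DoubleSS.Dbl.{u + 1} :=
  ((ComplexShape.embeddingUpNat.extendFunctor AddCommGrpCat.{u + 1}).mapHomologicalComplex
    (ComplexShape.up ℤ)).obj (augZ f F)

theorem isZero_dbl (p q : ℤ) (hq : q < 0) : IsZero (((dbl f F).X p).X q) :=
  HomologicalComplex.isZero_extend_X _ ComplexShape.embeddingUpNat q fun n hn => by
    simp at hn; omega

theorem dbl_row_exact (p q : ℤ) (x : ((dbl f F).X p).X q)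
    (hx : (((dbl f F).d p (p + 1)).f q).hom x = 0) :
    ∃ y : ((dbl f F).X (p - 1)).X q, (((dbl f F).d (p - 1) p).f q).hom y = x := by
  rcases Int.lt_or_le q 0 with hq | hq
  · have := AddCommGrpCat.subsingleton_of_isZero (isZero_dbl f F p q hq)
    exact ⟨0, @Subsingleton.elim _ this _ _⟩
  · obtain ⟨n, rfl⟩ := Int.eq_ofNat_of_zero_le hq
    let G := HomologicalComplex.eval AddCommGrpCat.{u + 1} (ComplexShape.up ℕ) n
    let G' := ComplexShape.embeddingUpNat.extendFunctor AddCommGrpCat.{u + 1} ⋙
      HomologicalComplex.eval AddCommGrpCat.{u + 1} (ComplexShape.up ℤ) (n : ℤ)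
    let τ : G' ≅ G := NatIso.ofComponents
      (fun K => K.extendXIso ComplexShape.embeddingUpNat (show ComplexShape.embeddingUpNat.f n = (n : ℤ) from rfl))
      (fun {K L} φ => by
        show (HomologicalComplex.extendMap φ _).f (n : ℤ) ≫ _ = _
        rw [HomologicalComplex.extendMap_f _ _ (show ComplexShape.embeddingUpNat.f n = (n : ℤ) from rfl)]
        simp only [Category.assoc, Iso.inv_hom_id, Category.comp_id]
        rfl)
    have h : ((augZ f F).sc' (p - 1) p (p + 1)).Exact :=
      ((augZ f F).exactAt_iff' _ _ _ (by simp) (by simp)).1 (exactAt_augZ f F p)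
    haveI : G'.PreservesZeroMorphisms := Functor.preservesZeroMorphisms_comp _ _
    have h' : (((augZ f F).sc' (p - 1) p (p + 1)).map G').Exact :=
      (ShortComplex.exact_iff_of_iso (ShortComplex.mapNatIso _ τ)).2 (h.map G)
    exact (ShortComplex.ab_exact_iff _).1 h' x hx

/-- **The descent spectral sequence**. -/
theorem descent_spectralSequence
    (E₁ : ℤ → ℤ → AddCommGrpCat.{u + 1}) (H : ℤ → AddCommGrpCat.{u + 1})
    (he : ∀ (p q : ℕ), Nonempty (AddCommGrpCat.of (EtCoh.H (ob (cech f) p).left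
      ((EtCoh.pull (ob (cech f) p).hom).obj F) q) ≅ E₁ p q))
    (hz : ∀ p q : ℤ, ¬ (0 ≤ p ∧ 0 ≤ q) → IsZero (E₁ p q))
    (hH : ∀ n : ℕ, Nonempty (AddCommGrpCat.of (EtCoh.H S F n) ≅ H n))
    (hHz : ∀ n : ℤ, n < 0 → IsZero (H n)) :
    ∃ (E : CohomologicalSpectralSequence AddCommGrpCat.{u + 1} 1) (a : SpSeq.Abutment E H),
      (∀ n, a.IsFinite n) ∧ SpSeq.IsBounded E ∧
      ∀ p q : ℤ, Nonempty ((E.page 1 le_rfl).X (p, q) ≅ E₁ p q) := by
  have col : ∀ (p : ℤ) (m q : ℕ), (ComplexShape.embeddingUpIntGE (-1)).f m = p →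
      Nonempty (((dbl f F).X p).homology (q : ℤ) ≅ ((augK f F).X m).homology q) := fun p m q h =>
    ⟨HomologicalComplex.extendHomologyIso ((augZ f F).X p) ComplexShape.embeddingUpNat (j := q) rfl ≪≫
      (HomologicalComplex.homologyFunctor _ _ q).mapIso
        ((augK f F).extendXIso (ComplexShape.embeddingUpIntGE (-1)) h)⟩
  refine DoubleSS.exists_spectralSequence (dbl f F) (fun p hp => ?_) (isZero_dbl f F)
    (dbl_row_exact f F) E₁ H (fun p q h1 h2 => ?_) hz (fun n => ?_)
  · exact (ComplexShape.embeddingUpNat.extendFunctor AddCommGrpCat.{u + 1}).map_isZero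
      ((augK f F).isZero_extend_X (ComplexShape.embeddingUpIntGE (-1)) p
        fun i (hi : -1 + (i : ℤ) = p) => by omega)
  · obtain ⟨p, rfl⟩ := Int.eq_ofNat_of_zero_le h1
    obtain ⟨q, rfl⟩ := Int.eq_ofNat_of_zero_le h2
    exact ⟨(col p (p + 1) q (show -1 + ((p + 1 : ℕ) : ℤ) = (p : ℤ) by omega)).some ≪≫
      (nonempty_homology_iso F (ob (cech f) p) q).some ≪≫ (he p q).some⟩
  · rcases Int.lt_or_le n 0 with hn | hn
    · refine ⟨IsZero.iso ?_ (hHz n hn)⟩
      exact HomologicalComplex.ExactAt.isZero_homology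
        (ShortComplex.exact_of_isZero_X₂ _ (isZero_dbl f F _ n hn))
    · obtain ⟨n, rfl⟩ := Int.eq_ofNat_of_zero_le hn
      exact ⟨(col (-1) 0 n rfl).some ≪≫ (nonempty_homology_iso F (Over.mk (𝟙 S)) n).some ≪≫
        (EtCoh.HF S n).mapIso ((IntDesc.pullIdIso S).app F) ≪≫ (hH n).some⟩

end Groth.Agent.H15Site.FppfEt
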