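import Groth.Agent.H15Site.FppfEt.Nerve
import Groth.Agent.H18Et.FibrePoints

/-!
# Finite direct images commute with inverse images to the big étale site

`π_S⁻¹(f_* F) ≅ f_{big,*}(π_X⁻¹ F)` for finite `f : X ⟶ S`.
-/

set_option autoImplicit false
set_option linter.style.haveILetI false
set_option linter.unusedSectionVars false
set_option backward.isDefEq.respectTransparency false
set_option backward.isDefEq.respectTransparency.types false

universe u

open CategoryTheory CategoryTheory.Limits AlgebraicGeometry Opposite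

namespace Groth.Agent.H15Site.FppfEt

open Groth.Agent.H15Site.IntDesc (bigSh valEv valEv_germ valEv_bijective valEv_bijective_big)
open Groth.Agent.H18Et

/-- An injective, locally surjective morphism of sheaves on the big étale site is an isomorphism. -/
theorem isIso_of_injective_of_local {S : Scheme.{u}} {A B : BigSite.Ab Scheme.etalePrecoverage S} (φ : A ⟶ B)
    (hi : ∀ (U : Over S) (s : A.obj.obj (op U)), φ.hom.app (op U) s = 0 → s = 0)
    (hl : ∀ (U : Over S) (t : B.obj.obj (op U)) (u : U.left), ∃ (V : Over S) (g : V ⟶ U),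
      Etale g.left ∧ u ∈ Set.range g.left.base ∧ ∃ s, φ.hom.app (op V) s = B.obj.map g.op t) :
    IsIso φ := by
  have hb : ∀ U : Over S, Function.Bijective (φ.hom.app (op U)) := fun U => by
    refine ⟨(injective_iff_map_eq_zero _).2 (hi U), fun t => ?_⟩
    choose V g hg hu s hs using hl U t
    have hcov := ofArrows_mem_etale V g hg fun u => ⟨u, hu u⟩
    have hcomp : Presieve.Arrows.Compatible (A.obj ⋙ CategoryTheory.forget AddCommGrpCat.{u + 1}) g s := by
      intro i j Z a b hab
      refine sub_eq_zero.1 (hi Z _ ?_)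
      rw [map_sub, sub_eq_zero]
      refine (ConcreteCategory.congr_hom (φ.hom.naturality a.op) (s i)).trans ?_
      refine Eq.trans ?_ (ConcreteCategory.congr_hom (φ.hom.naturality b.op) (s j)).symm
      refine ((congrArg _ (hs i)).trans (Sections.map_map B a (g i) t)).trans ?_
      refine Eq.trans ?_ ((congrArg _ (hs j)).trans (Sections.map_map B b (g j) t)).symm
      exact Sections.map_congr _ hab t
    have hsh : Presieve.IsSheafFor (A.obj ⋙ CategoryTheory.forget AddCommGrpCat.{u + 1})
        (Presieve.ofArrows V g) := by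
      rw [Presieve.isSheafFor_iff_generate]
      exact Sections.isSheafFor A hcov
    obtain ⟨x, hx, -⟩ := (Presieve.isSheafFor_arrows_iff _ _).1 hsh s hcomp
    refine ⟨x, Sections.eq_of_family B V g hcov fun i => ?_⟩
    exact ((ConcreteCategory.congr_hom (φ.hom.naturality (g i).op) x).symm.trans
      ((congrArg _ (hx i)).trans (hs i)))
  haveI : IsIso φ.hom := by
    haveI : ∀ W, IsIso (φ.hom.app W) := fun W => (ConcreteCategory.isIso_iff_bijective _).2 (hb W.unop)
    exact NatIso.isIso_of_isIso_app _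
  haveI : IsIso ((sheafToPresheaf _ _).map φ) := inferInstanceAs (IsIso φ.hom)
  exact isIso_of_reflects_iso _ (sheafToPresheaf _ _)

section Points

variable {S : Scheme.{u}} (H : EtCoh.Ab S) {W : Over S}

/-- A section of `π⁻¹H` vanishing at a geometric point vanishes on an étale neighbourhood. -/
theorem exists_nbhd_zero {Ω : Type u} [Field Ω] [IsAlgClosed Ω] (p : Spec (CommRingCat.of Ω) ⟶ W.left)
    (a : (bigSh H).obj.obj (op W))
    (h : (bigSh H).obj.map (Over.homMk (U := Over.mk (p ≫ W.hom)) (V := W) p rfl).op a = 0) :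
    ∃ (Z : Over S) (g : Z ⟶ W), Etale g.left ∧ p.base default ∈ Set.range g.left.base ∧
      (bigSh H).obj.map g.op a = 0 := by
  let HW := (BigSite.pullBig Scheme.etalePrecoverage W.hom AddCommGrpCat.{u + 1}).obj (bigSh H)
  let i : (Over.map W.hom).obj ((EtFppf.a W.left).obj (EtCoh.top W.left)) ⟶ W :=
    Over.homMk (𝟙 _) (by show 𝟙 _ ≫ W.hom = 𝟙 _ ≫ W.hom; rfl)
  let a₀ : EtCoh.sect ((BigSite.resEt Scheme.etalePrecoverage W.left).obj HW) (EtCoh.top W.left) :=
    (bigSh H).obj.map i.op a
  let x₀ : (Scheme.pointSmallEtale p).fiber.obj (EtCoh.top W.left) := Over.homMk p (Category.comp_id _)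
  let HE : EtCoh.Ab W.left := (BigSite.resEt Scheme.etalePrecoverage W.left).obj HW
  have h0 : valEv p HW (germ p HE (EtCoh.top W.left) x₀ a₀) = 0 := by
    rw [valEv_germ]
    refine (Sections.map_map (bigSh H) ((Over.map W.hom).map (show Over.mk p ⟶
      (EtFppf.a W.left).obj (EtCoh.top W.left) from x₀)) i a).trans (Eq.trans ?_ h)
    exact Sections.map_congr (bigSh H) (Over.OverMorphism.ext (Category.comp_id _)) a
  have h1 : germ p HE (EtCoh.top W.left) x₀ a₀ = germ p HE (EtCoh.top W.left) x₀ 0 :=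
    (valEv_bijective_big p W.hom H).1 (h0.trans ((congrArg _ (map_zero _)).trans (map_zero _)).symm)
  obtain ⟨V, g, y, hy, he⟩ := (germ_eq_iff p _ _ x₀ _ _).1 h1
  refine ⟨(Over.map W.hom).obj ((EtFppf.a W.left).obj V), (Over.map W.hom).map ((EtFppf.a W.left).map g) ≫ i, ?_, ?_, ?_⟩
  · haveI := etale_left g
    exact inferInstanceAs (Etale (g.left ≫ 𝟙 _))
  · refine ⟨ptOf y, ?_⟩
    show (g.left ≫ 𝟙 _).base (ptOf y) = p.base default
    refine (congrArg (fun k : V.left ⟶ W.left => k.base (ptOf y)) (Category.comp_id g.left)).trans ?_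
    exact ((ptOf_map g y).trans (congrArg ptOf hy))
  · refine (Sections.map_map (bigSh H) _ i a).symm.trans (he.trans ?_)
    exact map_zero _

theorem exists_geomPt (X : Scheme.{u}) (x : X) : ∃ (Ω : Type u) (_ : Field Ω) (_ : IsAlgClosed Ω)
    (p : Spec (CommRingCat.of Ω) ⟶ X), p.base default = x := by
  refine ⟨AlgebraicClosure (X.residueField x), inferInstance, inferInstance,
    Spec.map (CommRingCat.ofHom (algebraMap (X.residueField x) _)) ≫ X.fromSpecResidueField x, ?_⟩
  exact (Scheme.Hom.comp_apply _ _ _).trans (X.fromSpecResidueField_apply x _)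

/-- A section of `π⁻¹H` vanishing at all geometric points vanishes. -/
theorem eq_zero_of_forall_point (a : (bigSh H).obj.obj (op W))
    (h : ∀ (Ω : Type u) [Field Ω] [IsAlgClosed Ω] (p : Spec (CommRingCat.of Ω) ⟶ W.left),
      (bigSh H).obj.map (Over.homMk (U := Over.mk (p ≫ W.hom)) (V := W) p rfl).op a = 0) : a = 0 := by
  choose Ω _ _ p hp using exists_geomPt W.left
  choose Z g hg hm hz using fun w => exists_nbhd_zero H (p w) a (h (Ω w) (p w))
  refine Sections.eq_of_family (bigSh H) Z g (ofArrows_mem_etale Z g hg fun w => ⟨w, ?_⟩) fun w => ?_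
  · have := hm w; rwa [hp w] at this
  · rw [hz w, map_zero]

end Points

variable {X S : Scheme.{u}} (f : X ⟶ S)

/-- Base change to `X`. -/
noncomputable abbrev pW (W : Over S) : Over X := (Over.pullback f).obj W

set_option maxHeartbeats 800000 in
/-- **Lifting** along base changes of an integral morphism. -/
theorem exists_nbhd_image_pullback [IsIntegralHom f] {Q₁ Q₂ : BigSite.Ab Scheme.etalePrecoverage X}
    (φ : Q₁ ⟶ Q₂) (W : Over S) (w : W.left) (s : Q₂.obj.obj (op (pW f W)))
    (h : ∀ x : (pW f W).left, (pullback.fst W.hom f).base x = w → ∃ (Z : Over X) (g : Z ⟶ pW f W),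
      Etale g.left ∧ x ∈ Set.range g.left.base ∧ ∃ y, φ.hom.app (op Z) y = Q₂.obj.map g.op s) :
    ∃ (W' : Over S) (g : W' ⟶ W), Etale g.left ∧ w ∈ Set.range g.left.base ∧
      ∃ y, φ.hom.app (op (pW f W')) y = Q₂.obj.map ((Over.pullback f).map g).op s := by
  let P := (pW f W).left
  let q0 : P ⟶ W.left := pullback.fst W.hom f
  let κ := {x : P // q0.base x = w}
  choose Z gz hf hx y hy using fun x : κ => h x.1 x.2
  haveI : IsIntegralHom q0 :=
    MorphismProperty.of_isPullback (P := @IsIntegralHom) (IsPullback.of_hasPullback W.hom f).flip inferInstance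
  let d : (∐ fun x : κ => (Z x).left) ⟶ P := Limits.Sigma.desc fun x => (gz x).left
  haveI : IsZariskiLocalAtSource (EtCoh.etaleMP.{u}) := inferInstance
  haveI : Etale d := IsZariskiLocalAtSource.sigmaDesc (P := EtCoh.etaleMP.{u}) hf
  obtain ⟨V, q, hq, ⟨v, hv⟩, a, ha⟩ := exists_etale_section q0 d w fun x hxw => by
    obtain ⟨p, hp⟩ := hx ⟨x, hxw⟩
    exact ⟨(Limits.Sigma.ι (fun x : κ => (Z x).left) ⟨x, hxw⟩).base p, (Scheme.Hom.comp_apply _ _ _).symm.trans
      ((congrArg (fun k : (Z ⟨x, hxw⟩).left ⟶ P => k.base p) (Sigma.ι_desc (fun x : κ => (gz x).left) ⟨x, hxw⟩)).trans hp)⟩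
  let W' : Over S := Over.mk (q ≫ W.hom)
  let g : W' ⟶ W := Over.homMk q rfl
  refine ⟨W', g, hq, ⟨v, hv⟩, ?_⟩
  let r : (pW f W').left ⟶ P := ((Over.pullback f).map g).left
  have hr : r ≫ q0 = pullback.fst W'.hom f ≫ q := pullback.lift_fst _ _ _
  let e : (pW f W').left ⟶ ∐ fun x : κ => (Z x).left :=
    pullback.lift (pullback.fst W'.hom f) r hr.symm ≫ a
  have he : e ≫ d = r := by
    show (pullback.lift _ _ _ ≫ a) ≫ d = r
    rw [Category.assoc, ha, pullback.lift_snd]
  let O : κ → (pW f W').left.Opens := fun x => e ⁻¹ᵁ (Limits.Sigma.ι (fun x : κ => (Z x).left) x).opensRange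
  let k : ∀ x, (O x).toScheme ⟶ (Z x).left := fun x =>
    IsOpenImmersion.lift (Limits.Sigma.ι (fun x : κ => (Z x).left) x) ((O x).ι ≫ e) (by
      rintro _ ⟨p, rfl⟩
      exact p.2)
  have hk : ∀ x, k x ≫ (gz x).left = (O x).ι ≫ r := fun x => by
    rw [show (gz x).left = Limits.Sigma.ι (fun x : κ => (Z x).left) x ≫ d from
        (Sigma.ι_desc (fun x : κ => (gz x).left) x).symm,
      ← Category.assoc, IsOpenImmersion.lift_fac, Category.assoc, he]
  let l : ∀ x, Over.mk ((O x).ι ≫ (pW f W').hom) ⟶ Z x := fun x => Over.homMk (k x) (by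
    show k x ≫ (Z x).hom = (O x).ι ≫ (pW f W').hom
    rw [← Over.w (gz x), ← Category.assoc, hk, Category.assoc]
    exact congrArg ((O x).ι ≫ ·) (Over.w ((Over.pullback f).map g)))
  obtain ⟨Y, hY⟩ := exists_glue_opens Q₁ (U := pW f W') O
    (fun i j hij => TopologicalSpace.Opens.coe_disjoint.1 (Set.disjoint_left.2 fun p hp hp' =>
      Set.disjoint_left.1 (TopologicalSpace.Opens.coe_disjoint.2
        (disjoint_opensRange_sigmaι (fun x : κ => (Z x).left) i j hij)) hp hp'))
    (top_le_iff.1 fun p _ => by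
      obtain ⟨i, m, hm⟩ := (sigmaOpenCover fun x : κ => (Z x).left).exists_eq (e.base p)
      exact TopologicalSpace.Opens.mem_iSup.2 ⟨i, ⟨m, hm⟩⟩)
    (fun x => Q₁.obj.map (l x).op (y x))
  refine ⟨Y, Sections.eq_of_family Q₂ _
    (fun x => Over.homMk (U := Over.mk ((O x).ι ≫ (pW f W').hom)) (V := pW f W') (O x).ι rfl)
    (ofArrows_mem_etale _ _ (fun x => inferInstanceAs (Etale (O x).ι)) fun p => ?_) fun x => ?_⟩
  · obtain ⟨i, m, hm⟩ := (sigmaOpenCover fun x : κ => (Z x).left).exists_eq (e.base p)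
    exact ⟨i, ⟨p, ⟨m, hm⟩⟩, rfl⟩
  · refine (ConcreteCategory.congr_hom (φ.hom.naturality _) Y).symm.trans ?_
    refine (congrArg (φ.hom.app _) (hY x)).trans ?_
    refine (ConcreteCategory.congr_hom (φ.hom.naturality (l x).op) (y x)).trans ?_
    refine (congrArg (Q₂.obj.map (l x).op) (hy x)).trans ?_
    exact (Sections.map_map Q₂ (l x) (gz x) s).trans ((Sections.map_congr Q₂
      (Over.OverMorphism.ext (hk x)) s).trans (Sections.map_map Q₂ _ _ s).symm)

variable (F : EtCoh.Ab X)

/-- `f_* F`. -/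
noncomputable abbrev fF : EtCoh.Ab S := (EtCoh.push f).obj F

/-- `π_X⁻¹F` pushed to the big site of `S`. -/
noncomputable abbrev pbF : BigSite.Ab Scheme.etalePrecoverage S :=
  (BigSite.pushBig Scheme.etalePrecoverage f AddCommGrpCat.{u + 1}).obj (bigSh F)

/-- The comparison map. -/
noncomputable def α : bigSh (fF f F) ⟶ pbF f F :=
  ((BigSite.piEtAdj Scheme.etalePrecoverage S).homEquiv (fF f F) (pbF f F)).symm
    ((EtCoh.push f).map ((BigSite.piEtAdj Scheme.etalePrecoverage X).unit.app F) ≫
      (H13Desc.BigRes.pushRes f).inv.app (bigSh F))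

theorem α_unit (V : S.Etale) (s : EtCoh.sect (fF f F) V) :
    (α f F).hom.app (op ((EtFppf.a S).obj V))
        (((BigSite.piEtAdj Scheme.etalePrecoverage S).unit.app (fF f F)).hom.app (op V) s) =
      (bigSh F).obj.map ((H13Desc.BigRes.aBC f).hom.app V).op
        (((BigSite.piEtAdj Scheme.etalePrecoverage X).unit.app F).hom.app (op ((EtCoh.bc f).obj V)) s) := by
  have e := ((BigSite.piEtAdj Scheme.etalePrecoverage S).homEquiv (fF f F) (pbF f F)).apply_symm_apply
    ((EtCoh.push f).map ((BigSite.piEtAdj Scheme.etalePrecoverage X).unit.app F) ≫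
      (H13Desc.BigRes.pushRes f).inv.app (bigSh F))
  rw [Adjunction.homEquiv_unit] at e
  exact ConcreteCategory.congr_hom (congrArg (fun k => k.hom.app (op V)) e) s

/-- A point of the base change. -/
noncomputable abbrev sec {Ω : Type u} [Field Ω] (W : Over S) (p : Spec (CommRingCat.of Ω) ⟶ W.left)
    (x : Spec (CommRingCat.of Ω) ⟶ X) (w : p ≫ W.hom = x ≫ f) : Over.mk x ⟶ pW f W :=
  Over.homMk (pullback.lift p x w) (pullback.lift_snd _ _ _)

theorem sec_map {Ω : Type u} [Field Ω] {W W' : Over S} (g : W' ⟶ W) (p : Spec (CommRingCat.of Ω) ⟶ W'.left)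
    (x : Spec (CommRingCat.of Ω) ⟶ X) (w : p ≫ W'.hom = x ≫ f) :
    sec f W' p x w ≫ (Over.pullback f).map g =
      sec f W (p ≫ g.left) x (by rw [Category.assoc, Over.w g, w]) := by
  refine Over.OverMorphism.ext (pullback.hom_ext ?_ ?_)
  · show (pullback.lift p x w ≫ ((Over.pullback f).map g).left) ≫ pullback.fst W.hom f = _
    rw [Category.assoc, show ((Over.pullback f).map g).left ≫ pullback.fst W.hom f =
      pullback.fst W'.hom f ≫ g.left from pullback.lift_fst _ _ _, pullback.lift_fst_assoc]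
    exact (pullback.lift_fst _ _ _).symm
  · exact (Over.w (sec f W' p x w ≫ (Over.pullback f).map g)).trans (pullback.lift_snd _ _ _).symm

variable {Ω : Type u} [Field Ω] [IsAlgClosed Ω] [IsFinite f]

/-- Stalks of `F` as values of `π⁻¹F`. -/
noncomputable def Φ (x : Spec (CommRingCat.of Ω) ⟶ X) (t : (EtCoh.stalk x).obj F) :
    (bigSh F).obj.obj (op (Over.mk x)) :=
  valEv x (bigSh F) ((Scheme.pointSmallEtale x).sheafFiber.map
    ((BigSite.piEtAdj Scheme.etalePrecoverage X).unit.app F) t)

theorem bijective_Φ (x : Spec (CommRingCat.of Ω) ⟶ X) : Function.Bijective (Φ F x) := by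
  haveI := (Groth.Agent.S6184.result X).2 F
  exact (valEv_bijective x (bigSh F) F (Iso.refl _)).comp (ConcreteCategory.bijective_of_isIso _)

theorem Φ_zero (x : Spec (CommRingCat.of Ω) ⟶ X) : Φ F x 0 = 0 := by
  unfold Φ; rw [map_zero, map_zero]

/-- The comparison map at a point over `η`. -/
theorem sec_α {W : Over S} (p : Spec (CommRingCat.of Ω) ⟶ W.left) {η : Spec (CommRingCat.of Ω) ⟶ S}
    (hη : p ≫ W.hom = η) (V : S.Etale) (v : (Scheme.pointSmallEtale η).fiber.obj V)
    (k : W ⟶ (EtFppf.a S).obj V) (hk : p ≫ k.left = v.left) (s : EtCoh.sect (fF f F) V)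
    (ξ : Pts f η) :
    (bigSh F).obj.map (sec f W p ξ.1 (hη.trans ξ.2.symm)).op ((α f F).hom.app (op W)
      ((bigSh (fF f F)).obj.map k.op
        (((BigSite.piEtAdj Scheme.etalePrecoverage S).unit.app (fF f F)).hom.app (op V) s))) =
      Φ F ξ.1 ((pushEval ξ).app F (germ η (fF f F) V v s)) := by
  rw [show (α f F).hom.app (op W) ((bigSh (fF f F)).obj.map k.op
      (((BigSite.piEtAdj Scheme.etalePrecoverage S).unit.app (fF f F)).hom.app (op V) s)) =
    (bigSh F).obj.map ((Over.pullback f).map k).op ((α f F).hom.app (op ((EtFppf.a S).obj V))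
      (((BigSite.piEtAdj Scheme.etalePrecoverage S).unit.app (fF f F)).hom.app (op V) s)) from
    ConcreteCategory.congr_hom ((α f F).hom.naturality k.op) _, α_unit]
  unfold Φ
  rw [pushEval_germ]
  erw [germ_naturality, valEv_germ]
  refine (Sections.map_map (bigSh F) _ _ _).trans ((Sections.map_map (bigSh F) _ _ _).trans ?_)
  refine Sections.map_congr (bigSh F) (Over.OverMorphism.ext (pullback.hom_ext ?_ ?_)) _
  · show (pullback.lift p ξ.1 _ ≫ ((Over.pullback f).map k).left ≫ ((H13Desc.BigRes.aBC f).hom.app V).left) ≫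
      pullback.fst V.hom f = (secPt ξ ≫ ιFib V v) ≫ pullback.fst V.hom f
    have hc : ((H13Desc.BigRes.aBC f).hom.app V).left ≫ pullback.fst V.hom f = pullback.fst V.hom f :=
      Category.id_comp _
    rw [Category.assoc, Category.assoc, hc, show ((Over.pullback f).map k).left ≫ pullback.fst V.hom f =
      pullback.fst W.hom f ≫ k.left from pullback.lift_fst _ _ _, pullback.lift_fst_assoc, hk,
      Category.assoc, ιFib_fst, ← Category.assoc, pullback.lift_snd, Category.id_comp]
  · show (pullback.lift p ξ.1 _ ≫ ((Over.pullback f).map k).left ≫ ((H13Desc.BigRes.aBC f).hom.app V).left) ≫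
      pullback.snd V.hom f = (secPt ξ ≫ ιFib V v) ≫ pullback.snd V.hom f
    have hc : ((H13Desc.BigRes.aBC f).hom.app V).left ≫ pullback.snd V.hom f = pullback.snd V.hom f :=
      Category.id_comp _
    rw [Category.assoc, Category.assoc, hc, show ((Over.pullback f).map k).left ≫ pullback.snd V.hom f =
      pullback.snd W.hom f from pullback.lift_snd _ _ _, pullback.lift_snd, Category.assoc, ιFib_snd,
      pullback.lift_fst]

theorem exists_unit_rep {η : Spec (CommRingCat.of Ω) ⟶ S} (H : EtCoh.Ab S)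
    (b : (bigSh H).obj.obj (op (Over.mk η))) :
    ∃ (V : S.Etale) (v : (Scheme.pointSmallEtale η).fiber.obj V) (s : EtCoh.sect H V),
      valEv η (bigSh H) ((Scheme.pointSmallEtale η).sheafFiber.map
        ((BigSite.piEtAdj Scheme.etalePrecoverage S).unit.app H) (germ η H V v s)) = b := by
  haveI := (Groth.Agent.S6184.result S).2 H
  obtain ⟨t, rfl⟩ := (valEv_bijective η (bigSh H) H (Iso.refl _)).2 b
  obtain ⟨t, rfl⟩ := (ConcreteCategory.bijective_of_isIso ((Scheme.pointSmallEtale η).sheafFiber.map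
    ((BigSite.piEtAdj Scheme.etalePrecoverage S).unit.app H))).2 t
  obtain ⟨V, v, s, rfl⟩ := germ_surjective η H t
  exact ⟨V, v, s, rfl⟩

omit [IsAlgClosed Ω] in
theorem sec_congr {W : Over S} {p p' : Spec (CommRingCat.of Ω) ⟶ W.left} (h : p = p')
    (x : Spec (CommRingCat.of Ω) ⟶ X) (w : p ≫ W.hom = x ≫ f) (w' : p' ≫ W.hom = x ≫ f) :
    sec f W p x w = sec f W p' x w' := by subst h; rfl

theorem α_injective (W : Over S) (a : (bigSh (fF f F)).obj.obj (op W))
    (ha : (α f F).hom.app (op W) a = 0) : a = 0 := by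
  refine eq_zero_of_forall_point _ a fun Ω _ _ p => ?_
  let η := p ≫ W.hom
  let o : Over S := Over.mk η
  let pt : o ⟶ W := Over.homMk (U := o) (V := W) p rfl
  obtain ⟨V, v, s, hb⟩ := exists_unit_rep (fF f F) ((bigSh (fF f F)).obj.map pt.op a)
  erw [germ_naturality, valEv_germ] at hb
  suffices h0 : germ η (fF f F) V v s = 0 by
    refine hb.symm.trans ?_
    erw [← valEv_germ η (bigSh (fF f F)) V v, ← germ_naturality (ξ := η) (φ := (BigSite.piEtAdj Scheme.etalePrecoverage S).unit.app (fF f F))]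
    exact (congrArg _ ((congrArg _ h0).trans (map_zero _))).trans (map_zero _)
  refine pushEval_jointly_injective F _ _ fun ξ => ?_
  refine ((bijective_Φ F ξ.1).1 ?_).trans (map_zero _).symm
  rw [Φ_zero]
  refine (sec_α f F (W := o) (𝟙 _) (Category.id_comp _) V v (show o ⟶ (EtFppf.a S).obj V from v)
    (Category.id_comp _) s ξ).symm.trans ?_
  refine (congrArg (fun b => (bigSh F).obj.map _ ((α f F).hom.app _ b)) hb).trans ?_
  refine (congrArg ((bigSh F).obj.map _) (ConcreteCategory.congr_hom ((α f F).hom.naturality pt.op) a)).trans ?_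
  refine (congrArg (fun b => (bigSh F).obj.map _ (((pbF f F).obj.map pt.op) b)) ha).trans ?_
  rw [map_zero, map_zero]

theorem α_local (W : Over S) (c : (pbF f F).obj.obj (op W)) (w : W.left) :
    ∃ (W' : Over S) (g : W' ⟶ W), Etale g.left ∧ w ∈ Set.range g.left.base ∧
      ∃ a, (α f F).hom.app (op W') a = (pbF f F).obj.map g.op c := by
  classical
  obtain ⟨Ω, _, _, p, hp⟩ := exists_geomPt W.left w
  let η := p ≫ W.hom
  haveI : Finite (Pts f η) := finite_pts f η
  choose t ht using fun ξ : Pts f η => (bijective_Φ F ξ.1).2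
    ((bigSh F).obj.map (sec f W p ξ.1 ξ.2.symm).op c)
  obtain ⟨b, hb⟩ := exists_pushEval_eq_of_finite F t
  obtain ⟨V, v, s, rfl⟩ := germ_surjective η (fF f F) b
  haveI : Etale V.hom := V.prop
  let W₁ : Over S := Over.mk (pullback.snd V.hom W.hom ≫ W.hom)
  let g₁ : W₁ ⟶ W := Over.homMk (pullback.snd V.hom W.hom) rfl
  let k : W₁ ⟶ (EtFppf.a S).obj V := Over.homMk (pullback.fst V.hom W.hom) pullback.condition
  let q : Spec (CommRingCat.of Ω) ⟶ W₁.left := pullback.lift v.left p (Over.w v)
  have hq : q ≫ g₁.left = p := pullback.lift_snd _ _ _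
  have hg₁ : Etale g₁.left := MorphismProperty.pullback_snd (P := @Etale) V.hom W.hom inferInstance
  let a₁ := (bigSh (fF f F)).obj.map k.op
    (((BigSite.piEtAdj Scheme.etalePrecoverage S).unit.app (fF f F)).hom.app (op V) s)
  let d : (bigSh F).obj.obj (op (pW f W₁)) :=
    (show (bigSh F).obj.obj (op (pW f W₁)) from (α f F).hom.app (op W₁) a₁) -
      (bigSh F).obj.map ((Over.pullback f).map g₁).op c
  let q0 := pullback.fst W₁.hom f
  haveI : IsFinite q0 :=
    MorphismProperty.of_isPullback (P := @IsFinite) (IsPullback.of_hasPullback W₁.hom f).flip inferInstance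
  obtain ⟨W₂, g₂, hg₂, ⟨w₂, hw₂⟩, y, hy⟩ := exists_nbhd_image_pullback f (0 : bigSh F ⟶ bigSh F) W₁
    (q.base default) d fun x hx => by
      obtain ⟨z, hz1, -⟩ := Scheme.Pullback.exists_preimage_pullback (f := q0) (g := q) x default hx
      obtain ⟨ξ', hξ'⟩ := surjective_qOf (f := q0) (η := q) z
      have hξx : ξ'.1.base default = x := by
        refine Eq.trans ?_ hz1
        rw [← hξ']
        exact (congrArg (fun m : Spec (CommRingCat.of Ω) ⟶ (pW f W₁).left => m.base default)
          (pullback.lift_fst ξ'.1 (𝟙 _) (ξ'.2.trans (Category.id_comp q).symm))).symm.trans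
          (Scheme.Hom.comp_apply _ _ _)
      let x' := ξ'.1 ≫ pullback.snd W₁.hom f
      have hw' : q ≫ W₁.hom = x' ≫ f := by
        show _ = (ξ'.1 ≫ pullback.snd W₁.hom f) ≫ f
        rw [Category.assoc, ← pullback.condition, ← Category.assoc, ξ'.2]
      have hη : q ≫ W₁.hom = η := by rw [← Over.w g₁, ← Category.assoc, hq]
      let ξ : Pts f η := ⟨x', hw'.symm.trans hη⟩
      have hlift : pullback.lift q x' hw' = ξ'.1 :=
        pullback.hom_ext ((pullback.lift_fst _ _ _).trans ξ'.2.symm) (pullback.lift_snd _ _ _)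
      have h0 : (bigSh F).obj.map (sec f W₁ q x' hw').op d = 0 := by
        refine (map_sub _ _ _).trans (sub_eq_zero.2 ?_)
        refine (sec_α f F q hη V v k (pullback.lift_fst _ _ _) s ξ).trans ?_
        refine ((congrArg (Φ F x') (hb ξ)).trans (ht ξ)).trans ?_
        refine Eq.trans ?_ (Sections.map_map (bigSh F) _ _ c).symm
        refine Sections.map_congr (bigSh F) ?_ c
        rw [sec_map]
        exact sec_congr f hq.symm _ _ _
      have h1 : (bigSh F).obj.map (Over.homMk (U := Over.mk (ξ'.1 ≫ (pW f W₁).hom)) (V := pW f W₁) ξ'.1 rfl).op d = 0 := by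
        refine Eq.trans (Sections.map_congr (bigSh F) ?_ d) h0
        exact Over.OverMorphism.ext hlift.symm
      obtain ⟨Z, gz, hgz, hm, hz⟩ := exists_nbhd_zero F ξ'.1 d h1
      exact ⟨Z, gz, hgz, hξx ▸ hm, 0, (map_zero _).trans hz.symm⟩
  haveI := hg₁
  haveI := hg₂
  refine ⟨W₂, g₂ ≫ g₁, inferInstanceAs (Etale (g₂.left ≫ g₁.left)), ⟨w₂, ?_⟩,
    (bigSh (fF f F)).obj.map g₂.op a₁, ?_⟩
  · show (g₂.left ≫ g₁.left).base w₂ = w
    rw [Scheme.Hom.comp_apply, hw₂, ← Scheme.Hom.comp_apply, hq, hp]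
  · refine (ConcreteCategory.congr_hom ((α f F).hom.naturality g₂.op) a₁).trans ?_
    have h0 : (bigSh F).obj.map ((Over.pullback f).map g₂).op d = 0 := hy.symm
    replace h0 := sub_eq_zero.1 ((map_sub _ _ _).symm.trans h0)
    refine h0.trans ((Sections.map_map (bigSh F) _ _ c).trans ?_)
    exact Sections.map_congr (bigSh F) ((Over.pullback f).map_comp g₂ g₁).symm c

/-- **Finite direct images commute with `π⁻¹`**. -/
theorem isIso_α : IsIso (α f F) :=
  isIso_of_injective_of_local (α f F) (α_injective f F) (α_local f F)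

end Groth.Agent.H15Site.FppfEt
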