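import Groth.Agent.H15Site.FppfEt.FinitePush
import Groth.Agent.H15Site.FppfEt.Apps

/-!
# Higher direct images along finite morphisms on the big étale and fppf sites
-/

set_option autoImplicit false
set_option linter.style.haveILetI false
set_option linter.unusedSectionVars false
set_option backward.isDefEq.respectTransparency false
set_option backward.isDefEq.respectTransparency.types false

universe u

open CategoryTheory CategoryTheory.Limits AlgebraicGeometry Opposite

namespace Groth.Agent.H15Site.FppfEt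

open Groth.Agent.H15Site.IntDesc (bigSh)

/-- An étale covering sieve contains an étale neighbourhood of every point. -/
theorem exists_nbhd_of_mem_etale {S : Scheme.{u}} {U : Over S} {R : Sieve U}
    (hR : R ∈ QuotSh.J Scheme.etalePrecoverage S U) (x : U.left) :
    ∃ (Z : Over S) (f : Z ⟶ U), Etale f.left ∧ x ∈ Set.range f.left.base ∧ R.arrows f := by
  rw [GrothendieckTopology.mem_over_iff] at hR
  obtain ⟨𝒰, h𝒰⟩ := Scheme.mem_grothendieckTopology_iff (P := @Etale).1 hR
  obtain ⟨i, y, hy⟩ := 𝒰.exists_eq x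
  exact ⟨Over.mk (𝒰.f i ≫ U.hom), Over.homMk (𝒰.f i) rfl, 𝒰.map_prop i, ⟨y, hy⟩,
    (Sieve.overEquiv_iff R _).1 (h𝒰 _ _ ⟨i⟩)⟩

section Integral

variable {X Y : Scheme.{u}} (f : X ⟶ Y) [IsIntegralHom f]

/-- **Higher direct images along integral morphisms vanish on the big étale site.** -/
theorem isZero_RpushBig_etale (Q : BigSite.Ab Scheme.etalePrecoverage X) (q : ℕ) :
    IsZero ((BigSite.RpushBig Scheme.etalePrecoverage f (q + 1)).obj Q) := by
  let R := injectiveResolution Q
  refine IsZero.of_iso ?_ (R.isoRightDerivedObj (BigSite.pushBig Scheme.etalePrecoverage f AddCommGrpCat.{u + 1}) (q + 1))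
  refine (HomologicalComplex.exactAt_iff_isZero_homology _ _).1 ?_
  rw [HomologicalComplex.exactAt_iff' _ q (q + 1) (q + 1 + 1) (by simp) (by simp)]
  refine exact_of_local.{u + 1, u, u + 1} (J := QuotSh.J Scheme.etalePrecoverage Y) fun W x hx => ?_
  choose W' g hg hw y hy using fun w => exists_nbhd_image_pullback f (R.cocomplex.d q (q + 1)) W w x fun z _ => by
    obtain ⟨T, hT, hy⟩ := Sections.exists_local_preimage (R.exact_succ q) (pW f W) x hx
    obtain ⟨Z, g, hg, hm, hR⟩ := exists_nbhd_of_mem_etale hT z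
    exact ⟨Z, g, hg, hm, hy g hR⟩
  refine ⟨Sieve.ofArrows W' g, ofArrows_mem_etale W' g hg fun w => ⟨w, hw w⟩, fun Z k hk => ?_⟩
  obtain ⟨w, l, rfl⟩ := (Sieve.mem_ofArrows_iff _ _ _).1 hk
  refine ⟨(R.cocomplex.X q).obj.map ((Over.pullback f).map l).op (y w), ?_⟩
  refine (ConcreteCategory.congr_hom ((R.cocomplex.d q (q + 1)).hom.naturality _) (y w)).trans ?_
  refine (congrArg _ (hy w)).trans ((Sections.map_map _ _ _ x).trans ?_)
  rfl

/-- **Higher fppf direct images of `π⁻¹F` along integral morphisms vanish.** -/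
theorem isZero_RpushBig_fppf (F : EtCoh.Ab X) (q : ℕ) :
    IsZero ((EtFppf.RpushBig f (q + 1)).obj (QF F)) := by
  refine IsZero.of_iso ?_ ((Res F).isoRightDerivedObj (EtFppf.pushBig f) (q + 1))
  refine (HomologicalComplex.exactAt_iff_isZero_homology _ _).1 ?_
  rw [HomologicalComplex.exactAt_iff' _ q (q + 1) (q + 1 + 1) (by simp) (by simp)]
  refine exact_of_local.{u + 1, u, u + 1} (J := EtFppf.J Y) fun W x hx => ?_
  choose W' g hg hw y hy using fun w =>
    exists_nbhd_image_pullback f ((E X).map ((Res F).cocomplex.d q (q + 1))) W w x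
      fun z _ => lv F q (pW f W) x hx z
  refine ⟨Sieve.ofArrows W' g, ofArrows_mem_fppf W' g (fun w => by haveI := hg w; infer_instance)
    (fun w => by haveI := hg w; infer_instance) fun w => ⟨w, hw w⟩, fun Z k hk => ?_⟩
  obtain ⟨w, l, rfl⟩ := (Sieve.mem_ofArrows_iff _ _ _).1 hk
  refine ⟨(I F q).map ((Over.pullback f).map l).op (y w), ?_⟩
  refine (nat_app (dI F q) _ (y w)).trans ((congrArg _ (hy w)).trans ?_)
  refine (Sections.map_map ((Res F).cocomplex.X (q + 1)) _ _ x).trans ?_
  exact Sections.map_congr _ ((Over.pullback f).map_comp l (g w)).symm x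

end Integral

theorem nonempty_pushBig_iso {X Y : Scheme.{u}} (f : X ⟶ Y) [IsFinite f] (F : EtCoh.Ab X) :
    Nonempty ((BigSite.piEtPull Scheme.etalePrecoverage Y).obj ((EtCoh.push f).obj F) ≅
      (BigSite.pushBig Scheme.etalePrecoverage f AddCommGrpCat.{u + 1}).obj (bigSh F)) := by
  haveI := isIso_α f F
  exact ⟨asIso (α f F)⟩

/-- The comparison on the fppf sites in degree zero. -/
noncomputable def αFppf {X Y : Scheme.{u}} (f : X ⟶ Y) [IsFinite f] (F : EtCoh.Ab X) :
    QF (fF f F) ≅ (EtFppf.pushBig f).obj (QF F) :=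
  haveI := isIso_α f F
  haveI := isIso_η (fF f F)
  haveI := isIso_η F
  (fullyFaithfulSheafToPresheaf (EtFppf.J Y) AddCommGrpCat.{u + 1}).preimageIso
    (((sheafToPresheaf _ _).mapIso (asIso (η (bigSh (fF f F))))).symm ≪≫
      (sheafToPresheaf _ _).mapIso (asIso (α f F)) ≪≫
      Functor.isoWhiskerLeft (Over.pullback f).op ((sheafToPresheaf _ _).mapIso (asIso (η (bigSh F)))))

end Groth.Agent.H15Site.FppfEt
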