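import Mathlib.AlgebraicTopology.AlternatingFaceMapComplex
import Mathlib.AlgebraicTopology.SimplicialObject.Basic
import Mathlib.Algebra.Category.Grp.Abelian
import Mathlib.Algebra.Category.Grp.EpiMono
import Mathlib.CategoryTheory.Preadditive.Injective.Basic
import Mathlib.CategoryTheory.Abelian.FunctorCategory

/-!
# Alternating complexes of presheaves on augmented simplicial objects

`dd Q K n : Q(Kₙ) ⟶ Q(Kₙ₊₁)` and exactness for injective presheaves `Q` when the simplicial sets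
`Hom(W, K)` are contractible over every map to the augmentation which lifts.
-/

set_option autoImplicit false
set_option linter.style.haveILetI false
set_option linter.unusedSectionVars false
set_option backward.isDefEq.respectTransparency false

universe w v

open CategoryTheory CategoryTheory.Limits Opposite Simplicial

namespace Groth.Agent.H15Site.FppfEt

variable {C : Type w} [Category.{v} C]

section

variable (Q : Cᵒᵖ ⥤ AddCommGrpCat.{max w v}) (K : SimplicialObject.Augmented C)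

/-- The objects. -/
abbrev ob (n : ℕ) : C := K.left.obj (op ⦋n⦌)

/-- The augmentations. -/
abbrev augm (n : ℕ) : ob K n ⟶ K.right := K.hom.app (op ⦋n⦌)

theorem δ_augm (n : ℕ) (i : Fin (n + 2)) : K.left.δ i ≫ augm K n = augm K (n + 1) :=
  (K.hom.naturality (SimplexCategory.δ i).op).trans (Category.comp_id _)

/-- The differential. -/
def dd (n : ℕ) : Q.obj (op (ob K n)) ⟶ Q.obj (op (ob K (n + 1))) :=
  ∑ i : Fin (n + 2), ((-1 : ℤ) ^ (i : ℕ)) • Q.map (K.left.δ i).op

/-- The augmentation of the complex. -/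
abbrev ee : Q.obj (op K.right) ⟶ Q.obj (op (ob K 0)) := Q.map (augm K 0).op

theorem dd_apply (n : ℕ) (x : Q.obj (op (ob K n))) :
    dd Q K n x = ∑ i : Fin (n + 2), ((-1 : ℤ) ^ (i : ℕ)) • Q.map (K.left.δ i).op x := by
  let e : (Q.obj (op (ob K n)) ⟶ Q.obj (op (ob K (n + 1)))) →+ Q.obj (op (ob K (n + 1))) :=
    AddMonoidHom.mk' (fun φ => φ x) (fun _ _ => rfl)
  show e _ = _
  rw [dd, map_sum]
  simp only [map_zsmul]
  rfl

theorem dd_zero_apply (x : Q.obj (op (ob K 0))) :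
    dd Q K 0 x = Q.map (K.left.δ (0 : Fin 2)).op x - Q.map (K.left.δ (1 : Fin 2)).op x := by
  rw [dd_apply, Fin.sum_univ_two]
  simp [sub_eq_add_neg]

theorem dd_dd (n : ℕ) : dd Q K n ≫ dd Q K (n + 1) = 0 :=
  AlgebraicTopology.AlternatingCofaceMapComplex.d_squared (K.left.rightOp ⋙ Q) n

theorem dd_dd_apply (n : ℕ) (x : Q.obj (op (ob K n))) : dd Q K (n + 1) (dd Q K n x) = 0 :=
  ConcreteCategory.congr_hom (dd_dd Q K n) x

theorem dd_ee_apply (x : Q.obj (op K.right)) : dd Q K 0 (ee Q K x) = 0 := by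
  rw [dd_zero_apply, sub_eq_zero]
  have h : ∀ i : Fin 2, Q.map (K.left.δ i).op (ee Q K x) = Q.map (augm K 1).op x := fun i => by
    rw [← δ_augm K 0 i, op_comp, Functor.map_comp]
    rfl
  rw [h, h]

variable {Q}

theorem map_dd {Q' : Cᵒᵖ ⥤ AddCommGrpCat.{max w v}} (φ : Q ⟶ Q') (n : ℕ) (x : Q.obj (op (ob K n))) :
    φ.app _ (dd Q K n x) = dd Q' K n (φ.app _ x) := by
  rw [dd_apply, dd_apply, map_sum]
  refine Finset.sum_congr rfl fun i _ => ?_
  rw [map_zsmul]
  exact congrArg _ (ConcreteCategory.congr_hom (φ.naturality (K.left.δ i).op) x)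

theorem map_ee {Q' : Cᵒᵖ ⥤ AddCommGrpCat.{max w v}} (φ : Q ⟶ Q') (x : Q.obj (op K.right)) :
    φ.app _ (ee Q K x) = ee Q' K (φ.app _ x) :=
  ConcreteCategory.congr_hom (φ.naturality (augm K 0).op) x

end

/-- For each map to the augmentation which lifts, the maps to the simplicial object over it have a
contraction. -/
def HasContr (K : SimplicialObject.Augmented C) : Prop :=
  ∀ (W : C) (g : W ⟶ K.right) (t : W ⟶ ob K 0), t ≫ augm K 0 = g →
    ∃ σ : ∀ n : ℕ, (W ⟶ ob K n) → (W ⟶ ob K (n + 1)),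
      (∀ n h, h ≫ augm K n = g → σ n h ≫ augm K (n + 1) = g) ∧
      (∀ n h, h ≫ augm K n = g → σ n h ≫ K.left.δ (0 : Fin (n + 2)) = h) ∧
      (∀ h, h ≫ augm K 0 = g → σ 0 h ≫ K.left.δ (1 : Fin 2) = t) ∧
      ∀ (n : ℕ) (i : Fin (n + 2)) h, h ≫ augm K (n + 1) = g →
        σ (n + 1) h ≫ K.left.δ i.succ = σ n (h ≫ K.left.δ i)

/-- All families of values on the objects over a given one. -/
def God (Q : Cᵒᵖ ⥤ AddCommGrpCat.{max w v}) : Cᵒᵖ ⥤ AddCommGrpCat.{max w v} where
  obj W := AddCommGrpCat.of (∀ (W' : C) (_ : W' ⟶ W.unop), Q.obj (op W'))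
  map h := AddCommGrpCat.ofHom (AddMonoidHom.mk' (fun s W' k => s W' (k ≫ h.unop)) (fun _ _ => rfl))
  map_id W := by
    ext s W' k
    exact congrArg (s W') (Category.comp_id k)
  map_comp g h := by
    ext s W' k
    exact congrArg (s W') (Category.assoc k h.unop g.unop).symm

/-- The restrictions. -/
def toGod (Q : Cᵒᵖ ⥤ AddCommGrpCat.{max w v}) : Q ⟶ God Q where
  app W := AddCommGrpCat.ofHom (AddMonoidHom.mk' (fun q W' k => Q.map k.op q)
    (fun q q' => funext fun W' => funext fun k => map_add _ q q'))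
  naturality W W₂ h := by
    ext q
    funext W' k
    exact (ConcreteCategory.congr_hom (Q.map_comp h k.op) q).symm

instance mono_toGod (Q : Cᵒᵖ ⥤ AddCommGrpCat.{max w v}) : Mono (toGod Q) := by
  haveI : ∀ W, Mono ((toGod Q).app W) := fun W => by
    rw [AddCommGrpCat.mono_iff_injective]
    intro a b h
    have h' := congrFun (congrFun h W.unop) (𝟙 _)
    exact (ConcreteCategory.congr_hom (Q.map_id W) a).symm.trans
      (h'.trans (ConcreteCategory.congr_hom (Q.map_id W) b))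
  exact NatTrans.mono_of_mono_app _

/-- The value at a map. -/
def gev (Q : Cᵒᵖ ⥤ AddCommGrpCat.{max w v}) {X : C} (W' : C) (k : W' ⟶ X) :
    (God Q).obj (op X) →+ Q.obj (op W') :=
  AddMonoidHom.mk' (fun s => (show ∀ (W' : C) (_ : W' ⟶ X), Q.obj (op W') from s) W' k) (fun _ _ => rfl)

theorem gev_map (Q : Cᵒᵖ ⥤ AddCommGrpCat.{max w v}) {X Y : C} (f : X ⟶ Y)
    (s : (God Q).obj (op Y)) (W' : C) (k : W' ⟶ X) :
    gev Q W' k ((God Q).map f.op s) = gev Q W' (k ≫ f) s := rfl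

theorem God_ext (Q : Cᵒᵖ ⥤ AddCommGrpCat.{max w v}) {X : C} {s t : (God Q).obj (op X)}
    (h : ∀ (W' : C) (k : W' ⟶ X), gev Q W' k s = gev Q W' k t) : s = t :=
  funext fun W' => funext fun k => h W' k

variable {K : SimplicialObject.Augmented C}

theorem dd_God_apply (Q : Cᵒᵖ ⥤ AddCommGrpCat.{max w v}) (n : ℕ)
    (s : (God Q).obj (op (ob K n))) (W' : C) (k : W' ⟶ ob K (n + 1)) :
    gev Q W' k (dd (God Q) K n s) =
      ∑ i : Fin (n + 2), ((-1 : ℤ) ^ (i : ℕ)) • gev Q W' (k ≫ K.left.δ i) s := by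
  rw [dd_apply, map_sum]
  refine Finset.sum_congr rfl fun i _ => ?_
  rw [map_zsmul, gev_map]

variable (Q : Cᵒᵖ ⥤ AddCommGrpCat.{max w v}) (hK : HasContr K)

include hK in
theorem exists_ee_eq_God (s : (God Q).obj (op (ob K 0))) (hs : dd (God Q) K 0 s = 0) :
    ∃ c, ee (God Q) K c = s := by
  classical
  refine ⟨fun W' g => if h : ∃ t : W' ⟶ ob K 0, t ≫ augm K 0 = g then
    gev Q W' h.choose s else 0, God_ext Q fun W' k => ?_⟩
  have h : ∃ t : W' ⟶ ob K 0, t ≫ augm K 0 = k ≫ augm K 0 := ⟨k, rfl⟩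
  refine (dif_pos h).trans ?_
  obtain ⟨σ, -, h0, h1, -⟩ := hK W' _ h.choose h.choose_spec
  have h2 := (dd_God_apply Q 0 s W' (σ 0 k)).symm.trans ((congrArg (gev Q W' (σ 0 k)) hs).trans (map_zero _))
  rw [Fin.sum_univ_two, h0 0 k rfl, h1 k rfl] at h2
  simp only [Fin.val_zero, Fin.val_one, pow_zero, one_smul, pow_one, neg_one_zsmul] at h2
  exact (add_neg_eq_zero.1 h2).symm

include hK in
theorem exists_dd_eq_God (n : ℕ) (s : (God Q).obj (op (ob K (n + 1))))
    (hs : dd (God Q) K (n + 1) s = 0) : ∃ c, dd (God Q) K n c = s := by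
  classical
  have hex : ∀ (W' : C) (g : W' ⟶ K.right), ∃ τ : (W' ⟶ ob K n) → (W' ⟶ ob K (n + 1)),
      ∀ h : W' ⟶ ob K (n + 1), h ≫ augm K (n + 1) = g → ∃ h' : W' ⟶ ob K (n + 1 + 1),
        h' ≫ K.left.δ (0 : Fin (n + 1 + 2)) = h ∧
        ∀ i : Fin (n + 2), h' ≫ K.left.δ i.succ = τ (h ≫ K.left.δ i) := by
    intro W' g
    by_cases ht : ∃ t : W' ⟶ ob K 0, t ≫ augm K 0 = g
    · obtain ⟨t, ht⟩ := ht
      obtain ⟨σ, -, h0, -, hσ⟩ := hK W' g t ht
      exact ⟨σ n, fun h hh => ⟨σ (n + 1) h, h0 (n + 1) h hh, fun i => hσ n i h hh⟩⟩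
    · by_cases hh : ∃ h : W' ⟶ ob K (n + 1), h ≫ augm K (n + 1) = g
      · obtain ⟨h, hh⟩ := hh
        refine absurd ⟨h ≫ K.left.map (SimplexCategory.const ⦋0⦌ ⦋n + 1⦌ 0).op, ?_⟩ ht
        rw [Category.assoc]
        refine (congrArg (h ≫ ·) ?_).trans hh
        exact (K.hom.naturality _).trans (Category.comp_id _)
      · refine ⟨fun m => m ≫ K.left.σ (0 : Fin (n + 1)), fun h h' => absurd ⟨h, h'⟩ hh⟩
  choose τ hτ using hex
  refine ⟨fun W' h => gev Q W' (τ W' (h ≫ augm K n) h) s, God_ext Q fun W' k => ?_⟩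
  obtain ⟨h', h0, hi⟩ := hτ W' (k ≫ augm K (n + 1)) k rfl
  refine (dd_God_apply Q n _ W' k).trans ?_
  have h2 := (dd_God_apply Q (n + 1) s W' h').symm.trans ((congrArg (gev Q W' h') hs).trans (map_zero _))
  rw [Fin.sum_univ_succ, h0] at h2
  simp only [Fin.val_zero, pow_zero, one_smul, Fin.val_succ, pow_succ, mul_neg, mul_one, neg_smul,
    Finset.sum_neg_distrib, hi] at h2
  refine Eq.trans ?_ (add_neg_eq_zero.1 h2).symm
  refine Finset.sum_congr rfl fun i _ => ?_
  show _ • gev Q W' (τ W' ((k ≫ K.left.δ i) ≫ augm K n) (k ≫ K.left.δ i)) s = _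
  rw [Category.assoc, δ_augm]

variable [Injective Q]

/-- A retraction. -/
noncomputable def retr : God Q ⟶ Q := Injective.factorThru (𝟙 Q) (toGod Q)

theorem retr_toGod (W : Cᵒᵖ) (x : Q.obj W) : (retr Q).app W ((toGod Q).app W x) = x :=
  ConcreteCategory.congr_hom (congr_app (Injective.comp_factorThru (𝟙 Q) (toGod Q)) W) x

include hK in
/-- Injective presheaves: exactness in degree zero. -/
theorem exists_ee_eq (x : Q.obj (op (ob K 0))) (hx : dd Q K 0 x = 0) : ∃ c, ee Q K c = x := by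
  obtain ⟨c, hc⟩ := exists_ee_eq_God Q hK ((toGod Q).app _ x)
    ((map_dd K (toGod Q) 0 x).symm.trans ((congrArg _ hx).trans (map_zero _)))
  exact ⟨(retr Q).app _ c, (map_ee K (retr Q) c).symm.trans ((congrArg _ hc).trans (retr_toGod Q _ x))⟩

include hK in
/-- Injective presheaves: exactness in positive degrees. -/
theorem exists_dd_eq (n : ℕ) (x : Q.obj (op (ob K (n + 1)))) (hx : dd Q K (n + 1) x = 0) :
    ∃ c, dd Q K n c = x := by
  obtain ⟨c, hc⟩ := exists_dd_eq_God Q hK n ((toGod Q).app _ x)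
    ((map_dd K (toGod Q) (n + 1) x).symm.trans ((congrArg _ hx).trans (map_zero _)))
  exact ⟨(retr Q).app _ c, (map_dd K (retr Q) n c).symm.trans ((congrArg _ hc).trans (retr_toGod Q _ x))⟩

end Groth.Agent.H15Site.FppfEt
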