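import Groth.Agent.H15Site.IntDesc.Cech
import Groth.Agent.H15Site.FppfEt.Simplicial
import Groth.Agent.H15Site.FppfEt.Covers
import Groth.Agent.H18Et.IntegralSection

/-!
# Étale localisations of the nerve of a morphism over an object of the big site

For `π : T ⟶ B` and an étale `V` over `B`: the augmented simplicial object `n ↦ V ×_B Tₙ` over `S`,
its restriction maps, contractions, and lifting of étale coverings of its levels for integral `π`.
-/

set_option autoImplicit false
set_option linter.style.haveILetI false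
set_option linter.unusedSectionVars false
set_option backward.isDefEq.respectTransparency false
set_option backward.isDefEq.respectTransparency.types false

universe u

open CategoryTheory CategoryTheory.Limits AlgebraicGeometry Opposite Simplicial

namespace Groth.Agent.H15Site.FppfEt

open Groth.Agent.H15Site.IntDesc (prodObj prodMap prodMapV cech powBase prodMap_id prodMap_comp
  prodMap_fst prodMap_snd prodMapV_fst prodMapV_snd prodMap_prodMapV)

variable {S : Scheme.{u}} (B : Over S)

/-- An étale scheme over an object, in the big site. -/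
noncomputable abbrev etO (V : B.left.Etale) : Over S := (Over.map B.hom).obj ((EtFppf.a B.left).obj V)

/-- A map of étale schemes, in the big site. -/
noncomputable abbrev etMap {V V' : B.left.Etale} (g : V' ⟶ V) : etO B V' ⟶ etO B V :=
  (Over.map B.hom).map ((EtFppf.a B.left).map g)

variable {B} {T : Scheme.{u}} (π : T ⟶ B.left)

/-- The levels. -/
noncomputable abbrev lev (n : ℕ) : Over B.left := (cech π).left.obj (op ⦋n⦌)

/-- `n ↦ V ×_B Tₙ ⟶ V`. -/
noncomputable def Kv (V : B.left.Etale) : SimplicialObject.Augmented (Over S) where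
  left :=
    { obj := fun n => (Over.map B.hom).obj (prodObj ((cech π).left.obj n) V)
      map := fun g => (Over.map B.hom).map (prodMap ((cech π).left.map g) V)
      map_id := fun n => by rw [CategoryTheory.Functor.map_id, prodMap_id, CategoryTheory.Functor.map_id]
      map_comp := fun g h => by rw [Functor.map_comp, prodMap_comp, Functor.map_comp] }
  right := etO B V
  hom :=
    { app := fun n => Over.homMk (pullback.fst V.hom ((cech π).left.obj n).hom) (by
        show pullback.fst _ _ ≫ V.hom ≫ B.hom =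
          (pullback.snd V.hom ((cech π).left.obj n).hom ≫ ((cech π).left.obj n).hom) ≫ B.hom
        rw [← Category.assoc, pullback.condition])
      naturality := fun n m g => Over.OverMorphism.ext
        ((prodMap_fst ((cech π).left.map g) V).trans (Category.comp_id _).symm) }

/-- Restriction. -/
noncomputable def ρ (n : ℕ) {V V' : B.left.Etale} (g : V' ⟶ V) : ob (Kv π V') n ⟶ ob (Kv π V) n :=
  (Over.map B.hom).map (prodMapV (lev π n) g)

theorem ρ_δ (n : ℕ) (i : Fin (n + 2)) {V V' : B.left.Etale} (g : V' ⟶ V) :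
    (Kv π V').left.δ i ≫ ρ π n g = ρ π (n + 1) g ≫ (Kv π V).left.δ i := by
  show (Over.map B.hom).map _ ≫ (Over.map B.hom).map _ = (Over.map B.hom).map _ ≫ (Over.map B.hom).map _
  rw [← Functor.map_comp, ← Functor.map_comp]
  exact congrArg _ (prodMap_prodMapV _ g)

theorem ρ_augm {V V' : B.left.Etale} (g : V' ⟶ V) :
    ρ π 0 g ≫ augm (Kv π V) 0 = augm (Kv π V') 0 ≫ etMap B g :=
  Over.OverMorphism.ext (prodMapV_fst (lev π 0) g)

theorem ρ_comp (n : ℕ) {V V' V'' : B.left.Etale} (g : V' ⟶ V) (g' : V'' ⟶ V') :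
    ρ π n (g' ≫ g) = ρ π n g' ≫ ρ π n g := by
  show (Over.map B.hom).map _ = (Over.map B.hom).map _ ≫ (Over.map B.hom).map _
  rw [← Functor.map_comp]
  exact congrArg _ (by
    show prodMapV (lev π n) (g' ≫ g) = prodMapV (lev π n) g' ≫ prodMapV (lev π n) g
    simp only [prodMapV, Functor.map_comp])

section Maps

variable (Q : (Over S)ᵒᵖ ⥤ AddCommGrpCat.{u + 1})

theorem map_ρ_dd (n : ℕ) {V V' : B.left.Etale} (g : V' ⟶ V) (x : Q.obj (op (ob (Kv π V) n))) :
    Q.map (ρ π (n + 1) g).op (dd Q (Kv π V) n x) = dd Q (Kv π V') n (Q.map (ρ π n g).op x) := by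
  rw [dd_apply, dd_apply, map_sum]
  refine Finset.sum_congr rfl fun i _ => ?_
  rw [map_zsmul]
  refine congrArg _ ?_
  refine (ConcreteCategory.congr_hom (Q.map_comp _ _).symm x).trans ?_
  rw [← op_comp, ← ρ_δ, op_comp, Functor.map_comp]
  rfl

theorem map_ρ_ee {V V' : B.left.Etale} (g : V' ⟶ V) (x : Q.obj (op (etO B V))) :
    Q.map (ρ π 0 g).op (ee Q (Kv π V) x) = ee Q (Kv π V') (Q.map (etMap B g).op x) := by
  refine (ConcreteCategory.congr_hom (Q.map_comp _ _).symm x).trans ?_
  rw [← op_comp]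
  refine (ConcreteCategory.congr_hom (congrArg (fun k => Q.map (Quiver.Hom.op k)) (ρ_augm π g)) x).trans ?_
  rw [op_comp, Functor.map_comp]
  rfl

end Maps

/-- The nerve is contractible over every map which lifts. -/
theorem hasContr_Kv (V : B.left.Etale) : HasContr (Kv π V) := by
  intro W g t ht
  let pg : W.left ⟶ V.left := g.left
  have base_eq : ∀ n (h : W ⟶ ob (Kv π V) n), h ≫ augm (Kv π V) n = g →
      h.left ≫ pullback.snd V.hom (powBase π (n + 1)) ≫ powBase π (n + 1) = pg ≫ V.hom := by
    intro n h hh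
    rw [← pullback.condition, ← Category.assoc]
    exact congrArg (· ≫ V.hom) (congrArg (fun m => m.left) hh)
  let t0 : W.left ⟶ T := t.left ≫ pullback.snd V.hom (powBase π 1) ≫ WidePullback.π (fun _ : Fin 1 => π) 0
  have ht0 : t0 ≫ π = pg ≫ V.hom := by
    show (t.left ≫ pullback.snd V.hom (powBase π 1) ≫ WidePullback.π (fun _ : Fin 1 => π) 0) ≫ π = _
    simp only [Category.assoc, WidePullback.π_arrow]
    exact base_eq 0 t ht
  have hσ : ∀ n (h : W ⟶ ob (Kv π V) n), h ≫ augm (Kv π V) n = g →
      ∃ h' : W ⟶ ob (Kv π V) (n + 1), h' ≫ augm (Kv π V) (n + 1) = g ∧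
        h'.left ≫ pullback.snd V.hom (powBase π (n + 2)) ≫ WidePullback.π (fun _ : Fin (n + 2) => π) 0 = t0 ∧
        ∀ i : Fin (n + 1), h'.left ≫ pullback.snd V.hom (powBase π (n + 2)) ≫
          WidePullback.π (fun _ : Fin (n + 2) => π) i.succ =
          h.left ≫ pullback.snd V.hom (powBase π (n + 1)) ≫ WidePullback.π (fun _ : Fin (n + 1) => π) i := by
    intro n h hh
    let p : W.left ⟶ widePullback B.left (fun _ : Fin (n + 2) => T) (fun _ => π) :=
      WidePullback.lift (pg ≫ V.hom) (Fin.cases t0 (fun i => h.left ≫ pullback.snd V.hom (powBase π (n + 1)) ≫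
        WidePullback.π (fun _ : Fin (n + 1) => π) i)) (fun j => by
          cases j using Fin.cases with
          | zero => exact ht0
          | succ i => simp only [Fin.cases_succ, Category.assoc, WidePullback.π_arrow]; exact base_eq n h hh)
    have hp : pg ≫ V.hom = p ≫ powBase π (n + 2) := (WidePullback.lift_base _ _ _ _).symm
    let h' : W ⟶ ob (Kv π V) (n + 1) := Over.homMk (pullback.lift pg p hp) (by
      show pullback.lift pg p hp ≫ (pullback.snd V.hom (powBase π (n + 2)) ≫ powBase π (n + 2)) ≫ B.hom = W.hom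
      rw [← pullback.condition, ← Category.assoc, ← Category.assoc, pullback.lift_fst, Category.assoc]
      exact Over.w g)
    refine ⟨h', Over.OverMorphism.ext (pullback.lift_fst _ _ _), ?_, fun i => ?_⟩
    · show pullback.lift pg p hp ≫ _ = _
      rw [pullback.lift_snd_assoc, WidePullback.lift_π, Fin.cases_zero]
    · show pullback.lift pg p hp ≫ _ = _
      rw [pullback.lift_snd_assoc, WidePullback.lift_π, Fin.cases_succ]
  classical
  have key : ∀ (n : ℕ) (h : W ⟶ ob (Kv π V) (n + 1)) (j : Fin (n + 2)) (i : Fin (n + 1)),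
      (h ≫ (Kv π V).left.δ j).left ≫ pullback.snd V.hom (powBase π (n + 1)) ≫
        WidePullback.π (fun _ : Fin (n + 1) => π) i =
      h.left ≫ pullback.snd V.hom (powBase π (n + 2)) ≫
        WidePullback.π (fun _ : Fin (n + 2) => π) (j.succAbove i) := by
    intro n h j i
    show (h.left ≫ (prodMap ((cech π).left.δ j) V).left) ≫ _ = _
    refine Eq.trans ?_ (congrArg (fun k => h.left ≫ k) (show
      pullback.snd V.hom (powBase π (n + 2)) ≫ WidePullback.π (fun _ : Fin (n + 2) => π) (j.succAbove i) = _ from rfl))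
    rw [Category.assoc]
    refine congrArg (fun k => h.left ≫ k) ?_
    refine ((Category.assoc _ _ _).symm.trans (congrArg (· ≫ _)
      (prodMap_snd ((cech π).left.δ j) V))).trans ((Category.assoc _ _ _).trans ?_)
    exact congrArg (fun k => pullback.snd V.hom (powBase π (n + 2)) ≫ k) (show ((cech π).left.δ j).left ≫ WidePullback.π (fun _ : Fin (n + 1) => π) i =
        WidePullback.π (fun _ : Fin (n + 2) => π) (j.succAbove i) from WidePullback.lift_π _ _ _ _ _)
  have ext : ∀ (n : ℕ) (a b : W ⟶ ob (Kv π V) n),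
      a ≫ augm (Kv π V) n = g → b ≫ augm (Kv π V) n = g →
      (∀ i, a.left ≫ pullback.snd V.hom (powBase π (n + 1)) ≫ WidePullback.π (fun _ : Fin (n + 1) => π) i =
        b.left ≫ pullback.snd V.hom (powBase π (n + 1)) ≫ WidePullback.π (fun _ : Fin (n + 1) => π) i) →
      a = b := by
    intro n a b ha hb hi
    refine Over.OverMorphism.ext (pullback.hom_ext ?_ (WidePullback.hom_ext _ _ _ (fun i => ?_) ?_))
    · exact (congrArg (fun m => m.left) ha).trans (congrArg (fun m => m.left) hb).symm
    · rw [Category.assoc, Category.assoc]; exact hi i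
    · rw [Category.assoc, Category.assoc]
      exact (base_eq n a ha).trans (base_eq n b hb).symm
  let σ : ∀ n, (W ⟶ ob (Kv π V) n) → (W ⟶ ob (Kv π V) (n + 1)) := fun n h =>
    if hh : h ≫ augm (Kv π V) n = g then (hσ n h hh).choose
    else h ≫ (Kv π V).left.σ (0 : Fin (n + 1))
  have σ_spec := fun n h (hh : h ≫ augm (Kv π V) n = g) =>
    (show σ n h = (hσ n h hh).choose from dif_pos hh) ▸ (hσ n h hh).choose_spec
  refine ⟨σ, fun n h hh => (σ_spec n h hh).1, fun n h hh => ?_, fun h hh => ?_, fun n i h hh => ?_⟩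
  · refine ext n _ _ ?_ hh fun i => ?_
    · rw [Category.assoc, δ_augm]; exact (σ_spec n h hh).1
    · rw [key, Fin.succAbove_zero]; exact (σ_spec n h hh).2.2 i
  · refine ext 0 _ _ ?_ ht fun i => ?_
    · rw [Category.assoc, δ_augm]; exact (σ_spec 0 h hh).1
    · rw [key, Fin.fin_one_eq_zero i, show (1 : Fin 2).succAbove 0 = 0 from rfl]
      exact (σ_spec 0 h hh).2.1
  · have hh' : (h ≫ (Kv π V).left.δ i) ≫ augm (Kv π V) n = g := by rw [Category.assoc, δ_augm]; exact hh
    refine ext (n + 1) _ _ ?_ (σ_spec n _ hh').1 fun k => ?_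
    · rw [Category.assoc, δ_augm]; exact (σ_spec (n + 1) h hh).1
    · cases k using Fin.cases with
      | zero => rw [key, Fin.succ_succAbove_zero, (σ_spec (n + 1) h hh).2.1]; exact (σ_spec n _ hh').2.1.symm
      | succ k => rw [key, Fin.succ_succAbove_succ, (σ_spec (n + 1) h hh).2.2, (σ_spec n _ hh').2.2, key]

/-- **Lifting**: a section of `Q₂` on a level of the nerve of an integral morphism which is étale locally an image
is an image on an étale neighbourhood in `V`. -/
theorem exists_nbhd_image [IsIntegralHom π] {Q₁ Q₂ : BigSite.Ab Scheme.etalePrecoverage S} (φ : Q₁ ⟶ Q₂)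
    (n : ℕ) (V : B.left.Etale) (v : V.left) (s : Q₂.obj.obj (op (ob (Kv π V) n)))
    (h : ∀ x : (ob (Kv π V) n).left, ∃ (Z : Over S) (f : Z ⟶ ob (Kv π V) n), Etale f.left ∧
      x ∈ Set.range f.left.base ∧ ∃ y, φ.hom.app (op Z) y = Q₂.obj.map f.op s) :
    ∃ (V' : B.left.Etale) (g : V' ⟶ V) (v' : V'.left), g.left.base v' = v ∧
      ∃ y, φ.hom.app (op (ob (Kv π V') n)) y = Q₂.obj.map (ρ π n g).op s := by
  choose Z f hf hx y hy using h
  haveI := IntDesc.isIntegralHom_powBase π n
  let X := (ob (Kv π V) n).left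
  let q0 : X ⟶ V.left := pullback.fst V.hom (powBase π (n + 1))
  haveI : IsIntegralHom q0 :=
    MorphismProperty.of_isPullback (P := @IsIntegralHom)
      (IsPullback.of_hasPullback V.hom (powBase π (n + 1))).flip inferInstance
  let d : (∐ fun x => (Z x).left) ⟶ X := Limits.Sigma.desc fun x => (f x).left
  haveI : IsZariskiLocalAtSource (EtCoh.etaleMP.{u}) := inferInstance
  haveI : Etale d := IsZariskiLocalAtSource.sigmaDesc (P := EtCoh.etaleMP.{u}) hf
  obtain ⟨W, q, hq, ⟨w, hw⟩, a, ha⟩ := H18Et.exists_etale_section q0 d v fun x _ => by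
    obtain ⟨p, hp⟩ := hx x
    exact ⟨(Limits.Sigma.ι (fun x => (Z x).left) x).base p, (Scheme.Hom.comp_apply _ _ _).symm.trans
      ((congrArg (fun k : (Z x).left ⟶ X => k.base p) (Sigma.ι_desc _ x)).trans hp)⟩
  haveI : Etale V.hom := V.prop
  let V' : B.left.Etale := MorphismProperty.Over.mk ⊤ (q ≫ V.hom)
    (inferInstanceAs (Etale (q ≫ V.hom)))
  let g : V' ⟶ V := MorphismProperty.Over.homMk q rfl trivial
  refine ⟨V', g, w, hw, ?_⟩
  let X' := (ob (Kv π V') n).left
  let r : X' ⟶ X := (ρ π n g).left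
  have hr : r ≫ q0 = pullback.fst V'.hom (powBase π (n + 1)) ≫ q := prodMapV_fst (lev π n) g
  let e : X' ⟶ ∐ fun x => (Z x).left :=
    pullback.lift (pullback.fst V'.hom (powBase π (n + 1))) r hr.symm ≫ a
  have he : e ≫ d = r := by
    show (pullback.lift _ _ _ ≫ a) ≫ d = r
    rw [Category.assoc, ha, pullback.lift_snd]
  let O : X → X'.Opens := fun x => e ⁻¹ᵁ (Limits.Sigma.ι (fun x => (Z x).left) x).opensRange
  let k : ∀ x, (O x).toScheme ⟶ (Z x).left := fun x =>
    IsOpenImmersion.lift (Limits.Sigma.ι (fun x => (Z x).left) x) ((O x).ι ≫ e) (by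
      rintro _ ⟨p, rfl⟩
      exact p.2)
  have hk : ∀ x, k x ≫ (f x).left = (O x).ι ≫ r := fun x => by
    rw [show (f x).left = Limits.Sigma.ι (fun x => (Z x).left) x ≫ d from
        (Sigma.ι_desc (fun x => (f x).left) x).symm,
      ← Category.assoc, IsOpenImmersion.lift_fac, Category.assoc, he]
  let l : ∀ x, Over.mk ((O x).ι ≫ (ob (Kv π V') n).hom) ⟶ Z x := fun x => Over.homMk (k x) (by
    show k x ≫ (Z x).hom = (O x).ι ≫ (ob (Kv π V') n).hom
    rw [← Over.w (f x), ← Category.assoc, hk, Category.assoc]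
    exact congrArg ((O x).ι ≫ ·) (Over.w (ρ π n g)))
  obtain ⟨Y, hY⟩ := exists_glue_opens Q₁ (U := ob (Kv π V') n) O
    (fun i j hij => TopologicalSpace.Opens.coe_disjoint.1 (Set.disjoint_left.2 fun p hp hp' =>
      Set.disjoint_left.1 (TopologicalSpace.Opens.coe_disjoint.2
        (disjoint_opensRange_sigmaι (fun x => (Z x).left) i j hij)) hp hp'))
    (top_le_iff.1 fun p _ => by
      obtain ⟨i, m, hm⟩ := (sigmaOpenCover fun x => (Z x).left).exists_eq (e.base p)
      exact TopologicalSpace.Opens.mem_iSup.2 ⟨i, ⟨m, hm⟩⟩)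
    (fun x => Q₁.obj.map (l x).op (y x))
  refine ⟨Y, Sections.eq_of_family Q₂ _
    (fun x => Over.homMk (U := Over.mk ((O x).ι ≫ (ob (Kv π V') n).hom)) (V := ob (Kv π V') n) (O x).ι rfl)
    (ofArrows_mem_etale _ _ (fun x => inferInstanceAs (Etale (O x).ι)) fun p => ?_) fun x => ?_⟩
  · obtain ⟨i, m, hm⟩ := (sigmaOpenCover fun x => (Z x).left).exists_eq (e.base p)
    exact ⟨i, ⟨p, ⟨m, hm⟩⟩, rfl⟩
  · refine (ConcreteCategory.congr_hom (φ.hom.naturality _) Y).symm.trans ?_
    refine (congrArg (φ.hom.app _) (hY x)).trans ?_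
    refine (ConcreteCategory.congr_hom (φ.hom.naturality (l x).op) (y x)).trans ?_
    refine (congrArg (Q₂.obj.map (l x).op) (hy x)).trans ?_
    exact (Sections.map_map Q₂ (l x) (f x) s).trans ((Sections.map_congr Q₂
      (Over.OverMorphism.ext (hk x)) s).trans (Sections.map_map Q₂ _ (ρ π n g) s).symm)

end Groth.Agent.H15Site.FppfEt
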