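import Groth.Agent.H15Site.FppfEt.Nerve

/-!
# Descent of `π⁻¹F` along integral surjective morphisms

The complex of sections of `π⁻¹F` on the localised nerve of an integral surjective morphism is exact
étale locally.
-/

set_option autoImplicit false
set_option linter.style.haveILetI false
set_option linter.unusedSectionVars false
set_option backward.isDefEq.respectTransparency false
set_option backward.isDefEq.respectTransparency.types false

universe u

open CategoryTheory CategoryTheory.Limits AlgebraicGeometry Opposite Simplicial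

namespace Groth.Agent.H15Site.FppfEt

open Groth.Agent.H15Site.IntDesc (bigSh prodObj prodMap coC coC_d augC augCx Cmap descCx cech)

variable {S : Scheme.{u}} (F : EtCoh.Ab S) {B : Over S} {T : Scheme.{u}} (π : T ⟶ B.left)
  [IsIntegralHom π] [Surjective π]

/-- `F` on the small site of the object. -/
noncomputable abbrev FB (B : Over S) : EtCoh.Ab B.left := (EtCoh.pull B.hom).obj F

/-- The two big sheaves on the object agree. -/
noncomputable abbrev θ (B : Over S) :
    (BigSite.pullBig Scheme.etalePrecoverage B.hom AddCommGrpCat.{u + 1}).obj (bigSh F) ≅ bigSh (FB F B) :=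
  (H13Desc.BigRes.piPullIso B.hom).app F

/-- The comparison on sections. -/
noncomputable def θh (W : Over B.left) (x : (bigSh F).obj.obj (op ((Over.map B.hom).obj W))) :
    (bigSh (FB F B)).obj.obj (op W) :=
  (θ F B).hom.hom.app (op W) x

/-- The inverse comparison on sections. -/
noncomputable def θi (W : Over B.left) (x : (bigSh (FB F B)).obj.obj (op W)) :
    (bigSh F).obj.obj (op ((Over.map B.hom).obj W)) :=
  (θ F B).inv.hom.app (op W) x

theorem θh_θi (W : Over B.left) (x : (bigSh (FB F B)).obj.obj (op W)) : θh F W (θi F W x) = x :=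
  ConcreteCategory.congr_hom (congr_app (congrArg (fun k => k.hom) (θ F B).inv_hom_id) (op W)) x

theorem θi_θh (W : Over B.left) (x : (bigSh F).obj.obj (op ((Over.map B.hom).obj W))) :
    θi F W (θh F W x) = x :=
  ConcreteCategory.congr_hom (congr_app (congrArg (fun k => k.hom) (θ F B).hom_inv_id) (op W)) x

theorem θh_zero (W : Over B.left) : θh F W 0 = 0 := map_zero _

theorem θh_map {W W' : Over B.left} (h : W' ⟶ W) (x : (bigSh F).obj.obj (op ((Over.map B.hom).obj W))) :
    θh F W' ((bigSh F).obj.map ((Over.map B.hom).map h).op x) = (bigSh (FB F B)).obj.map h.op (θh F W x) :=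
  ConcreteCategory.congr_hom ((θ F B).hom.hom.naturality h.op) x

theorem θi_map {W W' : Over B.left} (h : W' ⟶ W) (x : (bigSh (FB F B)).obj.obj (op W)) :
    θi F W' ((bigSh (FB F B)).obj.map h.op x) = (bigSh F).obj.map ((Over.map B.hom).map h).op (θi F W x) :=
  ConcreteCategory.congr_hom ((θ F B).inv.hom.naturality h.op) x

theorem coC_d_app (n : ℕ) (V : B.left.Etale) (c : EtCoh.sect ((coC (FB F B) (cech π)).X n) V) :
    ((coC (FB F B) (cech π)).d n (n + 1)).hom.app (op V) c =
      ∑ i : Fin (n + 2), ((-1 : ℤ) ^ (i : ℕ)) •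
        (bigSh (FB F B)).obj.map (prodMap ((cech π).left.δ i) V).op c := by
  rw [coC_d]
  let e : (IntDesc.C (FB F B) (lev π n) ⟶ IntDesc.C (FB F B) (lev π (n + 1))) →+
      EtCoh.sect (IntDesc.C (FB F B) (lev π (n + 1))) V :=
    AddMonoidHom.mk' (fun φ => φ.hom.app (op V) c) (fun _ _ => rfl)
  show e _ = _
  rw [map_sum]
  refine Finset.sum_congr rfl fun i _ => ?_
  rw [map_zsmul]
  rfl

theorem θh_dd (n : ℕ) (V : B.left.Etale) (s : (bigSh F).obj.obj (op (ob (Kv π V) n))) :
    θh F (prodObj (lev π (n + 1)) V) (dd (bigSh F).obj (Kv π V) n s) =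
      ((coC (FB F B) (cech π)).d n (n + 1)).hom.app (op V) (θh F (prodObj (lev π n) V) s) := by
  rw [coC_d_app, dd_apply]
  show (θ F B).hom.hom.app _ _ = _
  rw [map_sum]
  refine Finset.sum_congr rfl fun i _ => ?_
  rw [map_zsmul]
  exact congrArg _ (θh_map F (prodMap ((cech π).left.δ i) V) s)

/-- Local surjectivity in the small étale site. -/
theorem exists_nbhd_preimage {T : ShortComplex (EtCoh.Ab B.left)} (hT : T.Exact) (V : B.left.Etale)
    (v : V.left) (x : EtCoh.sect T.X₂ V) (hx : T.g.hom.app (op V) x = 0) :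
    ∃ (V' : B.left.Etale) (g : V' ⟶ V) (v' : V'.left), g.left.base v' = v ∧
      ∃ y, T.f.hom.app (op V') y = T.X₂.obj.map g.op x := by
  obtain ⟨R, hR, hy⟩ := Sections.exists_local_preimage hT V x hx
  have eY : B.left.smallEtaleTopology = (B.left.smallPretopology (P := EtCoh.etaleMP) (Q := EtCoh.etaleMP)).toGrothendieck :=
    Scheme.smallGrothendieckTopology_eq_toGrothendieck_smallPretopology B.left le_rfl
  rw [eY] at hR
  obtain ⟨V', g, v', hg, -, hv⟩ := (Scheme.mem_toGrothendieck_smallPretopology V R).1 hR v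
  exact ⟨V', g, v', hv, hy g hg⟩

theorem exact_coC (n : ℕ) :
    (ShortComplex.mk ((coC (FB F B) (cech π)).d n (n + 1)) ((coC (FB F B) (cech π)).d (n + 1) (n + 1 + 1))
      ((coC (FB F B) (cech π)).d_comp_d _ _ _)).Exact := by
  have h := IntDesc.acyclic_cech π (FB F B) ((ComplexShape.embeddingUpIntGE (-1)).f (n + 2))
  rw [HomologicalComplex.extend_exactAt_iff (augCx (FB F B) (cech π)) _ rfl,
    HomologicalComplex.exactAt_iff' _ (n + 1) (n + 2) (n + 3) (by simp) (by simp)] at h
  exact h

theorem exact_augC :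
    (ShortComplex.mk (augC (FB F B) (cech π)) ((coC (FB F B) (cech π)).d 0 1)
      (IntDesc.aug_comp_d (FB F B) (cech π))).Exact := by
  have h := IntDesc.acyclic_cech π (FB F B) ((ComplexShape.embeddingUpIntGE (-1)).f 1)
  rw [HomologicalComplex.extend_exactAt_iff (augCx (FB F B) (cech π)) _ rfl,
    HomologicalComplex.exactAt_iff' _ 0 1 2 (by simp) (by simp)] at h
  exact h

theorem mono_augC : Mono (augC (FB F B) (cech π)) := by
  have h := IntDesc.acyclic_cech π (FB F B) ((ComplexShape.embeddingUpIntGE (-1)).f 0)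
  rw [HomologicalComplex.extend_exactAt_iff (augCx (FB F B) (cech π)) _ rfl,
    HomologicalComplex.exactAt_iff' _ 0 0 1 (by simp) (by simp)] at h
  exact h.mono_g ((augCx (FB F B) (cech π)).shape 0 0 (by simp))

/-- Exactness in positive degrees, étale locally. -/
theorem exists_nbhd_dd (n : ℕ) (V : B.left.Etale) (v : V.left)
    (s : (bigSh F).obj.obj (op (ob (Kv π V) (n + 1)))) (hs : dd (bigSh F).obj (Kv π V) (n + 1) s = 0) :
    ∃ (V' : B.left.Etale) (g : V' ⟶ V) (v' : V'.left), g.left.base v' = v ∧
      ∃ c, dd (bigSh F).obj (Kv π V') n c = (bigSh F).obj.map (ρ π (n + 1) g).op s := by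
  obtain ⟨V', g, v', hv, y, hy⟩ := exists_nbhd_preimage (exact_coC F π n) V v
    (θh F (prodObj (lev π (n + 1)) V) s) (by
      refine (θh_dd F π (n + 1) V s).symm.trans ?_
      rw [hs, θh_zero])
  refine ⟨V', g, v', hv, θi F (prodObj (lev π n) V') y, ?_⟩
  apply Function.LeftInverse.injective (θi_θh F (prodObj (lev π (n + 1)) V'))
  refine ((θh_dd F π n V' _).trans ?_).trans (θh_map F (IntDesc.prodMapV (lev π (n + 1)) g) s).symm
  rw [θh_θi]
  exact hy

/-- The comparison of `V` with `V ×_B B`. -/
noncomputable def toProd (V : B.left.Etale) :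
    (EtFppf.a B.left).obj V ⟶ prodObj (cech π).right V :=
  Over.homMk (pullback.lift (𝟙 _) V.hom ((Category.id_comp _).trans (Category.comp_id _).symm))
    ((congrArg (_ ≫ ·) (Category.comp_id (pullback.snd V.hom (𝟙 B.left)))).trans (pullback.lift_snd _ _ _))

/-- The projection from `V ×_B B`. -/
noncomputable def fromProd (V : B.left.Etale) :
    prodObj (cech π).right V ⟶ (EtFppf.a B.left).obj V :=
  Over.homMk (pullback.fst V.hom (𝟙 B.left)) (by
    show pullback.fst V.hom (𝟙 B.left) ≫ V.hom = pullback.snd V.hom (𝟙 B.left) ≫ 𝟙 B.left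
    exact pullback.condition)

theorem toProd_fromProd (V : B.left.Etale) : toProd π V ≫ fromProd π V = 𝟙 _ :=
  Over.OverMorphism.ext (pullback.lift_fst _ _ _)

theorem augm_toProd (V : B.left.Etale) :
    augm (Kv π V) 0 ≫ (Over.map B.hom).map (toProd π V) =
      (Over.map B.hom).map (prodMap (IntDesc.aug₀ (cech π)) V) := by
  refine Over.OverMorphism.ext (pullback.hom_ext ?_ ?_)
  · show (pullback.fst V.hom _ ≫ pullback.lift (𝟙 _) V.hom _) ≫ pullback.fst V.hom (𝟙 B.left) =
      (prodMap (IntDesc.aug₀ (cech π)) V).left ≫ _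
    rw [Category.assoc, pullback.lift_fst, Category.comp_id]
    exact (IntDesc.prodMap_fst _ _).symm
  · show (pullback.fst V.hom _ ≫ pullback.lift (𝟙 _) V.hom _) ≫ pullback.snd V.hom (𝟙 B.left) =
      (prodMap (IntDesc.aug₀ (cech π)) V).left ≫ _
    rw [Category.assoc, pullback.lift_snd, pullback.condition]
    exact (IntDesc.prodMap_snd (IntDesc.aug₀ (cech π)) V).symm

/-- Exactness in degree zero, étale locally. -/
theorem exists_nbhd_ee (V : B.left.Etale) (v : V.left)
    (s : (bigSh F).obj.obj (op (ob (Kv π V) 0))) (hs : dd (bigSh F).obj (Kv π V) 0 s = 0) :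
    ∃ (V' : B.left.Etale) (g : V' ⟶ V) (v' : V'.left), g.left.base v' = v ∧
      ∃ c, ee (bigSh F).obj (Kv π V') c = (bigSh F).obj.map (ρ π 0 g).op s := by
  obtain ⟨V', g, v', hv, y, hy⟩ := exists_nbhd_preimage (exact_augC F π) V v
    (θh F (prodObj (lev π 0) V) s) (by
      refine (θh_dd F π 0 V s).symm.trans ?_
      rw [hs, θh_zero])
  refine ⟨V', g, v', hv,
    (bigSh F).obj.map ((Over.map B.hom).map (toProd π V')).op (θi F (prodObj (cech π).right V') y), ?_⟩
  refine (Sections.map_map (bigSh F) _ _ _).trans ((Sections.map_congr (bigSh F) (augm_toProd π V') _).trans ?_)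
  refine (θi_map F (prodMap (IntDesc.aug₀ (cech π)) V') y).symm.trans ?_
  refine (congrArg (θi F (prodObj (lev π 0) V')) hy).trans ?_
  refine (congrArg (θi F _) (θh_map F (IntDesc.prodMapV (lev π 0) g) s).symm).trans ?_
  exact θi_θh F (prodObj (lev π 0) V') _

/-- Sections are determined on the covering. -/
theorem ee_injective (V : B.left.Etale) (x : (bigSh F).obj.obj (op (etO B V)))
    (hx : ee (bigSh F).obj (Kv π V) x = 0) : x = 0 := by
  haveI := mono_augC F π
  let x₁ := (bigSh F).obj.map ((Over.map B.hom).map (fromProd π V)).op x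
  have h1 : θh F (prodObj (cech π).right V) x₁ = 0 := by
    refine Sections.injective_app (augC (FB F B) (cech π)) V (Eq.trans ?_ (map_zero _).symm)
    refine (θh_map F (prodMap (IntDesc.aug₀ (cech π)) V) x₁).symm.trans ?_
    refine Eq.trans (congrArg (θh F _) ?_) (θh_zero F _)
    refine (Sections.map_map (bigSh F) _ _ x).trans (Eq.trans ?_ hx)
    refine Sections.map_congr (bigSh F) (Over.OverMorphism.ext ?_) x
    exact IntDesc.prodMap_fst (IntDesc.aug₀ (cech π)) V
  have h2 : x₁ = 0 :=
    (θi_θh F (prodObj (cech π).right V) x₁).symm.trans ((congrArg (θi F _) h1).trans (map_zero _))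
  have h3 := congrArg ((bigSh F).obj.map ((Over.map B.hom).map (toProd π V)).op) h2
  rw [map_zero] at h3
  refine Eq.trans ?_ h3
  refine Eq.trans ?_ (Sections.map_map (bigSh F) _ _ x).symm
  rw [← Functor.map_comp, toProd_fromProd, CategoryTheory.Functor.map_id]
  exact (ConcreteCategory.congr_hom ((bigSh F).obj.map_id _) x).symm

end Groth.Agent.H15Site.FppfEt
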