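import Groth.Agent.H15Site.FppfEt.FinitePushR
import Groth.Agent.H15Site.Shriek.ProperLqf
import Groth.Agent.H18Et.Subterminal

/-!
# Acyclic torsion sheaves stay acyclic on the big fppf site, given proper base change on stalks
-/

set_option autoImplicit false
set_option linter.style.haveILetI false
set_option linter.unusedSectionVars false
set_option backward.isDefEq.respectTransparency false
set_option backward.isDefEq.respectTransparency.types false

universe u

open CategoryTheory CategoryTheory.Limits AlgebraicGeometry Opposite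
open scoped Groth.Agent.H18Et

namespace Groth.Agent.H15Site.FppfEt

attribute [local instance] Groth.Agent.H18Et.pull_preservesFiniteLimits

open Groth.Agent.H15Site.IntDesc (bigSh)
open Groth.Agent.H15Site.Shriek (StalkBC subsingleton_H_iff_surjective_closed subsingleton_H_of_iso)

/-- Torsion sheaves acyclic for a proper direct image stay so after base change. -/
theorem isZero_Rpush_baseChange (hbc : StalkBC.{u}) {X Y X' Y' : Scheme.{u}} {f : X ⟶ Y} {g : Y' ⟶ Y}
    {f' : X' ⟶ Y'} {g' : X' ⟶ X} (sq : IsPullback g' f' f g) [IsProper f] (G : EtCoh.Ab X)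
    (hG : EtCoh.IsTorsion G) (q : ℕ) (hq : IsZero ((EtCoh.Rpush f q).obj G)) :
    IsZero ((EtCoh.Rpush f' q).obj ((EtCoh.pull g').obj G)) := by
  haveI : IsProper f' := MorphismProperty.of_isPullback sq inferInstance
  refine H1DFun.isZero_of_stalks _ fun Ω _ _ η => ?_
  obtain ⟨e⟩ := hbc f' η _ (H18Et.Coh.isTorsion_pull g' G hG) q
  suffices h : Subsingleton (EtCoh.H (pullback f' η)
      ((EtCoh.pull (pullback.fst f' η)).obj ((EtCoh.pull g').obj G)) q) from
    @Equiv.subsingleton _ _ e.addCommGroupIsoToAddEquiv.toEquiv h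
  have hsq : IsPullback (pullback.fst f' η ≫ g') (pullback.snd f' η) f (η ≫ g) :=
    (IsPullback.of_hasPullback f' η).paste_horiz sq
  let i := hsq.isoPullback
  obtain ⟨e₂⟩ := hbc f (η ≫ g) G hG q
  have h0 : Subsingleton (EtCoh.H (pullback f (η ≫ g)) ((EtCoh.pull (pullback.fst f (η ≫ g))).obj G) q) :=
    @Equiv.subsingleton _ _ e₂.addCommGroupIsoToAddEquiv.symm.toEquiv
      (AddCommGrpCat.subsingleton_of_isZero ((EtCoh.stalk (η ≫ g)).map_isZero hq))
  have h1 := (subsingleton_H_iff_surjective_closed i.hom _ q).1 h0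
  have hfst : i.hom ≫ pullback.fst f (η ≫ g) = pullback.fst f' η ≫ g' := hsq.isoPullback_hom_fst
  exact subsingleton_H_of_iso (((EtCore.pullComp i.hom (pullback.fst f (η ≫ g))).app G).symm ≪≫
    eqToIso (by rw [hfst]) ≪≫ (EtCore.pullComp (pullback.fst f' η) g').app G) q h1

variable {X Y : Scheme.{u}} (f : X ⟶ Y) [IsProper f] (G : EtCoh.Ab X)

/-- The complex pushed to the small site of a base change is exact. -/
theorem exact_pushed (hbc : StalkBC.{u}) (hG : EtCoh.IsTorsion G) (q : ℕ)
    (hq : IsZero ((EtCoh.Rpush f (q + 1)).obj G)) (W : Over Y) :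
    ((((EtCoh.push (pullback.fst W.hom f)).mapHomologicalComplex (ComplexShape.up ℕ)).obj
      (resCx G (pW f W))).sc' q (q + 1) (q + 1 + 1)).Exact := by
  let T := pW f W
  let h := pullback.fst W.hom f
  let K := ((EtCoh.push h).mapHomologicalComplex (ComplexShape.up ℕ)).obj (resCx G T)
  have hz : IsZero (((EtCoh.push h).rightDerived (q + 1)).obj (IntDesc.G G T)) :=
    (isZero_Rpush_baseChange hbc (IsPullback.of_hasPullback W.hom f).flip G hG (q + 1) hq).of_iso
      (((EtCoh.push h).rightDerived (q + 1)).mapIso (H13Desc.BigRes.resPiIso T.hom G))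
  have hK : K.ExactAt (q + 1) := (HomologicalComplex.exactAt_iff_isZero_homology _ _).2
    (hz.of_iso ((smallRes G T).isoRightDerivedObj (EtCoh.push h) (q + 1)).symm)
  rwa [HomologicalComplex.exactAt_iff' _ q (q + 1) (q + 1 + 1) (by simp) (by simp)] at hK

/-- **Acyclicity on the big fppf site.** -/
theorem isZero_RpushBig_of_acyclic (hbc : StalkBC.{u}) (hG : EtCoh.IsTorsion G) (q : ℕ)
    (hq : IsZero ((EtCoh.Rpush f (q + 1)).obj G)) :
    IsZero ((EtFppf.RpushBig f (q + 1)).obj (QF G)) := by
  refine IsZero.of_iso ?_ ((Res G).isoRightDerivedObj (EtFppf.pushBig f) (q + 1))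
  refine (HomologicalComplex.exactAt_iff_isZero_homology _ _).1 ?_
  rw [HomologicalComplex.exactAt_iff' _ q (q + 1) (q + 1 + 1) (by simp) (by simp)]
  refine exact_of_local.{u + 1, u, u + 1} (J := EtFppf.J Y) fun W x hx => ?_
  let T := pW f W
  let h := pullback.fst W.hom f
  let K := ((EtCoh.push h).mapHomologicalComplex (ComplexShape.up ℕ)).obj (resCx G T)
  let top := EtCoh.top W.left
  let i₀ : etO T ((EtCoh.bc h).obj top) ⟶ T := Over.homMk (pullback.snd top.hom h) rfl
  let x' : (I G (q + 1)).obj (op (etO T ((EtCoh.bc h).obj top))) := (I G (q + 1)).map i₀.op x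
  have hx' : (dI G (q + 1)).app (op (etO T ((EtCoh.bc h).obj top))) x' = 0 :=
    (nat_app (dI G (q + 1)) i₀ x).trans ((congrArg _ hx).trans (map_zero _))
  obtain ⟨R, hR, hR'⟩ := Sections.exists_local_preimage (exact_pushed f G hbc hG q hq W) top x' hx'
  choose V g v hg hv using fun w : W.left => H18Et.Subterminal.exists_mem_of_cover hR w
  let Z : W.left → Over Y := fun w => Over.mk ((V w).hom ≫ W.hom)
  let gZ : ∀ w, Z w ⟶ W := fun w => Over.homMk (V w).hom rfl
  have hgeq : ∀ w, (g w).left = (V w).hom := fun w =>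
    (Category.comp_id _).symm.trans (MorphismProperty.Over.w (g w))
  refine ⟨Sieve.ofArrows Z gZ, ofArrows_mem_fppf Z gZ
    (fun w => by haveI : Etale (V w).hom := (V w).prop; exact inferInstanceAs (Flat (V w).hom))
    (fun w => by haveI : Etale (V w).hom := (V w).prop; exact inferInstanceAs (LocallyOfFinitePresentation (V w).hom))
    fun w => ⟨w, v w, (congrArg (fun k : (V w).left ⟶ W.left => k.base (v w)) (hgeq w)).symm.trans (hv w)⟩,
    fun Z' k hk => ?_⟩
  obtain ⟨w, l, rfl⟩ := (Sieve.mem_ofArrows_iff _ _ _).1 hk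
  obtain ⟨y', hy'⟩ := hR' (g w) (hg w)
  let kw : pW f (Z w) ⟶ etO T ((EtCoh.bc h).obj (V w)) :=
    Over.homMk (pullback.lift (pullback.fst (Z w).hom f)
      (pullback.lift (pullback.fst (Z w).hom f ≫ (V w).hom) (pullback.snd (Z w).hom f)
        (by rw [Category.assoc]; exact pullback.condition))
      (pullback.lift_fst _ _ _).symm) (by
        show pullback.lift _ _ _ ≫ pullback.snd (V w).hom h ≫ pullback.snd W.hom f = _
        rw [← Category.assoc, pullback.lift_snd, pullback.lift_snd]
        rfl)
  have hkw : kw ≫ etMap T ((EtCoh.bc h).map (g w)) ≫ i₀ = (Over.pullback f).map (gZ w) := by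
    refine Over.OverMorphism.ext ?_
    show kw.left ≫ ((EtCoh.bc h).map (g w)).left ≫ pullback.snd top.hom h = _
    rw [show ((EtCoh.bc h).map (g w)).left ≫ pullback.snd top.hom h = pullback.snd (V w).hom h from
      MorphismProperty.Over.w ((EtCoh.bc h).map (g w))]
    refine (pullback.lift_snd _ _ _).trans (pullback.hom_ext ?_ ?_)
    · exact (pullback.lift_fst _ _ _).trans (pullback.lift_fst _ _ _).symm
    · exact (pullback.lift_snd _ _ _).trans (pullback.lift_snd _ _ _).symm
  refine ⟨(I G q).map ((Over.pullback f).map l).op ((I G q).map kw.op y'), ?_⟩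
  have hmid : (dI G q).app (op (pW f (Z w))) ((I G q).map kw.op y') =
      (I G (q + 1)).map ((Over.pullback f).map (gZ w)).op x := by
    refine (nat_app (dI G q) kw y').trans ((congrArg _ hy').trans ?_)
    refine (congrArg _ (Sections.map_map ((Res G).cocomplex.X (q + 1)) _ i₀ x)).trans ?_
    refine (Sections.map_map ((Res G).cocomplex.X (q + 1)) _ _ x).trans ?_
    exact Sections.map_congr ((Res G).cocomplex.X (q + 1)) hkw x
  refine (nat_app (dI G q) _ _).trans ((congrArg _ hmid).trans ?_)
  refine (Sections.map_map ((Res G).cocomplex.X (q + 1)) _ _ x).trans ?_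
  exact Sections.map_congr ((Res G).cocomplex.X (q + 1)) ((Over.pullback f).map_comp l (gZ w)).symm x

end Groth.Agent.H15Site.FppfEt
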