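import Groth.Agent.H15Site.FppfEt.FinitePushR
import Groth.Agent.H18PBC.DegreeZero

/-!
# Proper direct images commute with inverse images to the big étale and fppf sites

`π_S⁻¹(f_* F) ≅ f_{big,*}(π_X⁻¹ F)` for proper `f : X ⟶ S`, from the base change theorem in degree zero
along every `T ⟶ S`.
-/

set_option autoImplicit false
set_option linter.style.haveILetI false
set_option linter.unusedSectionVars false
set_option backward.isDefEq.respectTransparency false
set_option backward.isDefEq.respectTransparency.types false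

universe u

open CategoryTheory CategoryTheory.Limits AlgebraicGeometry Opposite

namespace Groth.Agent.H15Site.FppfEt

open Groth.Agent.H15Site.IntDesc (bigSh)

section Theta

variable {T S : Scheme.{u}} (g : T ⟶ S)

/-- `V ×_S T ⟶ V` over `S`. -/
noncomputable def fstHom (V : S.Etale) :
    (Over.map g).obj ((EtFppf.a T).obj ((EtCoh.bc g).obj V)) ⟶ (EtFppf.a S).obj V :=
  Over.homMk (pullback.fst V.hom g) pullback.condition

theorem fstHom_naturality {V V' : S.Etale} (h : V' ⟶ V) :
    (Over.map g).map ((EtFppf.a T).map ((EtCoh.bc g).map h)) ≫ fstHom g V =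
      fstHom g V' ≫ (EtFppf.a S).map h :=
  Over.OverMorphism.ext (EtCoh.isPullback_bc_map g h).w

/-- The image of a section of `H` in `π⁻¹H` on `T`. -/
noncomputable def τ₀ (H : EtCoh.Ab S) :
    H ⟶ (EtCoh.push g).obj ((BigSite.resEtAlong Scheme.etalePrecoverage g).obj (bigSh H)) :=
  ⟨{ app := fun V => ((BigSite.piEtAdj Scheme.etalePrecoverage S).unit.app H).hom.app V ≫
       (bigSh H).obj.map (fstHom g V.unop).op
     naturality := fun V V' h => by
      refine ((Category.assoc _ _ _).symm.trans ((congrArg (· ≫ _)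
        (((BigSite.piEtAdj Scheme.etalePrecoverage S).unit.app H).hom.naturality h)).trans
          (Category.assoc _ _ _))).trans ?_
      refine Eq.trans ?_ (Category.assoc _ _ _).symm
      refine congrArg (_ ≫ ·) ?_
      show (bigSh H).obj.map ((EtFppf.a S).map h.unop).op ≫ (bigSh H).obj.map (fstHom g V'.unop).op =
        (bigSh H).obj.map (fstHom g V.unop).op ≫
          (bigSh H).obj.map ((Over.map g).map ((EtFppf.a T).map ((EtCoh.bc g).map h.unop))).op
      rw [← Functor.map_comp, ← Functor.map_comp, ← op_comp, ← op_comp, fstHom_naturality] }⟩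

/-- `g^* H ⟶ (π⁻¹H)|_{T}`. -/
noncomputable def τ (H : EtCoh.Ab S) :
    (EtCoh.pull g).obj H ⟶ (BigSite.resEtAlong Scheme.etalePrecoverage g).obj (bigSh H) :=
  ((EtCoh.pullPushAdj g).homEquiv _ _).symm (τ₀ g H)

theorem τ_unit (H : EtCoh.Ab S) (V : S.Etale) (s : EtCoh.sect H V) :
    (τ g H).hom.app (op ((EtCoh.bc g).obj V))
        (((EtCoh.pullPushAdj g).unit.app H).hom.app (op V) s) =
      (bigSh H).obj.map (fstHom g V).op
        (((BigSite.piEtAdj Scheme.etalePrecoverage S).unit.app H).hom.app (op V) s) := by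
  have e := ((EtCoh.pullPushAdj g).homEquiv _ _).apply_symm_apply (τ₀ g H)
  rw [Adjunction.homEquiv_unit] at e
  exact ConcreteCategory.congr_hom (congrArg (fun k => k.hom.app (op V)) e) s

/-- `τ` is the small site form of `π⁻¹` commuting with inverse images. -/
theorem τ_eq (H : EtCoh.Ab S) :
    τ g H = (BigSite.piEtAdj Scheme.etalePrecoverage T).unit.app ((EtCoh.pull g).obj H) ≫
      (BigSite.resEt Scheme.etalePrecoverage T).map ((H13Desc.BigRes.piPullIso g).inv.app H) := by
  apply ((EtCoh.pullPushAdj g).homEquiv _ _).injective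
  rw [τ, Equiv.apply_symm_apply, Adjunction.homEquiv_unit, Functor.map_comp, ← Category.assoc]
  let adj1 := ((BigSite.piEtAdj Scheme.etalePrecoverage S).comp
      (BigSite.bigAdj Scheme.etalePrecoverage g AddCommGrpCat.{u + 1})).ofNatIsoRight (H13Desc.BigRes.pushRes g)
  let adj2 := (EtCoh.pullPushAdj g).comp (BigSite.piEtAdj Scheme.etalePrecoverage T)
  have h1 := Adjunction.unit_leftAdjointUniq_hom_app adj1 adj2 H
  have h2 : adj2.unit.app H ≫ (BigSite.resEt Scheme.etalePrecoverage T ⋙ EtCoh.push g).map
      ((H13Desc.BigRes.piPullIso g).inv.app H) = adj1.unit.app H := by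
    rw [← h1, Category.assoc, ← Functor.map_comp]
    erw [(H13Desc.BigRes.piPullIso g).hom_inv_id_app, CategoryTheory.Functor.map_id, Category.comp_id]
  have h3 : adj2.unit.app H = (EtCoh.pullPushAdj g).unit.app H ≫
      (EtCoh.push g).map ((BigSite.piEtAdj Scheme.etalePrecoverage T).unit.app ((EtCoh.pull g).obj H)) :=
    Adjunction.comp_unit_app _ _ _
  rw [h3] at h2
  refine Eq.trans ?_ h2.symm
  refine CategoryTheory.Sheaf.hom_ext (NatTrans.ext (funext fun V => AddCommGrpCat.hom_ext
    (AddMonoidHom.ext fun s => ?_)))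
  simp only [adj1, Adjunction.ofNatIsoRight, Adjunction.comp_unit_app, NatTrans.comp_app,
    Functor.whiskerLeft_app, ObjectProperty.FullSubcategory.comp_hom]
  refine Eq.trans ?_ (Sections.map_map (bigSh H) _ _ _).symm
  exact Sections.map_congr (bigSh H) (Over.OverMorphism.ext (Category.id_comp _).symm) _

theorem isIso_τ (H : EtCoh.Ab S) : IsIso (τ g H) := by
  haveI := (Groth.Agent.S6184.result T).2 ((EtCoh.pull g).obj H)
  rw [τ_eq]
  infer_instance

end Theta

variable {X S : Scheme.{u}} (f : X ⟶ S) {T : Scheme.{u}} (g : T ⟶ S) (F : EtCoh.Ab X)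

/-- `V ×_T (T ×_S X) ⟶ V ×_S X`. -/
noncomputable def exch (V : T.Etale) :
    (Over.map (pullback.fst f g)).obj
        ((EtFppf.a (pullback f g)).obj ((EtCoh.bc (pullback.snd f g)).obj V)) ⟶
      pW f ((Over.map g).obj ((EtFppf.a T).obj V)) :=
  Over.homMk (pullback.lift (pullback.fst V.hom (pullback.snd f g))
    (pullback.snd V.hom (pullback.snd f g) ≫ pullback.fst f g)
    (by
      show pullback.fst V.hom (pullback.snd f g) ≫ V.hom ≫ g = _
      rw [pullback.condition_assoc, Category.assoc, pullback.condition])) (pullback.lift_snd _ _ _)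

theorem exch_fst (V : T.Etale) : (exch f g V).left ≫ pullback.fst (V.hom ≫ g) f =
    pullback.fst V.hom (pullback.snd f g) := pullback.lift_fst _ _ _

theorem exch_snd (V : T.Etale) : (exch f g V).left ≫ pullback.snd (V.hom ≫ g) f =
    pullback.snd V.hom (pullback.snd f g) ≫ pullback.fst f g := pullback.lift_snd _ _ _

theorem isIso_exch (V : T.Etale) : IsIso (exch f g V) := by
  let p : pullback (V.hom ≫ g) f ⟶ pullback f g :=
    pullback.lift (pullback.snd _ _) (pullback.fst _ _ ≫ V.hom) (by
      rw [Category.assoc, pullback.condition])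
  let q : pullback (V.hom ≫ g) f ⟶ pullback V.hom (pullback.snd f g) :=
    pullback.lift (pullback.fst _ _) p (pullback.lift_snd _ _ _).symm
  have h1 : (exch f g V).left ≫ q = 𝟙 _ := by
    refine pullback.hom_ext ?_ (pullback.hom_ext ?_ ?_)
    · exact (Category.assoc _ _ _).trans ((congrArg (_ ≫ ·) (pullback.lift_fst _ _ _)).trans
        ((exch_fst f g V).trans (Category.id_comp _).symm))
    · simp only [q, p, Category.assoc, pullback.lift_snd, pullback.lift_fst, Category.id_comp]
      exact exch_snd f g V
    · simp only [q, p, Category.assoc, pullback.lift_snd, Category.id_comp]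
      exact (Category.assoc _ _ _).symm.trans ((congrArg (· ≫ _) (exch_fst f g V)).trans pullback.condition)
  have h2 : q ≫ (exch f g V).left = 𝟙 _ := by
    refine pullback.hom_ext ?_ ?_
    · exact (Category.assoc _ _ _).trans ((congrArg (_ ≫ ·) (exch_fst f g V)).trans
        ((pullback.lift_fst _ _ _).trans (Category.id_comp _).symm))
    · refine (Category.assoc _ _ _).trans ((congrArg (_ ≫ ·) (exch_snd f g V)).trans ?_)
      rw [← Category.assoc, pullback.lift_snd, Category.id_comp]
      exact pullback.lift_fst _ _ _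
  haveI : IsIso (exch f g V).left := ⟨⟨q, h1, h2⟩⟩
  haveI : IsIso ((Over.forget X).map (exch f g V)) := inferInstanceAs (IsIso (exch f g V).left)
  exact isIso_of_reflects_iso _ (Over.forget X)

theorem exch_naturality {V V' : T.Etale} (h : V' ⟶ V) :
    (Over.map (pullback.fst f g)).map
        ((EtFppf.a (pullback f g)).map ((EtCoh.bc (pullback.snd f g)).map h)) ≫ exch f g V =
      exch f g V' ≫ (Over.pullback f).map ((Over.map g).map ((EtFppf.a T).map h)) := by
  refine Over.OverMorphism.ext (pullback.hom_ext ?_ ?_)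
  · refine (Category.assoc _ _ _).trans ((congrArg (_ ≫ ·) (exch_fst f g V)).trans ?_)
    refine (EtCoh.isPullback_bc_map (pullback.snd f g) h).w.trans ?_
    refine Eq.trans ?_ (Category.assoc _ _ _).symm
    refine Eq.trans ?_ (congrArg (_ ≫ ·) (pullback.lift_fst _ _ _).symm)
    exact ((congrArg (· ≫ h.left) (exch_fst f g V')).symm.trans (Category.assoc _ _ _))
  · refine (Category.assoc _ _ _).trans ((congrArg (_ ≫ ·) (exch_snd f g V)).trans ?_)
    refine Eq.trans ?_ (Category.assoc _ _ _).symm
    refine Eq.trans ?_ (congrArg (_ ≫ ·) (pullback.lift_snd _ _ _).symm)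
    refine Eq.trans ?_ (exch_snd f g V').symm
    exact (Category.assoc _ _ _).symm.trans (congrArg (· ≫ _)
      (Over.w ((EtCoh.bc (pullback.snd f g)).map h).hom))

/-- The comparison map on the small site of `T`. -/
noncomputable def β : (BigSite.resEtAlong Scheme.etalePrecoverage g).obj (bigSh (fF f F)) ⟶
    (EtCoh.push (pullback.snd f g)).obj
      ((BigSite.resEtAlong Scheme.etalePrecoverage (pullback.fst f g)).obj (bigSh F)) :=
  ⟨{ app := fun V => (α f F).hom.app (op ((Over.map g).obj ((EtFppf.a T).obj V.unop))) ≫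
       (bigSh F).obj.map (exch f g V.unop).op
     naturality := fun V V' h => by
      refine ((Category.assoc _ _ _).symm.trans ((congrArg (· ≫ _)
        ((α f F).hom.naturality ((Over.map g).map ((EtFppf.a T).map h.unop)).op)).trans
          (Category.assoc _ _ _))).trans ?_
      refine Eq.trans ?_ (Category.assoc _ _ _).symm
      refine congrArg (_ ≫ ·) ?_
      show (bigSh F).obj.map ((Over.pullback f).map ((Over.map g).map ((EtFppf.a T).map h.unop))).op ≫
          (bigSh F).obj.map (exch f g V'.unop).op =
        (bigSh F).obj.map (exch f g V.unop).op ≫ (bigSh F).obj.map ((Over.map (pullback.fst f g)).map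
          ((EtFppf.a (pullback f g)).map ((EtCoh.bc (pullback.snd f g)).map h.unop))).op
      rw [← Functor.map_comp, ← Functor.map_comp, ← op_comp, ← op_comp, exch_naturality] }⟩

theorem τ_comp_β :
    τ g (fF f F) ≫ β f g F =
      EtCoh.baseChange0 f g (pullback.snd f g) (pullback.fst f g) pullback.condition F ≫
        (EtCoh.push (pullback.snd f g)).map (τ (pullback.fst f g) F) := by
  apply ((EtCoh.pullPushAdj g).homEquiv _ _).injective
  refine CategoryTheory.Sheaf.hom_ext (NatTrans.ext (funext fun V => AddCommGrpCat.hom_ext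
    (AddMonoidHom.ext fun s => ?_)))
  rw [Adjunction.homEquiv_unit, Adjunction.homEquiv_unit]
  show (β f g F).hom.app _ ((τ g (fF f F)).hom.app _
      (((EtCoh.pullPushAdj g).unit.app (fF f F)).hom.app V s)) =
    (τ (pullback.fst f g) F).hom.app _ ((EtCoh.baseChange0 f g (pullback.snd f g) (pullback.fst f g)
      pullback.condition F).hom.app _ (((EtCoh.pullPushAdj g).unit.app (fF f F)).hom.app V s))
  refine (congrArg ((β f g F).hom.app _) (τ_unit g (fF f F) V.unop s)).trans ?_
  refine Eq.trans ?_ (congrArg ((τ (pullback.fst f g) F).hom.app _)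
    (H18PBC.DegZero.baseChange0_unit f g (pullback.snd f g) (pullback.fst f g) pullback.condition F V.unop s)).symm
  refine Eq.trans ?_ (ConcreteCategory.congr_hom ((τ (pullback.fst f g) F).hom.naturality
    (H18PBC.DegZero.cMap f g (pullback.snd f g) (pullback.fst f g) pullback.condition V.unop).op) _).symm
  refine Eq.trans ?_ (congrArg (((BigSite.resEtAlong Scheme.etalePrecoverage (pullback.fst f g)).obj
    (bigSh F)).obj.map _) (τ_unit (pullback.fst f g) F ((EtCoh.bc f).obj V.unop) s)).symm
  refine (congrArg ((bigSh F).obj.map (exch f g ((EtCoh.bc g).obj V.unop)).op)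
    ((ConcreteCategory.congr_hom ((α f F).hom.naturality (fstHom g V.unop).op) _).trans
      (congrArg ((bigSh F).obj.map ((Over.pullback f).map (fstHom g V.unop)).op)
        (α_unit f F V.unop s)))).trans ?_
  refine (congrArg _ (Sections.map_map (bigSh F) _ _ _)).trans ?_
  refine (Sections.map_map (bigSh F) _ _ _).trans ?_
  refine Eq.trans ?_ (Sections.map_map (bigSh F) _ _ _).symm
  refine Sections.map_congr (bigSh F) (Over.OverMorphism.ext ?_) _
  have hc : ∀ {Z : Scheme.{u}} (k : pullback V.unop.hom f ⟶ Z),
      ((H13Desc.BigRes.aBC f).hom.app V.unop).left ≫ k = k := fun k => Category.id_comp k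
  refine pullback.hom_ext ?_ ?_
  · refine Eq.trans ?_ (Eq.symm ((Category.assoc _ _ _).trans
      (H18PBC.DegZero.cMap_fst_fst f g (pullback.snd f g) (pullback.fst f g) pullback.condition V.unop)))
    refine (Category.assoc _ _ _).trans ((congrArg (_ ≫ ·) ((Category.assoc _ _ _).trans
      ((congrArg (_ ≫ ·) (hc _)).trans (pullback.lift_fst _ _ _)))).trans ?_)
    exact (Category.assoc _ _ _).symm.trans (congrArg (· ≫ pullback.fst V.unop.hom g)
      (exch_fst f g ((EtCoh.bc g).obj V.unop)))
  · refine Eq.trans ?_ (Eq.symm ((Category.assoc _ _ _).trans ((congrArg (_ ≫ ·)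
      (pullback.condition (f := ((EtCoh.bc f).obj V.unop).hom) (g := pullback.fst f g))).trans
      ((Category.assoc _ _ _).symm.trans (congrArg (· ≫ pullback.fst f g)
        (Over.w (H18PBC.DegZero.cMap f g (pullback.snd f g) (pullback.fst f g) pullback.condition V.unop).hom))))))
    refine (Category.assoc _ _ _).trans ((congrArg (_ ≫ ·) ((Category.assoc _ _ _).trans
      ((congrArg (_ ≫ ·) (hc _)).trans (pullback.lift_snd _ _ _)))).trans ?_)
    exact exch_snd f g ((EtCoh.bc g).obj V.unop)

variable [IsProper f]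

theorem isIso_β : IsIso (β f g F) := by
  haveI := isIso_τ g (fF f F)
  haveI := isIso_τ (pullback.fst f g) F
  haveI : IsIso (EtCoh.baseChange0 f g (pullback.snd f g) (pullback.fst f g) pullback.condition F) :=
    H18PBC.DegZero.isIso_baseChange0 f g (pullback.snd f g) (pullback.fst f g)
      (IsPullback.of_hasPullback f g) F
  haveI : IsIso (τ g (fF f F) ≫ β f g F) := by rw [τ_comp_β]; infer_instance
  exact IsIso.of_isIso_comp_left (τ g (fF f F)) _

theorem bijective_α_app (W : Over S) : Function.Bijective ((α f F).hom.app (op W)) := by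
  haveI := isIso_β f W.hom F
  haveI : IsIso (β f W.hom F).hom := (sheafToPresheaf _ _).map_isIso (β f W.hom F)
  haveI := isIso_exch f W.hom (EtCoh.top W.left)
  let W' : Over S := (Over.map W.hom).obj ((EtFppf.a W.left).obj (EtCoh.top W.left))
  haveI : IsIso ((α f F).hom.app (op W')) := by
    haveI : IsIso ((α f F).hom.app (op W') ≫ (bigSh F).obj.map (exch f W.hom (EtCoh.top W.left)).op) :=
      inferInstanceAs (IsIso ((β f W.hom F).hom.app (op (EtCoh.top W.left))))
    exact IsIso.of_isIso_comp_right _ ((bigSh F).obj.map (exch f W.hom (EtCoh.top W.left)).op)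
  let i : W' ⟶ W := Over.homMk (𝟙 _) (by show 𝟙 _ ≫ W.hom = 𝟙 _ ≫ W.hom; rfl)
  haveI : IsIso i := by
    haveI : IsIso ((Over.forget S).map i) := inferInstanceAs (IsIso (𝟙 W.left))
    exact isIso_of_reflects_iso _ (Over.forget S)
  haveI : IsIso ((α f F).hom.app (op W) ≫ (pbF f F).obj.map i.op) := by
    rw [← (α f F).hom.naturality i.op]; infer_instance
  haveI := IsIso.of_isIso_comp_right ((α f F).hom.app (op W)) ((pbF f F).obj.map i.op)
  exact ConcreteCategory.bijective_of_isIso _

/-- **Proper direct images commute with `π⁻¹`**. -/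
theorem isIso_α_of_isProper : IsIso (α f F) := by
  haveI : IsIso (α f F).hom := by
    haveI : ∀ W, IsIso ((α f F).hom.app W) := fun W =>
      (ConcreteCategory.isIso_iff_bijective _).2 (bijective_α_app f F W.unop)
    exact NatIso.isIso_of_isIso_app _
  haveI : IsIso ((sheafToPresheaf _ _).map (α f F)) := inferInstanceAs (IsIso (α f F).hom)
  exact isIso_of_reflects_iso _ (sheafToPresheaf _ _)

/-- The comparison on the fppf sites in degree zero, for proper morphisms. -/
noncomputable def αFppfProper : QF (fF f F) ≅ (EtFppf.pushBig f).obj (QF F) :=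
  haveI := isIso_α_of_isProper f F
  haveI := isIso_η (fF f F)
  haveI := isIso_η F
  (fullyFaithfulSheafToPresheaf (EtFppf.J S) AddCommGrpCat.{u + 1}).preimageIso
    (((sheafToPresheaf _ _).mapIso (asIso (η (bigSh (fF f F))))).symm ≪≫
      (sheafToPresheaf _ _).mapIso (asIso (α f F)) ≪≫
      Functor.isoWhiskerLeft (Over.pullback f).op ((sheafToPresheaf _ _).mapIso (asIso (η (bigSh F)))))

end Groth.Agent.H15Site.FppfEt
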