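import Groth.Agent.H15Site.FppfEt.ProperPush
import Groth.Agent.H15Site.FppfEt.ProperAcyclic
import Groth.Agent.H10Coh.DerivedShift

/-!
# Higher proper direct images of torsion sheaves commute with `a⁻¹`, given proper base change on stalks
-/

set_option autoImplicit false
set_option linter.style.haveILetI false
set_option linter.unusedSectionVars false
set_option backward.isDefEq.respectTransparency false
set_option backward.isDefEq.respectTransparency.types false

universe u

open CategoryTheory CategoryTheory.Limits AlgebraicGeometry Opposite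
open scoped Groth.Agent.H18Et

namespace Groth.Agent.H15Site.FppfEt

open Groth.Agent.H15Site.IntDesc (bigSh)
open Groth.Agent.H15Site.Shriek (StalkBC isTorsion_of_epi' exists_mono_torsion_Rpush_acyclic)

theorem η_naturality {S : Scheme.{u}} {P Q : BigSite.Ab Scheme.etalePrecoverage S} (φ : P ⟶ Q) :
    φ.hom ≫ (η Q).hom = (η P).hom ≫ ((L S).map φ).hom :=
  toSheafify_naturality (EtFppf.J S) φ.hom

theorem α_naturality {X S : Scheme.{u}} (f : X ⟶ S) {F F' : EtCoh.Ab X} (φ : F ⟶ F') :
    (BigSite.piEtPull Scheme.etalePrecoverage S).map ((EtCoh.push f).map φ) ≫ α f F' =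
      α f F ≫ (BigSite.pushBig Scheme.etalePrecoverage f AddCommGrpCat.{u + 1}).map
        ((BigSite.piEtPull Scheme.etalePrecoverage X).map φ) := by
  unfold α
  rw [← Adjunction.homEquiv_naturality_left_symm, ← Adjunction.homEquiv_naturality_right_symm]
  refine congrArg _ ?_
  rw [← Category.assoc, ← Functor.map_comp]
  erw [(BigSite.piEtAdj Scheme.etalePrecoverage X).unit.naturality φ]
  rw [Functor.map_comp, Category.assoc, Category.assoc]
  exact congrArg (_ ≫ ·) ((H13Desc.BigRes.pushRes f).inv.naturality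
    ((BigSite.piEtPull Scheme.etalePrecoverage X).map φ))

variable {X S : Scheme.{u}} (f : X ⟶ S) [IsProper f]

theorem αFppfProper_spec (F : EtCoh.Ab X) :
    (η (bigSh (fF f F))).hom ≫ (αFppfProper f F).hom.hom =
      (α f F).hom ≫ Functor.whiskerLeft (Over.pullback f).op (η (bigSh F)).hom := by
  haveI := isIso_η (fF f F)
  have h : (αFppfProper f F).hom.hom = (inv (η (bigSh (fF f F)))).hom ≫ (α f F).hom ≫
      Functor.whiskerLeft (Over.pullback f).op (η (bigSh F)).hom := rfl
  rw [h, ← Category.assoc]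
  have h1 : (η (bigSh (fF f F))).hom ≫ (inv (η (bigSh (fF f F)))).hom = 𝟙 _ :=
    congrArg (fun k => k.hom) (IsIso.hom_inv_id (η (bigSh (fF f F))))
  rw [h1, Category.id_comp]

theorem αFppfProper_naturality {F F' : EtCoh.Ab X} (φ : F ⟶ F') :
    (L S).map ((BigSite.piEtPull Scheme.etalePrecoverage S).map ((EtCoh.push f).map φ)) ≫
        (αFppfProper f F').hom =
      (αFppfProper f F).hom ≫ (EtFppf.pushBig f).map
        ((L X).map ((BigSite.piEtPull Scheme.etalePrecoverage X).map φ)) := by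
  haveI := isIso_η (fF f F)
  haveI : IsIso (η (bigSh (fF f F))).hom := (sheafToPresheaf _ _).map_isIso (η (bigSh (fF f F)))
  let π := (BigSite.piEtPull Scheme.etalePrecoverage X).map φ
  refine CategoryTheory.Sheaf.hom_ext ?_
  show ((L S).map _).hom ≫ (αFppfProper f F').hom.hom =
    (αFppfProper f F).hom.hom ≫ Functor.whiskerLeft (Over.pullback f).op ((L X).map π).hom
  rw [← cancel_epi (η (bigSh (fF f F))).hom, ← Category.assoc, ← η_naturality, Category.assoc,
    αFppfProper_spec, ← Category.assoc, ← Category.assoc (η (bigSh (fF f F))).hom, αFppfProper_spec,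
    Category.assoc, Category.assoc, ← Functor.whiskerLeft_comp, ← η_naturality, Functor.whiskerLeft_comp,
    ← Category.assoc, ← Category.assoc]
  refine congrArg (· ≫ _) ?_
  exact congrArg (fun k => k.hom) (α_naturality f φ)

/-- `αFppfProper`, natural in the sheaf. -/
noncomputable def αNat : EtCoh.push f ⋙ BigSite.piEtPull Scheme.etalePrecoverage S ⋙ L S ≅
    (BigSite.piEtPull Scheme.etalePrecoverage X ⋙ L X) ⋙ EtFppf.pushBig f :=
  NatIso.ofComponents (fun F => αFppfProper f F) (fun φ => αFppfProper_naturality f φ)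

variable [EtFppf.ACont X] [EtFppf.ACont S]

/-- The comparison in degree zero, natural in the sheaf. -/
noncomputable def degZero : EtCoh.push f ⋙ EtFppf.aPull S ≅ EtFppf.aPull X ⋙ EtFppf.pushBig f :=
  Functor.isoWhiskerLeft (EtCoh.push f) (aPullIso S) ≪≫
    αNat f ≪≫
    Functor.isoWhiskerRight (aPullIso X).symm (EtFppf.pushBig f)

theorem exact_aPull (T : Scheme.{u}) [EtFppf.ACont T] :
    PreservesFiniteLimits (EtFppf.aPull T) ∧ PreservesFiniteColimits (EtFppf.aPull T) := by
  haveI : (EtFppf.aPull T).IsLeftAdjoint := ⟨_, ⟨EtFppf.aAdj T⟩⟩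
  haveI := preservesMono_aPull T
  haveI : (EtFppf.aPull T).Additive := (EtFppf.aAdj T).left_adjoint_additive
  have h1 : ∀ T' : ShortComplex (EtCoh.Ab T), T'.ShortExact → (T'.map (EtFppf.aPull T)).Exact ∧
      Mono ((EtFppf.aPull T).map T'.f) := fun T' hT => by
    haveI := hT.mono_f
    haveI := hT.epi_g
    exact ⟨hT.exact.map_of_epi_of_preservesCokernel (EtFppf.aPull T) inferInstance inferInstance,
      inferInstance⟩
  exact ⟨((EtFppf.aPull T).preservesFiniteLimits_tfae.out 0 3 rfl rfl).1 h1, inferInstance⟩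

/-- **`a⁻¹` commutes with higher proper direct images of torsion sheaves.** -/
theorem nonempty_aPull_Rpush (hbc : StalkBC.{u}) :
    ∀ (q : ℕ) (F : EtCoh.Ab X), EtCoh.IsTorsion F →
      Nonempty ((EtFppf.aPull S).obj ((EtCoh.Rpush f q).obj F) ≅
        (EtFppf.RpushBig f q).obj ((EtFppf.aPull X).obj F)) := by
  haveI := (exact_aPull S).1
  haveI := (exact_aPull S).2
  haveI := (exact_aPull X).1
  haveI := (exact_aPull X).2
  haveI : PreservesFiniteLimits (EtCoh.push f) :=
    haveI : (EtCoh.push f).IsRightAdjoint := ⟨_, ⟨EtCoh.pullPushAdj f⟩⟩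
    inferInstance
  haveI : (EtFppf.pushBig f).IsRightAdjoint := ⟨_, ⟨(Over.mapPullbackAdj f).sheafPushforwardContinuous
    (EtFppf.J X) (EtFppf.J S)⟩⟩
  haveI : PreservesFiniteLimits (EtFppf.pushBig f) := inferInstance
  haveI : (EtFppf.aPull X).Additive := (EtFppf.aAdj X).left_adjoint_additive
  let φ := degZero f
  have step : ∀ F : EtCoh.Ab X, EtCoh.IsTorsion F →
      ∃ (T : ShortComplex (EtCoh.Ab X)) (_ : T.ShortExact), T.X₁ = F ∧ EtCoh.IsTorsion T.X₃ ∧
        H16Derived.AcyclicLES.IsAcyclic (EtCoh.push f) T.X₂ ∧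
        H16Derived.AcyclicLES.IsAcyclic (EtFppf.pushBig f) ((EtFppf.aPull X).obj T.X₂) := by
    intro F hF
    obtain ⟨G, ι, hι, hG, hz⟩ := exists_mono_torsion_Rpush_acyclic f F hF
    refine ⟨ShortComplex.mk ι (cokernel.π ι) (cokernel.condition ι),
      { exact := ShortComplex.exact_of_g_is_cokernel _ (cokernelIsCokernel ι) }, rfl,
      isTorsion_of_epi' (cokernel.π ι) hG, fun i hi => hz i hi, fun i hi => ?_⟩
    obtain ⟨q, rfl⟩ : ∃ q, i = q + 1 := ⟨i - 1, by omega⟩
    exact (isZero_RpushBig_of_acyclic f G hbc hG q (hz (q + 1) hi)).of_iso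
      ((EtFppf.RpushBig f (q + 1)).mapIso ((aPullIso X).app G))
  intro q
  induction q with
  | zero =>
    intro F _
    exact ⟨(EtFppf.aPull S).mapIso ((Functor.rightDerivedZeroIsoSelf (EtCoh.push f)).app F) ≪≫
      φ.app F ≪≫ ((Functor.rightDerivedZeroIsoSelf (EtFppf.pushBig f)).app _).symm⟩
  | succ q ih =>
    intro F hF
    obtain ⟨T, hT, rfl, h3, ha, ha'⟩ := step F hF
    have hT' := hT.map_of_exact (EtFppf.aPull X)
    match q, ih with
    | 0, _ =>
      obtain ⟨e⟩ := H10Coh.nonempty_rightDerived_one (EtCoh.push f) hT ha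
      obtain ⟨e'⟩ := H10Coh.nonempty_rightDerived_one (EtFppf.pushBig f) hT' ha'
      exact ⟨(EtFppf.aPull S).mapIso e ≪≫
        (PreservesCokernel.iso (EtFppf.aPull S) ((EtCoh.push f).map T.g)) ≪≫
        cokernel.mapIso _ _ (φ.app T.X₂) (φ.app T.X₃) (φ.hom.naturality T.g) ≪≫ e'.symm⟩
    | m + 1, ih =>
      obtain ⟨e⟩ := H10Coh.nonempty_rightDerived_shift (EtCoh.push f) hT ha m
      obtain ⟨e'⟩ := H10Coh.nonempty_rightDerived_shift (EtFppf.pushBig f) hT' ha' m
      obtain ⟨r⟩ := ih T.X₃ h3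
      exact ⟨(EtFppf.aPull S).mapIso e ≪≫ r ≪≫ e'.symm⟩

end Groth.Agent.H15Site.FppfEt
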