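import Groth.Agent.H15Site.FppfEt.ProperPushR
import Groth.Agent.H15Site.RDSeq
import Groth.Agent.H02CA.RDPostcomp
import Groth.Agent.S12464

/-!
# Higher proper direct images of torsion sheaves commute with `π⁻¹`, given proper base change on stalks
-/

set_option autoImplicit false
set_option linter.style.haveILetI false
set_option linter.unusedSectionVars false
set_option backward.isDefEq.respectTransparency false
set_option backward.isDefEq.respectTransparency.types false

universe u

open CategoryTheory CategoryTheory.Limits AlgebraicGeometry Opposite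
open scoped Groth.Agent.H18Et

namespace Groth.Agent.H15Site.FppfEt

open Groth.Agent.H15Site.IntDesc (bigSh)
open Groth.Agent.H15Site.Shriek (StalkBC isTorsion_of_epi' exists_mono_torsion_Rpush_acyclic)

variable {X S T : Scheme.{u}} (f : X ⟶ S) (g : T ⟶ S)

/-- Direct image to the big site, restricted to the small site of `T`. -/
noncomputable def pushResAlong :
    BigSite.pushBig Scheme.etalePrecoverage f AddCommGrpCat.{u + 1} ⋙
        BigSite.resEtAlong Scheme.etalePrecoverage g ≅
      BigSite.resEtAlong Scheme.etalePrecoverage (pullback.fst f g) ⋙ EtCoh.push (pullback.snd f g) :=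
  (Functor.associator _ _ _).symm ≪≫
    Functor.isoWhiskerRight (S12464.bigBC Scheme.etalePrecoverage f g (pullback.fst f g) (pullback.snd f g)
      (IsPullback.of_hasPullback f g) AddCommGrpCat.{u + 1}) (BigSite.resEt Scheme.etalePrecoverage T) ≪≫
    Functor.associator _ _ _ ≪≫
    Functor.isoWhiskerLeft _ (H13Desc.BigRes.pushRes (pullback.snd f g)) ≪≫
    (Functor.associator _ _ _).symm

/-- **`R^q f_{big,*}` of `π⁻¹F` restricted to a small site is `R^q h_*` of the inverse image.** -/
theorem nonempty_res_RpushBig_piEtPull (F : EtCoh.Ab X) (q : ℕ) :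
    Nonempty ((BigSite.resEtAlong Scheme.etalePrecoverage g).obj
        ((BigSite.RpushBig Scheme.etalePrecoverage f q).obj ((BigSite.piEtPull Scheme.etalePrecoverage X).obj F)) ≅
      (EtCoh.Rpush (pullback.snd f g) q).obj ((EtCoh.pull (pullback.fst f g)).obj F)) := by
  obtain ⟨h1, h2⟩ := H13Desc.BigExact.resEtAlong_exact g
  obtain ⟨h3, h4⟩ := H13Desc.BigExact.resEtAlong_exact (pullback.fst f g)
  haveI : (EtCoh.push (pullback.snd f g)).Additive := inferInstance
  haveI : (BigSite.resEtAlong Scheme.etalePrecoverage g).Additive := Functor.additive_of_preserves_binary_products _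
  haveI : (BigSite.resEtAlong Scheme.etalePrecoverage (pullback.fst f g)).Additive :=
    Functor.additive_of_preserves_binary_products _
  let Q := (BigSite.piEtPull Scheme.etalePrecoverage X).obj F
  exact ⟨((H02CA.RDPostcomp.postcompIso (BigSite.pushBig Scheme.etalePrecoverage f AddCommGrpCat.{u + 1})
      (BigSite.resEtAlong Scheme.etalePrecoverage g) q).app Q).symm ≪≫
    ((injectiveResolution Q).isoRightDerivedObj _ q ≪≫
      (HomologicalComplex.homologyFunctor _ _ q).mapIso
        ((NatIso.mapHomologicalComplex (pushResAlong f g) (ComplexShape.up ℕ)).app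
          (injectiveResolution Q).cocomplex) ≪≫
      ((injectiveResolution Q).isoRightDerivedObj _ q).symm) ≪≫
    (RDSeq.precompIso (BigSite.resEtAlong Scheme.etalePrecoverage (pullback.fst f g))
      (EtCoh.push (pullback.snd f g))
      (fun I _ => H13Desc.BigExact.injective_resEtAlong Scheme.etalePrecoverage (pullback.fst f g) I) q).app Q ≪≫
    (EtCoh.Rpush (pullback.snd f g) q).mapIso (H13Desc.BigRes.resPiIso (pullback.fst f g) F)⟩

/-- A sheaf on the big site is zero if all its restrictions to small sites are. -/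
theorem isZero_of_res {Q : BigSite.Ab Scheme.etalePrecoverage S}
    (h : ∀ W : Over S, IsZero ((BigSite.resEtAlong Scheme.etalePrecoverage W.hom).obj Q)) : IsZero Q := by
  refine (IsZero.iff_id_eq_zero _).2 (CategoryTheory.Sheaf.hom_ext (NatTrans.ext (funext fun W =>
    AddCommGrpCat.hom_ext (AddMonoidHom.ext fun x => ?_))))
  let i := topIso W.unop
  have hz : IsZero (Q.obj.obj (op (etO W.unop (EtCoh.top W.unop.left)))) :=
    ((sheafToPresheaf _ _ ⋙ (evaluation _ AddCommGrpCat.{u + 1}).obj
      (op (EtCoh.top W.unop.left))).map_isZero (h W.unop))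
  exact @Subsingleton.elim _ (AddCommGrpCat.subsingleton_of_isZero
    (hz.of_iso (Q.obj.mapIso i.op))) _ _

variable [IsProper f]

/-- **Acyclicity on the big étale site.** -/
theorem isZero_RpushBigEt_of_acyclic (hbc : StalkBC.{u}) (G : EtCoh.Ab X) (hG : EtCoh.IsTorsion G) (q : ℕ)
    (hq : IsZero ((EtCoh.Rpush f q).obj G)) :
    IsZero ((BigSite.RpushBig Scheme.etalePrecoverage f q).obj
      ((BigSite.piEtPull Scheme.etalePrecoverage X).obj G)) := by
  refine isZero_of_res fun W => ?_
  obtain ⟨e⟩ := nonempty_res_RpushBig_piEtPull f W.hom G q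
  exact (isZero_Rpush_baseChange hbc (IsPullback.of_hasPullback f W.hom) G hG q hq).of_iso e

/-- The comparison in degree zero, natural in the sheaf. -/
noncomputable def degZeroEt : EtCoh.push f ⋙ BigSite.piEtPull Scheme.etalePrecoverage S ≅
    BigSite.piEtPull Scheme.etalePrecoverage X ⋙ BigSite.pushBig Scheme.etalePrecoverage f AddCommGrpCat.{u + 1} :=
  haveI : ∀ F, IsIso (α f F) := fun F => isIso_α_of_isProper f F
  NatIso.ofComponents (fun F => asIso (α f F)) (fun φ => α_naturality f φ)

/-- **`π⁻¹` commutes with higher proper direct images of torsion sheaves.** -/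
theorem nonempty_piEtPull_Rpush (hbc : StalkBC.{u}) :
    ∀ (q : ℕ) (F : EtCoh.Ab X), EtCoh.IsTorsion F →
      Nonempty ((BigSite.piEtPull Scheme.etalePrecoverage S).obj ((EtCoh.Rpush f q).obj F) ≅
        (BigSite.RpushBig Scheme.etalePrecoverage f q).obj
          ((BigSite.piEtPull Scheme.etalePrecoverage X).obj F)) := by
  let pS := BigSite.piEtPull Scheme.etalePrecoverage S
  let pX := BigSite.piEtPull Scheme.etalePrecoverage X
  let P := BigSite.pushBig Scheme.etalePrecoverage f AddCommGrpCat.{u + 1}
  haveI : pS.IsLeftAdjoint := ⟨_, ⟨BigSite.piEtAdj Scheme.etalePrecoverage S⟩⟩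
  haveI : pX.IsLeftAdjoint := ⟨_, ⟨BigSite.piEtAdj Scheme.etalePrecoverage X⟩⟩
  haveI : PreservesFiniteLimits pS := H13Desc.BigExact.preservesFiniteLimits_piEtPull _ S
  haveI : PreservesFiniteLimits pX := H13Desc.BigExact.preservesFiniteLimits_piEtPull _ X
  haveI : PreservesFiniteColimits pS := inferInstance
  haveI : PreservesFiniteColimits pX := inferInstance
  haveI : PreservesFiniteLimits (EtCoh.push f) :=
    haveI : (EtCoh.push f).IsRightAdjoint := ⟨_, ⟨EtCoh.pullPushAdj f⟩⟩
    inferInstance
  haveI : P.IsRightAdjoint := ⟨_, ⟨BigSite.bigAdj Scheme.etalePrecoverage f _⟩⟩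
  haveI : PreservesFiniteLimits P := inferInstance
  haveI : pX.Additive := (BigSite.piEtAdj Scheme.etalePrecoverage X).left_adjoint_additive
  let φ := degZeroEt f
  have step : ∀ F : EtCoh.Ab X, EtCoh.IsTorsion F →
      ∃ (T : ShortComplex (EtCoh.Ab X)) (_ : T.ShortExact), T.X₁ = F ∧ EtCoh.IsTorsion T.X₃ ∧
        H16Derived.AcyclicLES.IsAcyclic (EtCoh.push f) T.X₂ ∧
        H16Derived.AcyclicLES.IsAcyclic P (pX.obj T.X₂) := by
    intro F hF
    obtain ⟨G, ι, hι, hG, hz⟩ := exists_mono_torsion_Rpush_acyclic f F hF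
    exact ⟨ShortComplex.mk ι (cokernel.π ι) (cokernel.condition ι),
      { exact := ShortComplex.exact_of_g_is_cokernel _ (cokernelIsCokernel ι) }, rfl,
      isTorsion_of_epi' (cokernel.π ι) hG, fun i hi => hz i hi,
      fun i hi => isZero_RpushBigEt_of_acyclic f hbc G hG i (hz i hi)⟩
  intro q
  induction q with
  | zero =>
    intro F _
    exact ⟨pS.mapIso ((Functor.rightDerivedZeroIsoSelf (EtCoh.push f)).app F) ≪≫
      φ.app F ≪≫ ((Functor.rightDerivedZeroIsoSelf P).app _).symm⟩
  | succ q ih =>
    intro F hF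
    obtain ⟨T, hT, rfl, h3, ha, ha'⟩ := step F hF
    have hT' := hT.map_of_exact pX
    match q, ih with
    | 0, _ =>
      obtain ⟨e⟩ := H10Coh.nonempty_rightDerived_one (EtCoh.push f) hT ha
      obtain ⟨e'⟩ := H10Coh.nonempty_rightDerived_one P hT' ha'
      exact ⟨pS.mapIso e ≪≫
        (PreservesCokernel.iso pS ((EtCoh.push f).map T.g)) ≪≫
        cokernel.mapIso _ _ (φ.app T.X₂) (φ.app T.X₃) (φ.hom.naturality T.g) ≪≫ e'.symm⟩
    | m + 1, ih =>
      obtain ⟨e⟩ := H10Coh.nonempty_rightDerived_shift (EtCoh.push f) hT ha m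
      obtain ⟨e'⟩ := H10Coh.nonempty_rightDerived_shift P hT' ha' m
      obtain ⟨r⟩ := ih T.X₃ h3
      exact ⟨pS.mapIso e ≪≫ r ≪≫ e'.symm⟩

end Groth.Agent.H15Site.FppfEt
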