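import Groth.Agent.H15Site.FppfEt.RelIntegral

/-!
# Descent along morphisms with integral surjective quasi-sections étale locally on the base
-/

set_option autoImplicit false
set_option linter.style.haveILetI false
set_option linter.unusedSectionVars false
set_option backward.isDefEq.respectTransparency false
set_option backward.isDefEq.respectTransparency.types false

universe u

open CategoryTheory CategoryTheory.Limits AlgebraicGeometry Opposite Simplicial

namespace Groth.Agent.H15Site.FppfEt.Rel

open Groth.Agent.H15Site.IntDesc (powBase)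

variable {X S : Scheme.{u}} (f : X ⟶ S)

/-- Étale locally on the base, `f` has sections after integral surjective base change. -/
def HasQuasiSections : Prop :=
  ∀ s : S, ∃ (V T : Scheme.{u}) (e : V ⟶ S) (π : T ⟶ V) (h : T ⟶ X),
    Etale e ∧ s ∈ Set.range e.base ∧ IsIntegralHom π ∧ Surjective π ∧ h ≫ f = π ≫ e

variable (F : EtCoh.Ab S)

/-- The fppf resolution as sheaves for the étale topology. -/
noncomputable abbrev J (q : ℕ) : BigSite.Ab Scheme.etalePrecoverage S := (E S).obj ((Res F).cocomplex.X q)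

instance injective_J (q : ℕ) : Injective (J F q).obj := injective_presheaf ((Res F).cocomplex.X q)

variable {f}

/-- Exactness over an object with a quasi-section. -/
theorem ex_over {V T : Scheme.{u}} (e : V ⟶ S) (π : T ⟶ V) [IsIntegralHom π] [Surjective π] (h : T ⟶ X)
    (hh : h ≫ f = π ≫ e) (U : Over V) :
    Ex (fun W => LiftsTo (Over.mk f) ((Over.map e).obj W)) (fun q => (JB F (Over.mk e) q).obj)
      (dJ F (Over.mk e)) U := by
  let P := LiftsTo (X := V) (Over.mk π)
  let f' : pullback f (U.hom ≫ e) ⟶ U.left := pullback.snd f (U.hom ≫ e)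
  let top := EtCoh.top U.left
  let K := Kv (S := V) (B := U) f' top
  let ti : U ≅ etO U top := Over.isoMk (Iso.refl _) (by
    show 𝟙 _ ≫ 𝟙 _ ≫ U.hom = U.hom
    rw [Category.id_comp, Category.id_comp])
  refine ex_of_iso (P := fun W => LiftsTo (Over.mk f) ((Over.map e).obj W))
    (I := fun q => (JB F (Over.mk e) q).obj) (d := dJ F (Over.mk e)) ti ?_
  refine ex_of_le (P := P) (I := fun q => (JB F (Over.mk e) q).obj) (d := dJ F (Over.mk e))
    (dJ_dJ F (Over.mk e)) LiftsTo.down (hasContr_Kv f' top) ?_ ?_ ?_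
    (fun n => ex_integral F (Over.mk e) π _) (ex_integral F (Over.mk e) π _)
  · rintro W ⟨t⟩
    exact ⟨Over.homMk (t.left ≫ h) (by
      show (t.left ≫ h) ≫ f = W.hom ≫ e
      rw [Category.assoc, hh, ← Category.assoc]
      exact congrArg (· ≫ e) (Over.w t))⟩
  · refine ⟨Over.homMk (pullback.snd top.hom (powBase f' 1) ≫ WidePullback.π (fun _ : Fin 1 => f') 0 ≫
      pullback.fst f (U.hom ≫ e)) ?_⟩
    show (pullback.snd top.hom (powBase f' 1) ≫ WidePullback.π (fun _ : Fin 1 => f') 0 ≫
      pullback.fst f (U.hom ≫ e)) ≫ f = ((pullback.snd top.hom (powBase f' 1) ≫ powBase f' 1) ≫ U.hom) ≫ e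
    simp only [Category.assoc]
    refine congrArg (pullback.snd top.hom (powBase f' 1) ≫ ·) ?_
    refine (congrArg (WidePullback.π (fun _ : Fin 1 => f') 0 ≫ ·) (pullback.condition (f := f) (g := U.hom ≫ e))).trans ?_
    exact (Category.assoc _ _ _).symm.trans (congrArg (· ≫ U.hom ≫ e) (WidePullback.π_arrow (fun _ : Fin 1 => f') 0))
  · rintro W g ⟨t⟩
    let hl : W.left ⟶ top.left := g.left
    have hw : hl ≫ top.hom ≫ U.hom = W.hom := Over.w g
    have ht : t.left ≫ f = (hl ≫ top.hom) ≫ U.hom ≫ e := by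
      rw [show t.left ≫ f = W.hom ≫ e from Over.w t, ← hw]
      simp only [Category.assoc]
    let p : W.left ⟶ widePullback U.left (fun _ : Fin 1 => pullback f (U.hom ≫ e)) (fun _ => f') :=
      WidePullback.lift (hl ≫ top.hom) (fun _ => pullback.lift t.left (hl ≫ top.hom) ht)
        (fun _ => pullback.lift_snd _ _ _)
    have hp : hl ≫ top.hom = p ≫ powBase f' 1 := (WidePullback.lift_base _ _ _ _).symm
    refine ⟨Over.homMk (pullback.lift hl p hp) ?_, Over.OverMorphism.ext (pullback.lift_fst hl p hp)⟩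
    show pullback.lift hl p hp ≫ (pullback.snd top.hom (powBase f' 1) ≫ powBase f' 1) ≫ U.hom = W.hom
    refine ((Category.assoc _ _ _).symm.trans (congrArg (· ≫ U.hom)
      ((Category.assoc _ _ _).symm.trans ((congrArg (· ≫ powBase f' 1) (pullback.lift_snd hl p hp)).trans hp.symm)))).trans ?_
    exact (Category.assoc _ _ _).trans hw

variable (f)

/-- **Descent.** -/
theorem ex_descent (hf : HasQuasiSections f) (U : Over S) :
    Ex (LiftsTo (Over.mk f)) (fun q => (J F q).obj) (dI F) U := by
  have key : ∀ (U : Over S) (u : U.left), ∃ (V : Scheme.{u}) (e : V ⟶ S) (U'' : Over V)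
      (g : (Over.map e).obj U'' ⟶ U), Etale g.left ∧ u ∈ Set.range g.left.base ∧
        Ex (fun W => LiftsTo (Over.mk f) ((Over.map e).obj W)) (fun q => (JB F (Over.mk e) q).obj)
          (dJ F (Over.mk e)) U'' := fun U u => by
    obtain ⟨V, T, e, π, h, he, ⟨v, hv⟩, h1, h2, hh⟩ := hf (U.hom.base u)
    obtain ⟨w, hw, -⟩ := Scheme.Pullback.exists_preimage_pullback (f := U.hom) (g := e) u v hv.symm
    refine ⟨V, e, Over.mk (pullback.snd U.hom e), Over.homMk (pullback.fst U.hom e) pullback.condition, ?_,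
      ⟨w, hw⟩, ex_over F e π h hh _⟩
    exact MorphismProperty.pullback_fst (P := @Etale) U.hom e he
  have hvan : ∀ {V : Scheme.{u}} (e : V ⟶ S) (U'' : Over V) (q : ℕ)
      (y : (JB F (Over.mk e) q).obj.obj (op U'')),
      Van (fun W => LiftsTo (Over.mk f) ((Over.map e).obj W)) (JB F (Over.mk e) q).obj U'' y →
        Van (LiftsTo (Over.mk f)) (J F q).obj ((Over.map e).obj U'') y := fun {V} e U'' q y hy W g hW => by
    let i := preIso (S := S) (Over.mk e) W U'' g
    let g' : Over.mk (g.left ≫ U''.hom) ⟶ U'' := Over.homMk g.left rfl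
    have h0 := hy _ g' (LiftsTo.down i.hom hW)
    refine (Sections.map_congr (J F q) (show g = i.inv ≫ (Over.map e).map g' from
      Over.OverMorphism.ext (Category.id_comp g.left).symm) y).trans ?_
    refine (Sections.map_map (J F q) i.inv _ y).symm.trans ?_
    exact (congrArg _ h0).trans (map_zero _)
  refine ex_of_local (J F) (dI F) (fun q U x => dI_dI F q U x) LiftsTo.down (fun U x hx hx0 u => ?_)
    (fun q U x hx hx0 u => ?_) U
  · obtain ⟨V, e, U'', g, hg, hu, hex⟩ := key U u
    refine ⟨_, g, hg, hu, hex.1 _ (fun W g' hW => (hx.map g) _ ((Over.map e).map g') hW) ?_⟩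
    exact (nat_app (dI F 0) g x).trans ((congrArg _ hx0).trans (map_zero _))
  · obtain ⟨V, e, U'', g, hg, hu, hex⟩ := key U u
    obtain ⟨y, hy, hy'⟩ := hex.2 q ((I F (q + 1)).map g.op x)
      (fun W g' hW => (hx.map g) _ ((Over.map e).map g') hW)
      ((nat_app (dI F (q + 1)) g x).trans ((congrArg _ hx0).trans (map_zero _)))
    exact ⟨_, g, hg, hu, y, hvan e U'' q y hy, hy'⟩

end Groth.Agent.H15Site.FppfEt.Rel
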