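import Groth.Agent.H15Site.FppfEt.RelLocal
import Groth.Agent.H15Site.FppfEt.Apps

/-!
# Exactness relative to an integral surjective morphism

For an integral surjective `π : T ⟶ B` the sections of the fppf resolution of `π⁻¹F` which vanish on all
objects over `T` form exact complexes.
-/

set_option autoImplicit false
set_option linter.style.haveILetI false
set_option linter.unusedSectionVars false
set_option backward.isDefEq.respectTransparency false
set_option backward.isDefEq.respectTransparency.types false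

universe u

open CategoryTheory CategoryTheory.Limits AlgebraicGeometry Opposite Simplicial

namespace Groth.Agent.H15Site.FppfEt.Rel

open Groth.Agent.H15Site.IntDesc (bigSh powBase)

variable {S : Scheme.{u}}

theorem injective_presheaf_etale (G : BigSite.Ab Scheme.etalePrecoverage S) [Injective G] : Injective G.obj := by
  haveI : (presheafToSheaf (QuotSh.J Scheme.etalePrecoverage S) AddCommGrpCat.{u + 1}).PreservesMonomorphisms :=
    preservesMonomorphisms_of_preservesLimitsOfShape _
  exact Injective.injective_of_adjoint (sheafificationAdjunction (QuotSh.J Scheme.etalePrecoverage S) AddCommGrpCat.{u + 1}) G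

variable (F : EtCoh.Ab S) (B : Over S)

/-- The resolution over an object. -/
noncomputable abbrev JB (q : ℕ) : BigSite.Ab Scheme.etalePrecoverage B.left :=
  (BigSite.pullBig Scheme.etalePrecoverage B.hom AddCommGrpCat.{u + 1}).obj ((E S).obj ((Res F).cocomplex.X q))

instance injective_JB (q : ℕ) : Injective (JB F B q).obj := by
  haveI := injective_E ((Res F).cocomplex.X q)
  haveI := H13Desc.BigExact.injective_pullBig Scheme.etalePrecoverage B.hom ((E S).obj ((Res F).cocomplex.X q))
  exact injective_presheaf_etale _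

/-- Its differential. -/
noncomputable abbrev dJ (q : ℕ) : (JB F B q).obj ⟶ (JB F B (q + 1)).obj :=
  Functor.whiskerLeft (Over.map B.hom).op (dI F q)

theorem dJ_dJ (q : ℕ) (U : Over B.left) (x : (JB F B q).obj.obj (op U)) :
    (dJ F B (q + 1)).app (op U) ((dJ F B q).app (op U) x) = 0 := dI_dI F q _ x

/-- Lifting to a given scheme over the base. -/
def LiftsTo {X : Scheme.{u}} (T : Over X) (W : Over X) : Prop := Nonempty (W ⟶ T)

theorem LiftsTo.down {X : Scheme.{u}} {T : Over X} ⦃W' W : Over X⦄ (h : W' ⟶ W) (hW : LiftsTo T W) : LiftsTo T W' :=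
  ⟨h ≫ hW.some⟩

/-- Reindexing to the big site of the base. -/
noncomputable def preIso (V : Over S) (U : Over B.left) (g : V ⟶ (Over.map B.hom).obj U) :
    (Over.map B.hom).obj (Over.mk (g.left ≫ U.hom)) ≅ V :=
  Over.isoMk (Iso.refl _) (by
    show 𝟙 _ ≫ V.hom = (g.left ≫ U.hom) ≫ B.hom
    rw [Category.id_comp, Category.assoc]
    exact (Over.w g).symm)

variable {T : Scheme.{u}} (π : T ⟶ B.left) [IsIntegralHom π] [Surjective π]

section Piece

variable {q : ℕ} (U : Over B.left)

/-- The pulled back covering. -/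
noncomputable abbrev πU : pullback π U.hom ⟶ ((Over.map B.hom).obj U).left := pullback.snd π U.hom

/-- A vanishing section dies on the first level of the nerve. -/
theorem ee_eq_zero (x : (JB F B q).obj.obj (op U)) (hx : Van (LiftsTo (Over.mk π)) (JB F B q).obj U x)
    (V : ((Over.map B.hom).obj U).left.Etale) :
    ee (I F q) (Kv (πU B π U) V)
      ((I F q).map (Over.homMk (U := etO _ V) (V := (Over.map B.hom).obj U) V.hom rfl).op x) = 0 := by
  let a : (ob (Kv (πU B π U) V) 0).left ⟶ U.left := pullback.fst V.hom (powBase (πU B π U) 1) ≫ V.hom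
  let W : Over B.left := Over.mk (a ≫ U.hom)
  let g : W ⟶ U := Over.homMk a rfl
  have hP : LiftsTo (Over.mk π) W := ⟨Over.homMk (pullback.snd V.hom (powBase (πU B π U) 1) ≫
    WidePullback.π (fun _ : Fin 1 => πU B π U) 0 ≫ pullback.fst π U.hom) (by
      show (pullback.snd V.hom (powBase (πU B π U) 1) ≫ WidePullback.π (fun _ : Fin 1 => πU B π U) 0 ≫
        pullback.fst π U.hom) ≫ π = (pullback.fst V.hom (powBase (πU B π U) 1) ≫ V.hom) ≫ U.hom
      refine Eq.trans ?_ (congrArg (· ≫ U.hom) (pullback.condition (f := V.hom) (g := powBase (πU B π U) 1)).symm)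
      simp only [Category.assoc]
      refine congrArg (pullback.snd V.hom (powBase (πU B π U) 1) ≫ ·) ?_
      refine (congrArg (WidePullback.π (fun _ : Fin 1 => πU B π U) 0 ≫ ·) (pullback.condition (f := π) (g := U.hom))).trans ?_
      exact (Category.assoc _ _ _).symm.trans (congrArg (· ≫ U.hom) (WidePullback.π_arrow (fun _ : Fin 1 => πU B π U) 0)))⟩
  let i : ob (Kv (πU B π U) V) 0 ⟶ (Over.map B.hom).obj W := Over.homMk (𝟙 _) (by
    show 𝟙 _ ≫ (a ≫ U.hom) ≫ B.hom =
      (pullback.snd V.hom (powBase (πU B π U) 1) ≫ powBase (πU B π U) 1) ≫ U.hom ≫ B.hom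
    rw [Category.id_comp, ← pullback.condition]
    simp only [a, Category.assoc])
  refine (Sections.map_map ((Res F).cocomplex.X q) _ _ x).trans ?_
  refine (Sections.map_congr ((Res F).cocomplex.X q) (show augm (Kv (πU B π U) V) 0 ≫
    (Over.homMk (U := etO _ V) (V := (Over.map B.hom).obj U) V.hom rfl) = i ≫ (Over.map B.hom).map g from
    Over.OverMorphism.ext (Category.id_comp a).symm) x).trans ?_
  refine (Sections.map_map ((Res F).cocomplex.X q) i _ x).symm.trans ?_
  exact (congrArg _ (hx W g hP)).trans (map_zero _)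

/-- A section dying on the first level of the nerve vanishes over `T`. -/
theorem van_of_ee (V : ((Over.map B.hom).obj U).left.Etale) (y : (I F q).obj (op (etO _ V)))
    (hy : ee (I F q) (Kv (πU B π U) V) y = 0) :
    Van (LiftsTo (Over.mk π)) (JB F B q).obj (Over.mk (V.hom ≫ U.hom))
      ((I F q).map (Over.homMk (U := (Over.map B.hom).obj (Over.mk (V.hom ≫ U.hom))) (V := etO _ V) (𝟙 _) (by
        show 𝟙 _ ≫ V.hom ≫ U.hom ≫ B.hom = (V.hom ≫ U.hom) ≫ B.hom
        rw [Category.id_comp, Category.assoc])).op y) := by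
  rintro W h ⟨t⟩
  let hl : W.left ⟶ V.left := h.left
  have ht : t.left ≫ π = (hl ≫ V.hom) ≫ U.hom := by
    rw [show t.left ≫ π = W.hom from Over.w t, Category.assoc]
    exact (Over.w h).symm
  let p : W.left ⟶ widePullback U.left (fun _ : Fin 1 => pullback π U.hom) (fun _ => πU B π U) :=
    WidePullback.lift (hl ≫ V.hom) (fun _ => pullback.lift t.left (hl ≫ V.hom) ht) (fun _ => pullback.lift_snd _ _ _)
  have hp : hl ≫ V.hom = p ≫ powBase (πU B π U) 1 := (WidePullback.lift_base _ _ _ _).symm
  let l : (Over.map B.hom).obj W ⟶ ob (Kv (πU B π U) V) 0 := Over.homMk (pullback.lift hl p hp) (by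
    show pullback.lift hl p hp ≫ (pullback.snd V.hom (powBase (πU B π U) 1) ≫ powBase (πU B π U) 1) ≫
      U.hom ≫ B.hom = W.hom ≫ B.hom
    refine Eq.trans ?_ (congrArg (· ≫ B.hom) (show hl ≫ V.hom ≫ U.hom = W.hom from Over.w h))
    refine ((Category.assoc _ _ _).symm.trans (congrArg (· ≫ U.hom ≫ B.hom)
      ((Category.assoc _ _ _).symm.trans ((congrArg (· ≫ powBase (πU B π U) 1) (pullback.lift_snd hl p hp)).trans hp.symm)))).trans ?_
    simp only [Category.assoc])
  refine (Sections.map_map ((Res F).cocomplex.X q) _ _ y).trans ?_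
  refine (Sections.map_congr ((Res F).cocomplex.X q) (show _ = l ≫ augm (Kv (πU B π U) V) 0 from
    Over.OverMorphism.ext ((Category.comp_id hl).trans (pullback.lift_fst hl p hp).symm)) y).trans ?_
  refine (Sections.map_map ((Res F).cocomplex.X q) l _ y).symm.trans ?_
  exact (congrArg _ hy).trans (map_zero _)

end Piece

/-- **Exactness relative to an integral surjective morphism.** -/
theorem ex_integral (U : Over B.left) :
    Ex (LiftsTo (Over.mk π)) (fun q => (JB F B q).obj) (dJ F B) U := by
  refine ex_of_local (JB F B) (dJ F B) (dJ_dJ F B) LiftsTo.down (fun U x hx hx0 u => ?_)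
    (fun q U x hx hx0 u => ?_) U
  · obtain ⟨p, hp⟩ := exists_ιI_eq F ((Over.map B.hom).obj U) x hx0
    haveI : IsIntegralHom (πU B π U) := MorphismProperty.pullback_snd (P := @IsIntegralHom) _ _ inferInstance
    haveI : Surjective (πU B π U) := MorphismProperty.pullback_snd (P := @Surjective) _ _ inferInstance
    let V := EtCoh.top U.left
    let ρV : etO ((Over.map B.hom).obj U) V ⟶ (Over.map B.hom).obj U := Over.homMk V.hom rfl
    have h0 : (bigSh F).obj.map ρV.op p = 0 := by
      refine ee_injective F (πU B π U) V _ (ιI_injective F _ ?_)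
      refine ((map_ee _ (ιI F) _).trans ((congrArg (ee (I F 0) _) ((nat_app (ιI F) ρV p).trans (congrArg _ hp))).trans ?_)).trans
        (map_zero _).symm
      exact ee_eq_zero F B π U x hx V
    refine ⟨U, 𝟙 U, inferInstanceAs (Etale (𝟙 U.left)), ⟨u, rfl⟩, ?_⟩
    have h1 : (I F 0).map ρV.op x = 0 := by rw [← hp, ← nat_app, h0, map_zero]
    have h2 : (Over.map B.hom).map (𝟙 U) =
        (Over.homMk (U := (Over.map B.hom).obj U) (V := etO ((Over.map B.hom).obj U) V) (𝟙 _) (by
          show 𝟙 _ ≫ 𝟙 _ ≫ _ = _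
          exact (Category.id_comp _).trans (Category.id_comp _))) ≫ ρV :=
      Over.OverMorphism.ext (show 𝟙 _ = 𝟙 U.left ≫ 𝟙 _ from (Category.id_comp _).symm)
    refine (Sections.map_congr ((Res F).cocomplex.X 0) h2 x).trans ?_
    refine (Sections.map_map ((Res F).cocomplex.X 0) _ ρV x).symm.trans ?_
    exact (congrArg _ h1).trans (map_zero _)
  · obtain ⟨V₀, g₀, hg₀, ⟨v, hv⟩, y₀, hy₀⟩ := lv F q ((Over.map B.hom).obj U) x hx0 u
    let U₁ : Over B.left := Over.mk (g₀.left ≫ U.hom)
    let g₁ : U₁ ⟶ U := Over.homMk g₀.left rfl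
    let i := preIso B V₀ U g₀
    haveI : IsIntegralHom (πU B π U₁) := MorphismProperty.pullback_snd (P := @IsIntegralHom) _ _ inferInstance
    haveI : Surjective (πU B π U₁) := MorphismProperty.pullback_snd (P := @Surjective) _ _ inferInstance
    let top := EtCoh.top U₁.left
    let ρ₁ : etO ((Over.map B.hom).obj U₁) top ⟶ (Over.map B.hom).obj U₁ := Over.homMk top.hom rfl
    let y₂ := (I F q).map ρ₁.op ((I F q).map i.hom.op y₀)
    have hdy₂ : (dI F q).app _ y₂ = (I F (q + 1)).map ρ₁.op ((JB F B (q + 1)).obj.map g₁.op x) := by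
      refine (nat_app (dI F q) ρ₁ _).trans (congrArg _ ((nat_app (dI F q) i.hom y₀).trans ((congrArg _ hy₀).trans ?_)))
      refine (Sections.map_map ((Res F).cocomplex.X (q + 1)) _ _ x).trans ?_
      exact Sections.map_congr ((Res F).cocomplex.X (q + 1)) (show i.hom ≫ g₀ = (Over.map B.hom).map g₁ from
        Over.OverMorphism.ext (Category.id_comp g₀.left)) x
    let z := ee (I F q) (Kv (πU B π U₁) top) y₂
    have hz : (dI F q).app _ z = 0 := by
      exact (map_ee (Kv (πU B π U₁) top) (dI F q) y₂).trans ((congrArg _ hdy₂).trans (ee_eq_zero F B π U₁ _ (hx.map g₁) top))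
    suffices ∃ (V' : U₁.left.Etale) (g : V' ⟶ top) (v' : V'.left), g.left.base v' = v ∧
        ∃ r : (I F q).obj (op (etO ((Over.map B.hom).obj U₁) V')), (dI F q).app _ r = 0 ∧
          ee (I F q) (Kv (πU B π U₁) V') r = (I F q).map (ρ (πU B π U₁) 0 g).op z by
      obtain ⟨V', g, v', hv', r, hr, hr'⟩ := this
      haveI : Etale V'.hom := V'.prop
      let y' := (I F q).map (etMap ((Over.map B.hom).obj U₁) g).op y₂ - r
      have hy' : ee (I F q) (Kv (πU B π U₁) V') y' = 0 := by
        rw [map_sub, hr', sub_eq_zero]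
        exact (map_ρ_ee (πU B π U₁) (I F q) g y₂).symm
      refine ⟨Over.mk (V'.hom ≫ U₁.hom), Over.homMk (V'.hom ≫ g₀.left) (Category.assoc _ _ _), ?_, ⟨v', ?_⟩, _,
        van_of_ee F B π U₁ V' y' hy', ?_⟩
      · exact inferInstanceAs (Etale (V'.hom ≫ g₀.left))
      · show (V'.hom ≫ g₀.left).base v' = u
        rw [Scheme.Hom.comp_apply, ← MorphismProperty.Over.w g, Scheme.Hom.comp_apply]
        exact (congrArg g₀.left.base hv').trans hv
      · refine (nat_app (dI F q) _ y').trans ?_
        rw [map_sub (f := ((dI F q).app _).hom), hr, sub_zero, nat_app, hdy₂]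
        refine (Sections.map_map ((Res F).cocomplex.X (q + 1)) _ _ _).trans
          ((Sections.map_map ((Res F).cocomplex.X (q + 1)) _ _ _).trans
            ((Sections.map_map ((Res F).cocomplex.X (q + 1)) _ _ x).trans ?_))
        refine Sections.map_congr ((Res F).cocomplex.X (q + 1)) (Over.OverMorphism.ext ?_) x
        show ((𝟙 _ ≫ g.left) ≫ top.hom) ≫ g₀.left = V'.hom ≫ g₀.left
        rw [Category.id_comp, MorphismProperty.Over.w g]
    cases q with
    | zero =>
      obtain ⟨p, hp⟩ := exists_ιI_eq F _ z hz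
      have hdd : dd (bigSh F).obj (Kv (πU B π U₁) top) 0 p = 0 := by
        refine ιI_injective F _ ?_
        rw [map_zero, map_dd, hp, dd_ee_apply]
      obtain ⟨V', g, v', hv', c, hc⟩ := exists_nbhd_ee F (πU B π U₁) top v p hdd
      exact ⟨V', g, v', hv', (ιI F).app _ c, dI_ιI F _ c,
        (map_ee (Kv (πU B π U₁) V') (ιI F) c).symm.trans ((congrArg _ hc).trans ((nat_app (ιI F) _ p).trans (congrArg _ hp)))⟩
    | succ j =>
      obtain ⟨V₂, g₂, v₂, hv₂, w, hw⟩ := exists_nbhd_image (πU B π U₁)
        ((E S).map ((Res F).cocomplex.d j (j + 1))) 0 top v z fun p => by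
          obtain ⟨Z, f, hf, hp, w, hw⟩ := lv F j _ z hz p
          exact ⟨Z, f, hf, hp, w, hw⟩
      obtain ⟨V₃, g₃, v₃, hv₃, w', hw₀, hw₁⟩ := FppfEt.exists_correction F (πU B π U₁) j (fun i _ => lv F i) V₂ v₂ 0 w (by
        have hw2 : (dI F j).app _ w = (I F (j + 1)).map (ρ (πU B π U₁) 0 g₂).op z := hw
        rw [map_dd, hw2, map_ρ_ee, dd_ee_apply])
      haveI : Injective (I F j) := injective_presheaf _
      obtain ⟨r, hr⟩ := exists_ee_eq (I F j) (hasContr_Kv (πU B π U₁) V₃) w' hw₀
      refine ⟨V₃, g₃ ≫ g₂, v₃, (Scheme.Hom.comp_apply g₃.left g₂.left v₃).trans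
        ((congrArg g₂.left.base hv₃).trans hv₂), (dI F j).app _ r, dI_dI F j _ r, ?_⟩
      have hw2 : (dI F j).app _ w = (I F (j + 1)).map (ρ (πU B π U₁) 0 g₂).op z := hw
      refine (map_ee (Kv (πU B π U₁) V₃) (dI F j) r).symm.trans ((congrArg _ hr).trans (hw₁.trans ((nat_app (dI F j) _ w).trans ((congrArg _ hw2).trans ?_))))
      rw [ρ_comp, op_comp, Functor.map_comp]
      rfl

end Groth.Agent.H15Site.FppfEt.Rel
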