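import Groth.Agent.H15Site.FppfEt.Relative
import Groth.Agent.H15Site.FppfEt.Nerve

/-!
# Local-to-global for complexes relative to a sieve on the big étale site
-/

set_option autoImplicit false
set_option linter.style.haveILetI false
set_option linter.unusedSectionVars false
set_option backward.isDefEq.respectTransparency false
set_option backward.isDefEq.respectTransparency.types false

universe u

open CategoryTheory CategoryTheory.Limits AlgebraicGeometry Opposite

namespace Groth.Agent.H15Site.FppfEt.Rel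

variable {B : Scheme.{u}}

section Transport

variable {P : Over B → Prop} {I : ℕ → (Over B)ᵒᵖ ⥤ AddCommGrpCat.{u + 1}} {d : ∀ q, I q ⟶ I (q + 1)}

theorem nat_apply {Q Q' : (Over B)ᵒᵖ ⥤ AddCommGrpCat.{u + 1}} (φ : Q ⟶ Q') {W W' : Over B} (h : W' ⟶ W)
    (x : Q.obj (op W)) : φ.app (op W') (Q.map h.op x) = Q'.map h.op (φ.app (op W) x) :=
  ConcreteCategory.congr_hom (φ.naturality h.op) x

theorem map_hom_inv (Q : (Over B)ᵒᵖ ⥤ AddCommGrpCat.{u + 1}) {U U' : Over B} (e : U ≅ U') (x : Q.obj (op U)) :
    Q.map e.hom.op (Q.map e.inv.op x) = x := by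
  rw [← ConcreteCategory.comp_apply, ← Functor.map_comp, ← op_comp, e.hom_inv_id, op_id,
    CategoryTheory.Functor.map_id]
  rfl

theorem ex0_of_iso {U U' : Over B} (e : U ≅ U') (h : Ex0 P I d U') : Ex0 P I d U := fun x hx hx0 => by
  have := h _ (hx.map e.inv) (by rw [nat_apply, hx0, map_zero])
  rw [← map_hom_inv (I 0) e x, this, map_zero]

theorem exS_of_iso {U U' : Over B} (e : U ≅ U') {q : ℕ} (h : ExS P I d q U') : ExS P I d q U :=
  fun x hx hx0 => by
    obtain ⟨y, hy, hy'⟩ := h _ (hx.map e.inv) (by rw [nat_apply, hx0, map_zero])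
    exact ⟨_, hy.map e.hom, by rw [nat_apply, hy', map_hom_inv]⟩

theorem ex_of_iso {U U' : Over B} (e : U ≅ U') (h : Ex P I d U') : Ex P I d U :=
  ⟨ex0_of_iso e h.1, fun q => exS_of_iso e (h.2 q)⟩

end Transport

variable (J : ℕ → BigSite.Ab Scheme.etalePrecoverage B) [∀ q, Injective (J q).obj]
  (d : ∀ q, (J q).obj ⟶ (J (q + 1)).obj)
  (hd : ∀ q (U : Over B) (x : (J q).obj.obj (op U)), (d (q + 1)).app (op U) ((d q).app (op U) x) = 0)
  {P : Over B → Prop} (hP : ∀ ⦃W' W : Over B⦄, (W' ⟶ W) → P W → P W')

include hd hP in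
/-- **Exactness is local for the étale topology.** -/
theorem ex_of_local
    (h0 : ∀ (U : Over B) x, Van P (J 0).obj U x → (d 0).app (op U) x = 0 → ∀ u : U.left,
      ∃ (Z : Over B) (g : Z ⟶ U), Etale g.left ∧ u ∈ Set.range g.left.base ∧ (J 0).obj.map g.op x = 0)
    (hS : ∀ (q : ℕ) (U : Over B) x, Van P (J (q + 1)).obj U x → (d (q + 1)).app (op U) x = 0 → ∀ u : U.left,
      ∃ (Z : Over B) (g : Z ⟶ U), Etale g.left ∧ u ∈ Set.range g.left.base ∧
        ∃ y, Van P (J q).obj Z y ∧ (d q).app (op Z) y = (J (q + 1)).obj.map g.op x)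
    (U : Over B) : Ex P (fun q => (J q).obj) d U := by
  have h0' : ∀ U, Ex0 P (fun q => (J q).obj) d U := fun U x hx hx0 => by
    choose Z g hg hu hz using h0 U x hx hx0
    refine Sections.eq_of_family (J 0) Z g (ofArrows_mem_etale Z g hg fun u => ⟨u, hu u⟩) fun u => ?_
    rw [hz u, map_zero]
  suffices ∀ (q : ℕ) (U : Over B), ExS P (fun q => (J q).obj) d q U from ⟨h0' U, fun q => this q U⟩
  intro q
  induction q using Nat.strong_induction_on with
  | _ q ih =>
    intro U x hx hx0
    choose Z g hg hu y hy hy' using hS q U x hx hx0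
    let V : Over B := Over.mk (Limits.Sigma.desc fun u => (Z u).hom)
    let e : V.left ⟶ U.left := Limits.Sigma.desc fun u => (g u).left
    have he : ∀ u, Limits.Sigma.ι (fun u => (Z u).left) u ≫ e = (g u).left := fun u =>
      Sigma.ι_desc (fun u => (g u).left) u
    let gV : V ⟶ U := Over.homMk e (Limits.Sigma.hom_ext _ _ fun u => by
      rw [← Category.assoc, he]
      exact (Over.w (g u)).trans (Sigma.ι_desc (fun u => (Z u).hom) u).symm)
    haveI : IsZariskiLocalAtSource (EtCoh.etaleMP.{u}) := inferInstance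
    haveI : Etale e := IsZariskiLocalAtSource.sigmaDesc (P := EtCoh.etaleMP.{u}) hg
    let O : U.left → V.left.Opens := fun u => (Limits.Sigma.ι (fun u => (Z u).left) u).opensRange
    let OO : U.left → Over B := fun u => Over.mk ((O u).ι ≫ V.hom)
    let oi : ∀ u, OO u ⟶ V := fun u => Over.homMk (O u).ι rfl
    let k : ∀ u, OO u ⟶ Z u := fun u => Over.homMk
      (IsOpenImmersion.lift (Limits.Sigma.ι (fun u => (Z u).left) u) (O u).ι (by
        rintro _ ⟨p, rfl⟩
        exact p.2)) (by
        show _ = (O u).ι ≫ V.hom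
        rw [← show Limits.Sigma.ι (fun u => (Z u).left) u ≫ V.hom = (Z u).hom from
          Sigma.ι_desc (fun u => (Z u).hom) u, ← Category.assoc, IsOpenImmersion.lift_fac])
    have hk : ∀ u, k u ≫ g u = oi u ≫ gV := fun u => Over.OverMorphism.ext (by
      show IsOpenImmersion.lift _ (O u).ι _ ≫ (g u).left = (O u).ι ≫ e
      rw [← he u, ← Category.assoc, IsOpenImmersion.lift_fac])
    have hcov : ⨆ u, O u = ⊤ := top_le_iff.1 fun p _ => by
      obtain ⟨i, m, hm⟩ := (sigmaOpenCover fun u => (Z u).left).exists_eq p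
      exact TopologicalSpace.Opens.mem_iSup.2 ⟨i, ⟨m, hm⟩⟩
    obtain ⟨Y, hY⟩ := exists_glue_opens (J q) (U := V) O
      (fun i j hij => disjoint_opensRange_sigmaι (fun u => (Z u).left) i j hij) hcov
      (fun u => (J q).obj.map (k u).op (y u))
    have hocov : ∀ p : V.left, ∃ u, p ∈ Set.range (oi u).left.base := fun p => by
      obtain ⟨i, hi⟩ := TopologicalSpace.Opens.mem_iSup.1 (show p ∈ ⨆ u, O u from hcov ▸ trivial)
      exact ⟨i, ⟨p, hi⟩, rfl⟩
    have hYv : Van P (J q).obj V Y := fun W h hW => by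
      let WW : U.left → Over B := fun u => Over.mk ((h.left ⁻¹ᵁ O u).ι ≫ W.hom)
      let wi : ∀ u, WW u ⟶ W := fun u => Over.homMk (h.left ⁻¹ᵁ O u).ι rfl
      refine Sections.eq_of_family (J q) WW wi (ofArrows_mem_etale _ _
        (fun u => inferInstanceAs (Etale (h.left ⁻¹ᵁ O u).ι)) fun p => ?_) fun u => ?_
      · obtain ⟨i, hi⟩ := TopologicalSpace.Opens.mem_iSup.1 (show h.left.base p ∈ ⨆ u, O u from hcov ▸ trivial)
        exact ⟨i, ⟨p, hi⟩, rfl⟩
      · let l : WW u ⟶ OO u := Over.homMk (h.left.resLE (O u) _ le_rfl) (by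
          show h.left.resLE (O u) _ le_rfl ≫ (O u).ι ≫ V.hom = (h.left ⁻¹ᵁ O u).ι ≫ W.hom
          rw [← Category.assoc, Scheme.Hom.resLE_comp_ι, Category.assoc, Over.w h])
        have e1 : wi u ≫ h = l ≫ oi u := Over.OverMorphism.ext (Scheme.Hom.resLE_comp_ι _ _).symm
        refine (Sections.map_map (J q) (wi u) h Y).trans (((Sections.map_congr (J q) e1 Y).trans
          ((Sections.map_map (J q) l (oi u) Y).symm.trans (congrArg _ (hY u)))).trans ?_)
        exact ((((hy u).map (k u)).map l).eq_zero (hP (wi u) hW)).trans (map_zero _).symm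
    have hYd : (d q).app (op V) Y = (J (q + 1)).obj.map gV.op x := by
      refine Sections.eq_of_family (J (q + 1)) OO oi
        (ofArrows_mem_etale _ _ (fun u => inferInstanceAs (Etale (O u).ι)) hocov) fun u => ?_
      refine (nat_apply (d q) (oi u) Y).symm.trans ((congrArg _ (hY u)).trans ((nat_apply (d q) (k u) (y u)).trans ?_))
      refine (congrArg _ (hy' u)).trans ((Sections.map_map (J (q + 1)) _ _ x).trans ?_)
      exact (Sections.map_congr (J (q + 1)) (hk u) x).trans (Sections.map_map (J (q + 1)) _ _ x).symm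
    let K := Kv (S := B) (B := U) e (EtCoh.top U.left)
    haveI hs : Surjective e := ⟨fun p => by
      obtain ⟨m, hm⟩ := hu p
      exact ⟨(Limits.Sigma.ι (fun u => (Z u).left) p).base m, (Scheme.Hom.comp_apply _ _ _).symm.trans
        ((congrArg (fun k : (Z p).left ⟶ U.left => k.base m) (he p)).trans hm)⟩⟩
    obtain ⟨e1, he1⟩ := (⟨{ hom := WidePullback.π (fun _ : Fin 1 => e) 0
                            inv := WidePullback.lift e (fun _ => 𝟙 V.left) (fun _ => Category.id_comp _)
                            hom_inv_id := WidePullback.hom_ext _ _ _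
                              (fun j => by
                                rw [Category.assoc, WidePullback.lift_π, Category.id_comp, Category.comp_id,
                                  Subsingleton.elim j 0])
                              (by rw [Category.assoc, WidePullback.lift_base, Category.id_comp,
                                WidePullback.π_arrow])
                            inv_hom_id := WidePullback.lift_π _ _ _ _ _ },
      (WidePullback.π_arrow (fun _ : Fin 1 => e) 0).symm⟩ : ∃ i : widePullback U.left (fun _ : Fin 1 => V.left)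
        (fun _ => e) ≅ V.left, IntDesc.powBase e 1 = i.hom ≫ e)
    haveI : IsIso e1.hom := e1.isIso_hom
    haveI : Etale (IntDesc.powBase e 1) := he1.symm ▸ inferInstanceAs (Etale (e1.hom ≫ e))
    haveI : Surjective (IntDesc.powBase e 1) := he1.symm ▸ inferInstanceAs (Surjective (e1.hom ≫ e))
    let top := EtCoh.top U.left
    haveI hs1 : Surjective (pullback.fst top.hom (IntDesc.powBase e 1)) :=
      MorphismProperty.pullback_fst (P := @Surjective) _ _ inferInstance
    haveI he2 : Etale (pullback.fst top.hom (IntDesc.powBase e 1)) :=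
      MorphismProperty.pullback_fst (P := @Etale) _ _ inferInstance
    have hcovK : Sieve.ofArrows (fun _ : PUnit.{u + 1} => ob K 0) (fun _ => augm K 0) ∈
        QuotSh.J Scheme.etalePrecoverage B (etO U top) :=
      ofArrows_mem_etale _ _ (fun _ => he2) fun p => ⟨PUnit.unit, hs1.surj p⟩
    let ti : U ≅ etO U top := Over.isoMk (Iso.refl _) (by
      show 𝟙 _ ≫ 𝟙 _ ≫ U.hom = U.hom
      rw [Category.id_comp, Category.id_comp])
    let pr : ob K 0 ⟶ V := Over.homMk
      (pullback.snd top.hom (IntDesc.powBase e 1) ≫ WidePullback.π (fun _ : Fin 1 => e) 0) (by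
        show (_ ≫ WidePullback.π (fun _ : Fin 1 => e) 0) ≫ V.hom =
          (pullback.snd top.hom (IntDesc.powBase e 1) ≫ IntDesc.powBase e 1) ≫ U.hom
        rw [← Over.w gV, Category.assoc, Category.assoc]
        exact congrArg (pullback.snd top.hom (IntDesc.powBase e 1) ≫ ·)
          ((Category.assoc _ _ _).symm.trans (congrArg (· ≫ U.hom) (WidePullback.π_arrow (fun _ : Fin 1 => e) 0))))
    have hpr : pr ≫ gV = augm K 0 ≫ ti.inv := Over.OverMorphism.ext (by
      show (_ ≫ WidePullback.π (fun _ : Fin 1 => e) 0) ≫ e = pullback.fst top.hom (IntDesc.powBase e 1) ≫ 𝟙 _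
      rw [Category.assoc, WidePullback.π_arrow, Category.comp_id]
      exact pullback.condition.symm.trans (Category.comp_id _))
    obtain ⟨y', hy1, hy2⟩ := exists_preimage_of_local (I := fun q => (J q).obj) (d := d) hd hP
      (hasContr_Kv e top) q (fun n => h0' _) (fun i hi n => ih i hi _)
      (fun z hz => Sections.eq_of_family (J (q + 1)) _ _ hcovK fun _ => hz.trans (map_zero _).symm)
      ((J (q + 1)).obj.map ti.inv.op x)
      ⟨_, hYv.map pr, (nat_apply (d q) pr Y).trans ((congrArg _ hYd).trans
        ((Sections.map_map (J (q + 1)) _ _ x).trans ((Sections.map_congr (J (q + 1)) hpr x).trans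
          (Sections.map_map (J (q + 1)) _ _ x).symm)))⟩
    exact ⟨_, hy1.map ti.hom, (nat_apply (d q) ti.hom y').trans ((congrArg _ hy2).trans (map_hom_inv _ ti x))⟩

end Groth.Agent.H15Site.FppfEt.Rel
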