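import Groth.Agent.H15Site.FppfEt.RelDescent
import Groth.Agent.H15Site.FppfEt.DescSS
import Mathlib.Algebra.Homology.HomologySequence

/-!
# The descent spectral sequence from relative exactness
-/

set_option autoImplicit false
set_option linter.style.haveILetI false
set_option linter.unusedSectionVars false
set_option backward.isDefEq.respectTransparency false
set_option backward.isDefEq.respectTransparency.types false

universe u

open CategoryTheory CategoryTheory.Limits AlgebraicGeometry Opposite Simplicial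

namespace Groth.Agent.H15Site.FppfEt.Rel

open Groth.Agent.H15Site.IntDesc (cech powBase)

variable {X S : Scheme.{u}} (f : X ⟶ S) (F : EtCoh.Ab S)

/-- The complexes of sections on the nerve, with the kernel in front. -/
noncomputable abbrev augR : CochainComplex (CochainComplex AddCommGrpCat.{u + 1} ℕ) ℕ :=
  CochainComplex.augment (coK f F) (kernel.ι ((coK f F).d 0 1)) (kernel.condition _)

/-- Degreewise kernels. -/
theorem exists_kernel_ι_eq {A A' : CochainComplex AddCommGrpCat.{u + 1} ℕ} (φ : A ⟶ A') (q : ℕ)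
    (x : A.X q) (hx : φ.f q x = 0) : ∃ k, (kernel.ι φ).f q k = x := by
  have h : (ShortComplex.mk _ _ (kernel.condition φ)).Exact :=
    ShortComplex.exact_of_f_is_kernel _ (kernelIsKernel φ)
  exact (ShortComplex.ab_exact_iff _).1 (h.map (HomologicalComplex.eval _ _ q)) x hx

theorem kernel_ι_injective {A A' : CochainComplex AddCommGrpCat.{u + 1} ℕ} (φ : A ⟶ A') (q : ℕ) :
    Function.Injective ((kernel.ι φ).f q) :=
  (AddCommGrpCat.mono_iff_injective _).1 (inferInstanceAs (Mono
    ((HomologicalComplex.eval AddCommGrpCat.{u + 1} (ComplexShape.up ℕ) q).map (kernel.ι φ))))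

theorem exactAt_augR (m : ℕ) : (augR f F).ExactAt m := by
  match m with
  | 0 =>
    rw [HomologicalComplex.exactAt_iff' _ 0 0 1 (by simp) (by simp)]
    haveI : Mono ((augR f F).sc' 0 0 1).g := inferInstanceAs (Mono (kernel.ι ((coK f F).d 0 1)))
    exact ((augR f F).sc' 0 0 1).exact_iff_mono ((augR f F).shape 0 0 (by simp)) |>.2 inferInstance
  | 1 =>
    rw [HomologicalComplex.exactAt_iff' _ 0 1 2 (by simp) (by simp)]
    exact ShortComplex.exact_of_f_is_kernel ((augR f F).sc' 0 1 2) (kernelIsKernel ((coK f F).d 0 1))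
  | m + 2 =>
    rw [HomologicalComplex.exactAt_iff' _ (m + 1) (m + 2) (m + 3) (by simp) (by simp)]
    refine HomologicalComplex.exact_of_degreewise_exact _ fun q => ?_
    rw [ShortComplex.ab_exact_iff]
    intro x hx
    haveI : Injective (FppfEt.I F q) := injective_presheaf _
    obtain ⟨c, hc⟩ := exists_dd_eq (FppfEt.I F q) (hasContr_cech f) m x ((coK_d_f f F (m + 1) q x).symm.trans hx)
    exact ⟨c, (coK_d_f f F m q c).trans hc⟩

/-- From sections on the base to the kernel. -/
noncomputable def toKer : (Kfun F).obj (op (cech f).right) ⟶ kernel ((coK f F).d 0 1) :=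
  kernel.lift _ ((Kfun F).map (augm (cech f) 0).op) (aug_d f F)

theorem toKer_surjective (q : ℕ) : Function.Surjective ((toKer f F).f q) := fun k => by
  haveI : Injective (FppfEt.I F q) := injective_presheaf _
  obtain ⟨r, hr⟩ := exists_ee_eq (FppfEt.I F q) (hasContr_cech f) ((kernel.ι ((coK f F).d 0 1)).f q k)
    ((coK_d_f f F 0 q _).symm.trans (ConcreteCategory.congr_hom
      (congr_arg (fun φ => φ.f q) (kernel.condition ((coK f F).d 0 1))) k))
  exact ⟨r, kernel_ι_injective _ q ((ConcreteCategory.congr_hom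
    (congr_arg (fun φ => φ.f q) (kernel.lift_ι _ ((Kfun F).map (augm (cech f) 0).op) (aug_d f F))) r).trans hr)⟩

theorem van_of_toKer {q : ℕ} (a : (kernel (toKer f F)).X q) :
    Van (LiftsTo (Over.mk f)) (J F q).obj (cech f).right ((kernel.ι (toKer f F)).f q a) := by
  rintro W g ⟨t⟩
  obtain ⟨e, he⟩ := powBase_one f
  let t' : W ⟶ ob (cech f) 0 := Over.homMk (t.left ≫ e.inv) (by
    show (t.left ≫ e.inv) ≫ powBase f 1 = W.hom
    rw [he, Category.assoc, Iso.inv_hom_id_assoc]
    exact Over.w t)
  have hg : g = t' ≫ augm (cech f) 0 := Over.OverMorphism.ext (by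
    have h1 : g.left = W.hom := (Category.comp_id g.left).symm.trans (Over.w g)
    exact h1.trans (Over.w t').symm)
  refine (Sections.map_congr (J F q) hg _).trans ((Sections.map_map (J F q) t' _ _).symm.trans ?_)
  refine (congrArg _ ?_).trans (map_zero _)
  have e1 := ConcreteCategory.congr_hom
    (congr_arg (fun φ => φ.f q) (kernel.lift_ι _ ((Kfun F).map (augm (cech f) 0).op) (aug_d f F)))
    ((kernel.ι (toKer f F)).f q a)
  refine e1.symm.trans ?_
  refine (congrArg ((kernel.ι ((coK f F).d 0 1)).f q) ?_).trans (map_zero _)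
  exact ConcreteCategory.congr_hom (congr_arg (fun φ => φ.f q) (kernel.condition (toKer f F))) a

theorem exists_kernel_of_van {q : ℕ} (x : (FppfEt.I F q).obj (op (cech f).right))
    (hx : Van (LiftsTo (Over.mk f)) (J F q).obj (cech f).right x) :
    ∃ a, (kernel.ι (toKer f F)).f q a = x := by
  refine exists_kernel_ι_eq (toKer f F) q x (kernel_ι_injective _ q ?_)
  refine (ConcreteCategory.congr_hom
    (congr_arg (fun φ => φ.f q) (kernel.lift_ι _ ((Kfun F).map (augm (cech f) 0).op) (aug_d f F))) x).trans ?_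
  obtain ⟨e, he⟩ := powBase_one f
  exact (hx (ob (cech f) 0) (augm (cech f) 0) ⟨Over.homMk e.hom he.symm⟩).trans (map_zero _).symm

variable (hf : Ex (LiftsTo (Over.mk f)) (fun q => (J F q).obj) (dI F) (cech f).right)

include hf in
theorem exactAt_kernel_toKer (n : ℕ) : (kernel (toKer f F)).ExactAt n := by
  match n with
  | 0 =>
    rw [HomologicalComplex.exactAt_iff' _ 0 0 1 (by simp) (by simp), ShortComplex.ab_exact_iff]
    intro a ha
    refine ⟨0, (map_zero _).trans ?_⟩
    refine (kernel_ι_injective _ 0 ((hf.1 _ (van_of_toKer f F a) ?_).trans (map_zero _).symm)).symm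
    exact ((ConcreteCategory.congr_hom ((kernel.ι (toKer f F)).comm 0 1) a)).trans
      ((congrArg _ ha).trans (map_zero ((kernel.ι (toKer f F)).f 1).hom))
  | q + 1 =>
    rw [HomologicalComplex.exactAt_iff' _ q (q + 1) (q + 2) (by simp) (by simp), ShortComplex.ab_exact_iff]
    intro a ha
    obtain ⟨y, hy, hy'⟩ := hf.2 q _ (van_of_toKer f F a)
      (((ConcreteCategory.congr_hom ((kernel.ι (toKer f F)).comm (q + 1) (q + 2)) a)).trans
        ((congrArg _ ha).trans (map_zero ((kernel.ι (toKer f F)).f (q + 2)).hom)))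
    obtain ⟨b, rfl⟩ := exists_kernel_of_van f F y hy
    exact ⟨b, kernel_ι_injective _ (q + 1)
      ((ConcreteCategory.congr_hom ((kernel.ι (toKer f F)).comm q (q + 1)) b).symm.trans hy')⟩

include hf in
theorem isIso_homologyMap_toKer (n : ℕ) : IsIso (HomologicalComplex.homologyMap (toKer f F) n) := by
  let T := ShortComplex.mk _ _ (kernel.condition (toKer f F))
  haveI : ∀ q, Epi ((toKer f F).f q) := fun q =>
    (AddCommGrpCat.epi_iff_surjective _).2 (toKer_surjective f F q)
  haveI : Epi (toKer f F) := HomologicalComplex.epi_of_epi_f _ inferInstance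
  have hT : T.ShortExact := { exact := ShortComplex.exact_of_f_is_kernel _ (kernelIsKernel _) }
  have hz : ∀ i, IsZero (T.X₁.homology i) := fun i =>
    (HomologicalComplex.exactAt_iff_isZero_homology _ _).1 (exactAt_kernel_toKer f F hf i)
  haveI : Mono (HomologicalComplex.homologyMap (toKer f F) n) :=
    (hT.homology_exact₂ n).mono_g ((hz n).eq_of_src _ _)
  haveI : Epi (HomologicalComplex.homologyMap (toKer f F) n) :=
    (hT.homology_exact₃ n (n + 1) rfl).epi_f ((hz (n + 1)).eq_of_tgt _ _)
  exact isIso_of_mono_of_epi _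

/-- From degree `-1`. -/
noncomputable abbrev augRZ : CochainComplex (CochainComplex AddCommGrpCat.{u + 1} ℕ) ℤ :=
  (augR f F).extend (ComplexShape.embeddingUpIntGE (-1))

theorem exactAt_augRZ (p : ℤ) : (augRZ f F).ExactAt p := by
  by_cases hp : ∃ m : ℕ, (ComplexShape.embeddingUpIntGE (-1)).f m = p
  · obtain ⟨m, rfl⟩ := hp
    rw [HomologicalComplex.extend_exactAt_iff (augR f F) _ rfl]
    exact exactAt_augR f F m
  · exact HomologicalComplex.extend_exactAt _ _ p fun j hj => hp ⟨j, hj⟩

/-- The double complex. -/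
noncomputable abbrev dblR : DoubleSS.Dbl.{u + 1} :=
  ((ComplexShape.embeddingUpNat.extendFunctor AddCommGrpCat.{u + 1}).mapHomologicalComplex
    (ComplexShape.up ℤ)).obj (augRZ f F)

theorem isZero_dblR (p q : ℤ) (hq : q < 0) : IsZero (((dblR f F).X p).X q) :=
  HomologicalComplex.isZero_extend_X _ ComplexShape.embeddingUpNat q fun n hn => by
    simp at hn; omega

theorem dblR_row_exact (p q : ℤ) (x : ((dblR f F).X p).X q)
    (hx : (((dblR f F).d p (p + 1)).f q).hom x = 0) :
    ∃ y : ((dblR f F).X (p - 1)).X q, (((dblR f F).d (p - 1) p).f q).hom y = x := by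
  rcases Int.lt_or_le q 0 with hq | hq
  · have := AddCommGrpCat.subsingleton_of_isZero (isZero_dblR f F p q hq)
    exact ⟨0, @Subsingleton.elim _ this _ _⟩
  · obtain ⟨n, rfl⟩ := Int.eq_ofNat_of_zero_le hq
    let G := HomologicalComplex.eval AddCommGrpCat.{u + 1} (ComplexShape.up ℕ) n
    let G' := ComplexShape.embeddingUpNat.extendFunctor AddCommGrpCat.{u + 1} ⋙
      HomologicalComplex.eval AddCommGrpCat.{u + 1} (ComplexShape.up ℤ) (n : ℤ)
    let τ : G' ≅ G := NatIso.ofComponents
      (fun K => K.extendXIso ComplexShape.embeddingUpNat (show ComplexShape.embeddingUpNat.f n = (n : ℤ) from rfl))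
      (fun {K L} φ => by
        show (HomologicalComplex.extendMap φ _).f (n : ℤ) ≫ _ = _
        rw [HomologicalComplex.extendMap_f _ _ (show ComplexShape.embeddingUpNat.f n = (n : ℤ) from rfl)]
        simp only [Category.assoc, Iso.inv_hom_id, Category.comp_id]
        rfl)
    have h : ((augRZ f F).sc' (p - 1) p (p + 1)).Exact :=
      ((augRZ f F).exactAt_iff' _ _ _ (by simp) (by simp)).1 (exactAt_augRZ f F p)
    haveI : G'.PreservesZeroMorphisms := Functor.preservesZeroMorphisms_comp _ _
    have h' : (((augRZ f F).sc' (p - 1) p (p + 1)).map G').Exact :=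
      (ShortComplex.exact_iff_of_iso (ShortComplex.mapNatIso _ τ)).2 (h.map G)
    exact (ShortComplex.ab_exact_iff _).1 h' x hx

include hf in
/-- **The descent spectral sequence**. -/
theorem descent_spectralSequence
    (E₁ : ℤ → ℤ → AddCommGrpCat.{u + 1}) (H : ℤ → AddCommGrpCat.{u + 1})
    (he : ∀ (p q : ℕ), Nonempty (AddCommGrpCat.of (EtCoh.H (ob (cech f) p).left
      ((EtCoh.pull (ob (cech f) p).hom).obj F) q) ≅ E₁ p q))
    (hz : ∀ p q : ℤ, ¬ (0 ≤ p ∧ 0 ≤ q) → IsZero (E₁ p q))
    (hH : ∀ n : ℕ, Nonempty (AddCommGrpCat.of (EtCoh.H S F n) ≅ H n))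
    (hHz : ∀ n : ℤ, n < 0 → IsZero (H n)) :
    ∃ (E : CohomologicalSpectralSequence AddCommGrpCat.{u + 1} 1) (a : SpSeq.Abutment E H),
      (∀ n, a.IsFinite n) ∧ SpSeq.IsBounded E ∧
      ∀ p q : ℤ, Nonempty ((E.page 1 le_rfl).X (p, q) ≅ E₁ p q) := by
  have col : ∀ (p : ℤ) (m q : ℕ), (ComplexShape.embeddingUpIntGE (-1)).f m = p →
      Nonempty (((dblR f F).X p).homology (q : ℤ) ≅ ((augR f F).X m).homology q) := fun p m q h =>
    ⟨HomologicalComplex.extendHomologyIso ((augRZ f F).X p) ComplexShape.embeddingUpNat (j := q) rfl ≪≫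
      (HomologicalComplex.homologyFunctor _ _ q).mapIso
        ((augR f F).extendXIso (ComplexShape.embeddingUpIntGE (-1)) h)⟩
  refine DoubleSS.exists_spectralSequence (dblR f F) (fun p hp => ?_) (isZero_dblR f F)
    (dblR_row_exact f F) E₁ H (fun p q h1 h2 => ?_) hz (fun n => ?_)
  · exact (ComplexShape.embeddingUpNat.extendFunctor AddCommGrpCat.{u + 1}).map_isZero
      ((augR f F).isZero_extend_X (ComplexShape.embeddingUpIntGE (-1)) p
        fun i (hi : -1 + (i : ℤ) = p) => by omega)
  · obtain ⟨p, rfl⟩ := Int.eq_ofNat_of_zero_le h1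
    obtain ⟨q, rfl⟩ := Int.eq_ofNat_of_zero_le h2
    exact ⟨(col p (p + 1) q (show -1 + ((p + 1 : ℕ) : ℤ) = (p : ℤ) by omega)).some ≪≫
      (nonempty_homology_iso F (ob (cech f) p) q).some ≪≫ (he p q).some⟩
  · rcases Int.lt_or_le n 0 with hn | hn
    · refine ⟨IsZero.iso ?_ (hHz n hn)⟩
      exact HomologicalComplex.ExactAt.isZero_homology
        (ShortComplex.exact_of_isZero_X₂ _ (isZero_dblR f F _ n hn))
    · obtain ⟨n, rfl⟩ := Int.eq_ofNat_of_zero_le hn
      haveI := isIso_homologyMap_toKer f F hf n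
      exact ⟨(col (-1) 0 n rfl).some ≪≫ (asIso (HomologicalComplex.homologyMap (toKer f F) n)).symm ≪≫
        (nonempty_homology_iso F (cech f).right n).some ≪≫
        (EtCoh.HF S n).mapIso ((IntDesc.pullIdIso S).app F) ≪≫ (hH n).some⟩

end Groth.Agent.H15Site.FppfEt.Rel
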