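import Groth.Agent.H15Site.FppfEt.Simplicial

/-!
# Complexes of presheaves relative to a sieve on the final object

For a downward closed class `P` of objects, the sections of an injective presheaf vanishing on all objects in
`P` over the given one form an injective presheaf.  For a complex of injective presheaves this gives a
calculus of "descent along `P`": exactness of the vanishing sections.
-/

set_option autoImplicit false
set_option linter.style.haveILetI false
set_option linter.unusedSectionVars false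
set_option backward.isDefEq.respectTransparency false

universe w v

open CategoryTheory CategoryTheory.Limits Opposite Simplicial

namespace Groth.Agent.H15Site.FppfEt.Rel

variable {C : Type w} [Category.{v} C]

section One

variable (P : C → Prop) (Q : Cᵒᵖ ⥤ AddCommGrpCat.{max w v})

/-- Vanishing on all objects in `P` over the given one. -/
def Van (U : C) (x : Q.obj (op U)) : Prop := ∀ (W : C) (g : W ⟶ U), P W → Q.map g.op x = 0

/-- The subgroup of sections vanishing on `P`. -/
def vanSub (U : C) : AddSubgroup (Q.obj (op U)) where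
  carrier := {x | Van P Q U x}
  zero_mem' := fun _ _ _ => map_zero _
  add_mem' := fun {a b} ha hb W g hW => by rw [map_add, ha W g hW, hb W g hW, add_zero]
  neg_mem' := fun {a} ha W g hW => by rw [map_neg, ha W g hW, neg_zero]

variable {P Q}

theorem Van.zero (U : C) : Van P Q U 0 := (vanSub P Q U).zero_mem

theorem Van.sub {U : C} {x y : Q.obj (op U)} (hx : Van P Q U x) (hy : Van P Q U y) : Van P Q U (x - y) :=
  (vanSub P Q U).sub_mem hx hy

theorem Van.map {U U' : C} (h : U' ⟶ U) {x : Q.obj (op U)} (hx : Van P Q U x) :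
    Van P Q U' (Q.map h.op x) := fun W g hW => by
  refine Eq.trans ?_ (hx W (g ≫ h) hW)
  rw [op_comp, Functor.map_comp]
  rfl

theorem Van.eq_zero {U : C} {x : Q.obj (op U)} (hx : Van P Q U x) (hU : P U) : x = 0 :=
  (ConcreteCategory.congr_hom (Q.map_id (op U)) x).symm.trans (hx U (𝟙 U) hU)

theorem Van.app {Q' : Cᵒᵖ ⥤ AddCommGrpCat.{max w v}} (φ : Q ⟶ Q') {U : C} {x : Q.obj (op U)}
    (hx : Van P Q U x) : Van P Q' U (φ.app (op U) x) := fun W g hW => by
  rw [← ConcreteCategory.comp_apply, ← φ.naturality, ConcreteCategory.comp_apply, hx W g hW, map_zero]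

theorem Van.ee (K : SimplicialObject.Augmented C) {x : Q.obj (op K.right)} (hx : Van P Q K.right x) :
    Van P Q (ob K 0) (ee Q K x) := hx.map _

theorem Van.dd (K : SimplicialObject.Augmented C) {n : ℕ} {x : Q.obj (op (ob K n))}
    (hx : Van P Q (ob K n) x) : Van P Q (ob K (n + 1)) (dd Q K n x) := by
  rw [dd_apply]
  exact (vanSub P Q _).sum_mem fun i _ => (vanSub P Q _).zsmul_mem (hx.map _) _

theorem Van.mono {P' : C → Prop} (h : ∀ W, P W → P' W) {U : C} {x : Q.obj (op U)} (hx : Van P' Q U x) :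
    Van P Q U x := fun W g hW => hx W g (h W hW)

variable (P Q)

/-- The presheaf of sections vanishing on `P`. -/
def N : Cᵒᵖ ⥤ AddCommGrpCat.{max w v} where
  obj U := AddCommGrpCat.of (vanSub P Q U.unop)
  map {U U'} h := AddCommGrpCat.ofHom (AddMonoidHom.mk'
    (fun x => (⟨Q.map h x.1, Van.map h.unop x.2⟩ : vanSub P Q U'.unop))
    (fun _ _ => Subtype.ext (map_add _ _ _)))
  map_id U := by ext x; exact ConcreteCategory.congr_hom (Q.map_id U) x.1
  map_comp g h := by ext x; exact ConcreteCategory.congr_hom (Q.map_comp g h) x.1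

/-- The inclusion. -/
def inc : N P Q ⟶ Q where
  app U := AddCommGrpCat.ofHom (vanSub P Q U.unop).subtype
  naturality _ _ _ := rfl

section Quot

variable (hP : ∀ ⦃W' W : C⦄, (W' ⟶ W) → P W → P W') (A : Cᵒᵖ ⥤ AddCommGrpCat.{max w v})

/-- Everything over `P`, zero elsewhere. -/
def kill (W : C) : AddSubgroup (A.obj (op W)) where
  carrier := {a | a = 0 ∨ P W}
  zero_mem' := Or.inl rfl
  add_mem' := fun ha hb => ha.elim (fun ha => hb.elim (fun hb => Or.inl (by rw [ha, hb, add_zero])) Or.inr) Or.inr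
  neg_mem' := fun ha => ha.imp (fun ha => by rw [ha, neg_zero]) id

/-- The quotient killing the values on `P`. -/
def Qf : Cᵒᵖ ⥤ AddCommGrpCat.{max w v} where
  obj W := AddCommGrpCat.of (A.obj W ⧸ kill P A W.unop)
  map {W W'} h := AddCommGrpCat.ofHom (QuotientAddGroup.map _ _ (A.map h).hom fun a ha =>
    ha.imp (fun ha => by rw [ha]; exact map_zero _) (hP h.unop))
  map_id W := by
    refine AddCommGrpCat.hom_ext (QuotientAddGroup.addMonoidHom_ext _ (AddMonoidHom.ext fun a => ?_))
    exact congrArg QuotientAddGroup.mk (ConcreteCategory.congr_hom (A.map_id W) a)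
  map_comp g h := by
    refine AddCommGrpCat.hom_ext (QuotientAddGroup.addMonoidHom_ext _ (AddMonoidHom.ext fun a => ?_))
    exact congrArg QuotientAddGroup.mk (ConcreteCategory.congr_hom (A.map_comp g h) a)

/-- The projection. -/
def proj : A ⟶ Qf P hP A where
  app W := AddCommGrpCat.ofHom (QuotientAddGroup.mk' (kill P A W.unop))
  naturality _ _ _ := rfl

/-- Functoriality. -/
def Qmap {B : Cᵒᵖ ⥤ AddCommGrpCat.{max w v}} (φ : A ⟶ B) : Qf P hP A ⟶ Qf P hP B where
  app W := AddCommGrpCat.ofHom (QuotientAddGroup.map _ _ (φ.app W).hom fun a ha =>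
    ha.imp (fun ha => by rw [ha]; exact map_zero _) id)
  naturality W W' h := by
    refine AddCommGrpCat.hom_ext (QuotientAddGroup.addMonoidHom_ext _ (AddMonoidHom.ext fun a => ?_))
    exact congrArg QuotientAddGroup.mk (ConcreteCategory.congr_hom (φ.naturality h) a)

/-- Maps killing the values on `P` factor. -/
def lift {B : Cᵒᵖ ⥤ AddCommGrpCat.{max w v}} (φ : A ⟶ B)
    (hφ : ∀ (W : C), P W → ∀ a, φ.app (op W) a = 0) : Qf P hP A ⟶ B where
  app W := AddCommGrpCat.ofHom (QuotientAddGroup.lift _ (φ.app W).hom fun a ha =>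
    ha.elim (fun ha => by rw [AddMonoidHom.mem_ker, ha, map_zero]) (fun h => hφ W.unop h a))
  naturality W W' h := by
    refine AddCommGrpCat.hom_ext (QuotientAddGroup.addMonoidHom_ext _ (AddMonoidHom.ext fun a => ?_))
    exact ConcreteCategory.congr_hom (φ.naturality h) a

end Quot

/-- **Vanishing sections of an injective presheaf form an injective presheaf.** -/
theorem injective_N (hP : ∀ ⦃W' W : C⦄, (W' ⟶ W) → P W → P W') [Injective Q] : Injective (N P Q) := by
  refine ⟨fun {X Y} b a _ => ?_⟩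
  have hb : ∀ (W : C), P W → ∀ x, (b ≫ inc P Q).app (op W) x = 0 := fun W hW x =>
    Van.eq_zero ((b.app (op W) x).2) hW
  haveI : Mono (Qmap P hP X a) := by
    haveI : ∀ W, Mono ((Qmap P hP X a).app W) := fun W => by
      rw [AddCommGrpCat.mono_iff_injective, injective_iff_map_eq_zero]
      intro q
      induction q using QuotientAddGroup.induction_on with
      | _ x =>
        intro hq
        refine (QuotientAddGroup.eq_zero_iff x).2 (((QuotientAddGroup.eq_zero_iff _).1 hq).imp (fun h => ?_) id)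
        haveI : Mono (a.app W) := inferInstance
        exact (AddCommGrpCat.mono_iff_injective (a.app W)).1 inferInstance (h.trans (map_zero _).symm)
    exact NatTrans.mono_of_mono_app _
  let c := Injective.factorThru (lift P hP X (b ≫ inc P Q) hb) (Qmap P hP X a)
  have hc : ∀ (W : Cᵒᵖ) (y : Y.obj W), Van P Q W.unop ((proj P hP Y ≫ c).app W y) := fun W y V g hV => by
    rw [← ConcreteCategory.comp_apply, ← (proj P hP Y ≫ c).naturality g.op, ConcreteCategory.comp_apply]
    show c.app _ ((proj P hP Y).app _ _) = 0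
    rw [show (proj P hP Y).app (op V) (Y.map g.op y) = 0 from (QuotientAddGroup.eq_zero_iff _).2 (Or.inr hV),
      map_zero]
  refine ⟨{ app := fun W => AddCommGrpCat.ofHom (((proj P hP Y ≫ c).app W).hom.codRestrict
              (vanSub P Q W.unop) (hc W))
            naturality := fun W W' h => by
              ext y
              exact Subtype.ext (ConcreteCategory.congr_hom ((proj P hP Y ≫ c).naturality h) y) }, ?_⟩
  ext W x
  refine Subtype.ext ?_
  exact ConcreteCategory.congr_hom (congr_app (Injective.comp_factorThru (lift P hP X (b ≫ inc P Q) hb)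
    (Qmap P hP X a)) W) (QuotientAddGroup.mk x)

variable {P Q}

/-- Contractible nerves: cocycles of vanishing sections descend. -/
theorem exists_ee_eq_van (hP : ∀ ⦃W' W : C⦄, (W' ⟶ W) → P W → P W') [Injective Q]
    {K : SimplicialObject.Augmented C} (hK : HasContr K) {x : Q.obj (op (ob K 0))}
    (hx : Van P Q (ob K 0) x) (h : FppfEt.dd Q K 0 x = 0) :
    ∃ r, Van P Q K.right r ∧ FppfEt.ee Q K r = x := by
  haveI := injective_N P Q hP
  obtain ⟨c, hc⟩ := exists_ee_eq (N P Q) hK (⟨x, hx⟩ : vanSub P Q (ob K 0))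
    (Subtype.ext ((map_dd K (inc P Q) 0 _).trans h))
  exact ⟨c.1, c.2, (map_ee K (inc P Q) c).symm.trans (congrArg (fun y => (inc P Q).app _ y) hc)⟩

/-- Contractible nerves: cocycles of vanishing sections are coboundaries. -/
theorem exists_dd_eq_van (hP : ∀ ⦃W' W : C⦄, (W' ⟶ W) → P W → P W') [Injective Q]
    {K : SimplicialObject.Augmented C} (hK : HasContr K) (n : ℕ) {x : Q.obj (op (ob K (n + 1)))}
    (hx : Van P Q (ob K (n + 1)) x) (h : FppfEt.dd Q K (n + 1) x = 0) :
    ∃ r, Van P Q (ob K n) r ∧ FppfEt.dd Q K n r = x := by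
  haveI := injective_N P Q hP
  obtain ⟨c, hc⟩ := exists_dd_eq (N P Q) hK n (⟨x, hx⟩ : vanSub P Q (ob K (n + 1)))
    (Subtype.ext ((map_dd K (inc P Q) (n + 1) _).trans h))
  exact ⟨c.1, c.2, (map_dd K (inc P Q) n c).symm.trans (congrArg (fun y => (inc P Q).app _ y) hc)⟩

end One

section Complex

variable (P : C → Prop) (I : ℕ → Cᵒᵖ ⥤ AddCommGrpCat.{max w v}) (d : ∀ q, I q ⟶ I (q + 1))

/-- Exactness of vanishing sections in degree `0`. -/
def Ex0 (U : C) : Prop := ∀ x, Van P (I 0) U x → (d 0).app (op U) x = 0 → x = 0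

/-- Exactness of vanishing sections in degree `q + 1`. -/
def ExS (q : ℕ) (U : C) : Prop :=
  ∀ x, Van P (I (q + 1)) U x → (d (q + 1)).app (op U) x = 0 →
    ∃ y, Van P (I q) U y ∧ (d q).app (op U) y = x

/-- Exactness of vanishing sections. -/
def Ex (U : C) : Prop := Ex0 P I d U ∧ ∀ q, ExS P I d q U

variable {P I d}
variable (hd : ∀ q (U : C) (x : (I q).obj (op U)), (d (q + 1)).app (op U) ((d q).app (op U) x) = 0)
  (hP : ∀ ⦃W' W : C⦄, (W' ⟶ W) → P W → P W') [∀ q, Injective (I q)]
  {K : SimplicialObject.Augmented C} (hK : HasContr K)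

include hd hP hK in
/-- **Correction**. -/
theorem exists_correction : ∀ (j : ℕ), (∀ n, Ex0 P I d (ob K n)) → (∀ i < j, ∀ n, ExS P I d i (ob K n)) →
    ∀ (n : ℕ) (z : (I j).obj (op (ob K n))), Van P (I j) _ z → (d j).app _ (FppfEt.dd (I j) K n z) = 0 →
      ∃ z', Van P (I j) _ z' ∧ FppfEt.dd (I j) K n z' = 0 ∧ (d j).app _ z' = (d j).app _ z := by
  intro j
  induction j with
  | zero => exact fun h0 _ n z hz h => ⟨z, hz, h0 (n + 1) _ (hz.dd K) h, rfl⟩
  | succ j ih =>
    intro h0 hS n z hz h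
    obtain ⟨w, hw, hw'⟩ := hS j (Nat.lt_succ_self j) (n + 1) _ (hz.dd K) h
    obtain ⟨w', hwv, hw0, hw1⟩ := ih h0 (fun i hi => hS i (hi.trans (Nat.lt_succ_self j))) (n + 1) w hw
      (by rw [map_dd, hw', dd_dd_apply])
    obtain ⟨r, hr, hr'⟩ := exists_dd_eq_van hP hK n hwv hw0
    refine ⟨z - (d j).app _ r, hz.sub (hr.app _), ?_, ?_⟩
    · rw [map_sub, ← map_dd K (d j) n r, hr', hw1, hw', sub_self]
    · rw [map_sub, hd, sub_zero]

include hd hP hK in
/-- A section on the first level whose differential descends does so up to cocycles. -/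
theorem exists_descend (j : ℕ) (h0 : ∀ n, Ex0 P I d (ob K n)) (hS : ∀ i < j, ∀ n, ExS P I d i (ob K n))
    (z : (I j).obj (op (ob K 0))) (hz : Van P (I j) _ z) (h : (d j).app _ (FppfEt.dd (I j) K 0 z) = 0) :
    ∃ r, Van P (I j) K.right r ∧ (d j).app _ (FppfEt.ee (I j) K r) = (d j).app _ z := by
  obtain ⟨z', hz', h1, h2⟩ := exists_correction hd hP hK j h0 hS 0 z hz h
  obtain ⟨r, hr, hr'⟩ := exists_ee_eq_van hP hK hz' h1
  exact ⟨r, hr, by rw [hr', h2]⟩

include hd hP hK in
/-- **Locality**. -/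
theorem exists_preimage_of_local (q : ℕ) (h0 : ∀ n, Ex0 P I d (ob K n))
    (hS : ∀ i < q, ∀ n, ExS P I d i (ob K n))
    (hee : ∀ x : (I (q + 1)).obj (op K.right), FppfEt.ee (I (q + 1)) K x = 0 → x = 0)
    (x : (I (q + 1)).obj (op K.right))
    (hloc : ∃ z, Van P (I q) (ob K 0) z ∧ (d q).app _ z = FppfEt.ee (I (q + 1)) K x) :
    ∃ y, Van P (I q) K.right y ∧ (d q).app _ y = x := by
  obtain ⟨z, hz, hz'⟩ := hloc
  obtain ⟨r, hr, hr'⟩ := exists_descend hd hP hK q h0 hS z hz (by rw [map_dd, hz', dd_ee_apply])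
  refine ⟨r, hr, sub_eq_zero.1 (hee _ ?_)⟩
  rw [map_sub, ← map_ee K (d q) r, hr', hz', sub_self]

include hd hP hK in
/-- Locality, in all degrees. -/
theorem ex_of_cover (hex : ∀ n, Ex P I d (ob K n))
    (hee : ∀ q (x : (I q).obj (op K.right)), FppfEt.ee (I q) K x = 0 → x = 0) : Ex P I d K.right :=
  ⟨fun x hx h => hee 0 x ((hex 0).1 _ (hx.ee K) (by rw [map_ee, h, map_zero])),
    fun q x hx h => exists_preimage_of_local hd hP hK q (fun n => (hex n).1) (fun i _ n => (hex n).2 i)
      (hee _) x ((hex 0).2 q _ (hx.ee K) (by rw [map_ee, h, map_zero]))⟩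

include hd hP hK in
/-- **Passage to a larger sieve**. -/
theorem ex_of_le {P' : C → Prop} (hle : ∀ W, P W → P' W)
(h₀ : P' (ob K 0))
    (hlift : ∀ (W : C) (g : W ⟶ K.right), P' W → ∃ t : W ⟶ ob K 0, t ≫ augm K 0 = g)
    (hex : ∀ n, Ex P I d (ob K n)) (hexR : Ex P I d K.right) : Ex P' I d K.right := by
  refine ⟨fun x hx h => hexR.1 x (hx.mono hle) h, fun q x hx h => ?_⟩
  obtain ⟨y, hy, hy'⟩ := hexR.2 q x (hx.mono hle) h
  have hee : (d q).app _ (FppfEt.ee (I q) K y) = 0 := by
    rw [map_ee, hy']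
    exact (hx.ee K).eq_zero h₀
  have key : ∀ y₁, Van P (I q) K.right y₁ → FppfEt.ee (I q) K y₁ = 0 → Van P' (I q) K.right y₁ :=
    fun y₁ _ h₁ W g hW => by
      obtain ⟨t, rfl⟩ := hlift W g hW
      rw [op_comp, Functor.map_comp, ConcreteCategory.comp_apply]
      exact (congrArg _ h₁).trans (map_zero _)
  cases q with
  | zero => exact ⟨y, key y hy ((hex 0).1 _ (hy.ee K) hee), hy'⟩
  | succ q =>
    obtain ⟨w, hw, hw'⟩ := (hex 0).2 q _ (hy.ee K) hee
    obtain ⟨r, hr, hr'⟩ := exists_descend hd hP hK q (fun n => (hex n).1) (fun i _ n => (hex n).2 i) w hw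
      (by rw [map_dd, hw', dd_ee_apply])
    refine ⟨y - (d q).app _ r, key _ (hy.sub (hr.app _)) ?_, ?_⟩
    · rw [map_sub, ← map_ee K (d q) r, hr', hw', sub_self]
    · rw [map_sub, hd, sub_zero, hy']

end Complex

end Groth.Agent.H15Site.FppfEt.Rel
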