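import Groth.Agent.H15Site.FppfEt.Compare
import Mathlib.CategoryTheory.Abelian.Injective.Resolution
import Mathlib.CategoryTheory.Preadditive.Injective.Resolution
import Mathlib.CategoryTheory.Adjunction.Limits

/-!
# An injective fppf resolution of `π⁻¹F` is étale locally exact
-/

set_option autoImplicit false
set_option linter.style.haveILetI false
set_option linter.unusedSectionVars false
set_option backward.isDefEq.respectTransparency false
set_option backward.isDefEq.respectTransparency.types false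

universe u

open CategoryTheory CategoryTheory.Limits AlgebraicGeometry Opposite Simplicial

namespace Groth.Agent.H15Site.FppfEt

open Groth.Agent.H15Site.IntDesc (bigSh)

variable {S : Scheme.{u}}

/-- `L ⊣ ε_*`. -/
noncomputable def adjLE (S : Scheme.{u}) : L S ⊣ E S :=
  Adjunction.mkOfHomEquiv
    { homEquiv := fun P G =>
        ((sheafificationAdjunction (EtFppf.J S) AddCommGrpCat.{u + 1}).homEquiv P.obj G).trans
          { toFun := fun k => ⟨k⟩
            invFun := fun k => k.hom }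
      homEquiv_naturality_left_symm := fun f g =>
        (sheafificationAdjunction (EtFppf.J S) AddCommGrpCat.{u + 1}).homEquiv_naturality_left_symm f.hom g.hom
      homEquiv_naturality_right := fun f g => CategoryTheory.Sheaf.hom_ext
        ((sheafificationAdjunction (EtFppf.J S) AddCommGrpCat.{u + 1}).homEquiv_naturality_right f g) }

theorem preservesMono_L (S : Scheme.{u}) : (L S).PreservesMonomorphisms := by
  haveI : PreservesFiniteLimits (L S) := comp_preservesFiniteLimits _ _
  exact preservesMonomorphisms_of_preservesLimitsOfShape _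

theorem injective_E (I : EtFppf.AbF S) [Injective I] : Injective ((E S).obj I) := by
  haveI := preservesMono_L S
  exact Injective.injective_of_adjoint (adjLE S) I

theorem injective_presheaf (I : EtFppf.AbF S) [Injective I] : Injective I.obj := by
  haveI : (presheafToSheaf (EtFppf.J S) AddCommGrpCat.{u + 1}).PreservesMonomorphisms :=
    preservesMonomorphisms_of_preservesLimitsOfShape _
  exact Injective.injective_of_adjoint (sheafificationAdjunction (EtFppf.J S) AddCommGrpCat.{u + 1}) I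

variable (F : EtCoh.Ab S)

/-- `π⁻¹F` as an fppf sheaf. -/
noncomputable abbrev QF : EtFppf.AbF S := (L S).obj (bigSh F)

/-- Its resolution. -/
noncomputable def Res : InjectiveResolution (QF F) := injectiveResolution (QF F)

/-- The terms of the resolution. -/
noncomputable abbrev I (j : ℕ) : (Over S)ᵒᵖ ⥤ AddCommGrpCat.{u + 1} := ((Res F).cocomplex.X j).obj

/-- The differential of the resolution. -/
noncomputable abbrev dI (j : ℕ) : I F j ⟶ I F (j + 1) := ((Res F).cocomplex.d j (j + 1)).hom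

/-- The augmentation of the resolution. -/
noncomputable abbrev ιI : (bigSh F).obj ⟶ I F 0 := (η (bigSh F)).hom ≫ ((Res F).ι.f 0).hom

theorem dI_dI (j : ℕ) (W : Over S) (x : (I F j).obj (op W)) :
    (dI F (j + 1)).app (op W) ((dI F j).app (op W) x) = 0 :=
  ConcreteCategory.congr_hom (congr_app (congrArg (fun k => k.hom)
    ((Res F).cocomplex.d_comp_d j (j + 1) (j + 1 + 1))) (op W)) x

theorem ιI_injective (W : Over S) : Function.Injective ((ιI F).app (op W)) :=
  (Sections.injective_app ((Res F).ι.f 0) W).comp (bijective_η_app F W).1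

theorem dI_ιI (W : Over S) (x : (bigSh F).obj.obj (op W)) : (dI F 0).app (op W) ((ιI F).app (op W) x) = 0 :=
  ConcreteCategory.congr_hom (congr_app (congrArg (fun k => k.hom) (Res F).ι_f_zero_comp_complex_d) (op W))
    ((η (bigSh F)).hom.app (op W) x)

theorem exists_ιI_eq (W : Over S) (z : (I F 0).obj (op W)) (hz : (dI F 0).app (op W) z = 0) :
    ∃ p, (ιI F).app (op W) p = z := by
  obtain ⟨q, hq⟩ := Sections.exists_app_eq (T := ShortComplex.mk _ _ (Res F).ι_f_zero_comp_complex_d)
    (ShortComplex.exact_of_f_is_kernel _ (Res F).isLimitKernelFork) W z hz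
  obtain ⟨p, hp⟩ := (bijective_η_app F W).2 q
  exact ⟨p, (congrArg (((Res F).ι.f 0).hom.app (op W)) hp).trans hq⟩

theorem nat_app {Q Q' : (Over S)ᵒᵖ ⥤ AddCommGrpCat.{u + 1}} (φ : Q ⟶ Q') {W W' : Over S} (h : W' ⟶ W)
    (x : Q.obj (op W)) : φ.app (op W') (Q.map h.op x) = Q'.map h.op (φ.app (op W) x) :=
  ConcreteCategory.congr_hom (φ.naturality h.op) x

/-- Étale local exactness in degree `q + 1`. -/
def LV (q : ℕ) : Prop :=
  ∀ (U : Over S) (x : (I F (q + 1)).obj (op U)), (dI F (q + 1)).app (op U) x = 0 → ∀ u : U.left,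
    ∃ (V : Over S) (g : V ⟶ U), Etale g.left ∧ u ∈ Set.range g.left.base ∧
      ∃ y, (dI F q).app (op V) y = (I F (q + 1)).map g.op x

theorem exists_correction {B : Over S} {T : Scheme.{u}} (π : T ⟶ B.left) [IsIntegralHom π] [Surjective π] :
    ∀ (j : ℕ), (∀ i < j, LV F i) → ∀ (V : B.left.Etale) (v : V.left) (n : ℕ)
      (z : (I F j).obj (op (ob (Kv π V) n))),
      (dI F j).app _ (dd (I F j) (Kv π V) n z) = 0 →
      ∃ (V' : B.left.Etale) (g : V' ⟶ V) (v' : V'.left), g.left.base v' = v ∧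
        ∃ z' : (I F j).obj (op (ob (Kv π V') n)), dd (I F j) (Kv π V') n z' = 0 ∧
          (dI F j).app _ z' = (dI F j).app _ ((I F j).map (ρ π n g).op z) := by
  intro j
  induction j with
  | zero =>
    intro _ V v n z hz
    obtain ⟨p, hp⟩ := exists_ιI_eq F _ _ hz
    have hp' : dd (bigSh F).obj (Kv π V) (n + 1) p = 0 := by
      refine ιI_injective F _ ?_
      rw [map_zero, map_dd, hp, dd_dd_apply]
    obtain ⟨V', g, v', hv, c, hc⟩ := exists_nbhd_dd F π n V v p hp'
    refine ⟨V', g, v', hv, (I F 0).map (ρ π n g).op z - (ιI F).app _ c, ?_, ?_⟩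
    · rw [map_sub, ← map_ρ_dd, ← map_dd (Kv π V') (ιI F) n c, hc, nat_app, hp, sub_self]
    · rw [map_sub, dI_ιI, sub_zero]
  | succ j ih =>
    intro hLV V v n z hz
    obtain ⟨V₁, g₁, v₁, hv₁, w, hw⟩ := exists_nbhd_image π
      ((E S).map ((Res F).cocomplex.d j (j + 1))) (n + 1) V v (dd (I F (j + 1)) (Kv π V) n z) fun x => by
        obtain ⟨Z, f, hf, hx, y, hy⟩ := hLV j (Nat.lt_succ_self j) _ _ hz x
        exact ⟨Z, f, hf, hx, y, hy⟩
    have hw' : (dI F j).app _ w = dd (I F (j + 1)) (Kv π V₁) n ((I F (j + 1)).map (ρ π n g₁).op z) :=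
      hw.trans (map_ρ_dd π (I F (j + 1)) n g₁ z)
    obtain ⟨V₂, g₂, v₂, hv₂, w', hw₀, hw₁⟩ := ih (fun i hi => hLV i (hi.trans (Nat.lt_succ_self j)))
      V₁ v₁ (n + 1) w (by rw [map_dd, hw', dd_dd_apply])
    haveI : Injective (I F j) := injective_presheaf _
    obtain ⟨r, hr⟩ := exists_dd_eq (I F j) (hasContr_Kv π V₂) n w' hw₀
    refine ⟨V₂, g₂ ≫ g₁, v₂, (Scheme.Hom.comp_apply g₂.left g₁.left v₂).trans
      ((congrArg g₁.left.base hv₂).trans hv₁),
      (I F (j + 1)).map (ρ π n (g₂ ≫ g₁)).op z - (dI F j).app _ r, ?_, ?_⟩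
    · rw [map_sub, ← map_dd (Kv π V₂) (dI F j) n r, hr, hw₁, nat_app, hw', map_ρ_dd, sub_eq_zero]
      refine congrArg (dd (I F (j + 1)) (Kv π V₂) n) ?_
      rw [ρ_comp, op_comp, Functor.map_comp]
      rfl
    · rw [map_sub, dI_dI, sub_zero]

theorem lv (q : ℕ) : LV F q := by
  induction q using Nat.strong_induction_on with
  | _ q ih =>
    intro U x hx u
    obtain ⟨R, hR, hpre⟩ := Sections.exists_local_preimage
      (T := ShortComplex.mk _ _ ((Res F).cocomplex.d_comp_d q (q + 1) (q + 1 + 1))) ((Res F).exact_succ q) U x hx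
    obtain ⟨V, g, T, π, hg, ⟨v, hv⟩, h1, h2, h3, h4, hT⟩ := exists_finite_flat_nbhd hR u
    let V₁ : V.left.Etale := EtCoh.top V.left
    obtain ⟨V₂, g₂, v₂, hv₂, y, hy⟩ := exists_nbhd_image π
      ((E S).map ((Res F).cocomplex.d q (q + 1))) 0 V₁ v
      (ee (I F (q + 1)) (Kv π V₁) ((I F (q + 1)).map (toU g V₁).op x)) fun p => by
        obtain ⟨Z, f, hf, hp, hZ⟩ := exists_piece g π hT V₁ p
        obtain ⟨y, hy⟩ := hpre _ hZ
        refine ⟨Z, f, hf, hp, y, hy.trans ?_⟩
        refine Eq.trans ?_ (Sections.map_map ((Res F).cocomplex.X (q + 1)) _ _ _).symm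
        refine Eq.trans ?_ (Sections.map_map ((Res F).cocomplex.X (q + 1)) _ _ x).symm
        rw [Category.assoc]
    have hy' : (dI F q).app _ y = ee (I F (q + 1)) (Kv π V₂)
        ((I F (q + 1)).map (etMap V g₂).op ((I F (q + 1)).map (toU g V₁).op x)) :=
      hy.trans (map_ρ_ee π (I F (q + 1)) g₂ _)
    obtain ⟨V₃, g₃, v₃, hv₃, z, hz₀, hz₁⟩ := exists_correction F π q ih V₂ v₂ 0 y
      (by rw [map_dd, hy', dd_ee_apply])
    haveI : Injective (I F q) := injective_presheaf _
    obtain ⟨r, hr⟩ := exists_ee_eq (I F q) (hasContr_Kv π V₃) z hz₀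
    haveI : Etale V₃.hom := V₃.prop
    refine ⟨etO V V₃, toU g V₃, ?_, ⟨v₃, ?_⟩, r, ee_injective_fppf π _ V₃ ?_⟩
    · exact inferInstanceAs (Etale (V₃.hom ≫ g.left))
    · have e1 : ∀ {V' V'' : V.left.Etale} (k : V'' ⟶ V') (p : V''.left), V''.hom.base p = V'.hom.base (k.left.base p) :=
        fun k p => ((congrArg (fun m => m.base p) (MorphismProperty.Over.w k)).symm.trans (Scheme.Hom.comp_apply _ _ _))
      show (V₃.hom ≫ g.left).base v₃ = u
      rw [Scheme.Hom.comp_apply, e1 g₃ v₃, hv₃, e1 g₂ v₂, hv₂]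
      exact hv
    · refine (map_ee (Kv π V₃) (dI F q) r).symm.trans ?_
      rw [hr, hz₁, nat_app, hy', map_ρ_ee]
      refine congrArg (ee (I F (q + 1)) (Kv π V₃)) ?_
      refine (Sections.map_map ((Res F).cocomplex.X (q + 1)) _ _ _).trans
        ((Sections.map_map ((Res F).cocomplex.X (q + 1)) _ _ x).trans ?_)
      refine Sections.map_congr ((Res F).cocomplex.X (q + 1)) (Over.OverMorphism.ext ?_) x
      show g₃.left ≫ g₂.left ≫ V₁.hom ≫ g.left = V₃.hom ≫ g.left
      rw [← MorphismProperty.Over.w g₃, ← MorphismProperty.Over.w g₂]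
      simp only [Category.assoc]

end Groth.Agent.H15Site.FppfEt
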