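import Mathlib.CategoryTheory.Sites.Abelian
import Mathlib.CategoryTheory.Sites.EpiMono
import Mathlib.CategoryTheory.Sites.LocallySurjective
import Mathlib.CategoryTheory.Abelian.Exact
import Mathlib.Algebra.Homology.ShortComplex.Ab
import Mathlib.Algebra.Category.Grp.Abelian
import Mathlib.Algebra.Category.Grp.EpiMono
import Mathlib.Algebra.Category.Grp.FilteredColimits

/-!
# Sections of sheaves of abelian groups on a site
-/

set_option autoImplicit false
set_option linter.style.haveILetI false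
set_option linter.unusedSectionVars false
set_option backward.isDefEq.respectTransparency false

universe w v u

open CategoryTheory CategoryTheory.Limits Opposite

namespace Groth.Agent.H15Site.FppfEt.Sections

variable {C : Type u} [Category.{v} C] {J : GrothendieckTopology C}
  [HasSheafify J AddCommGrpCat.{w}] [J.HasSheafCompose (CategoryTheory.forget AddCommGrpCat.{w})]
  [J.WEqualsLocallyBijective AddCommGrpCat.{w}]
  (Q : Sheaf J AddCommGrpCat.{w})

theorem map_map {A B D : C} (f : A ⟶ B) (g : B ⟶ D) (x : Q.obj.obj (op D)) :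
    Q.obj.map f.op (Q.obj.map g.op x) = Q.obj.map (f ≫ g).op x :=
  (ConcreteCategory.congr_hom (Q.obj.map_comp g.op f.op) x).symm

theorem map_congr {A B : C} {f g : A ⟶ B} (h : f = g) (x : Q.obj.obj (op B)) :
    Q.obj.map f.op x = Q.obj.map g.op x := by rw [h]

theorem isSheafFor {W : C} {R : Sieve W} (hR : R ∈ J W) :
    Presieve.IsSheafFor (Q.obj ⋙ CategoryTheory.forget AddCommGrpCat.{w}) R.arrows :=
  ((isSheaf_iff_isSheaf_of_type _ _).1
    ((sheafCompose J (CategoryTheory.forget AddCommGrpCat.{w})).obj Q).property) R hR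

/-- Sections which agree locally agree. -/
theorem eq_of_local {W : C} {R : Sieve W} (hR : R ∈ J W) {x y : Q.obj.obj (op W)}
    (h : ∀ ⦃Z : C⦄ (f : Z ⟶ W), R f → Q.obj.map f.op x = Q.obj.map f.op y) : x = y :=
  (isSheafFor Q hR).isSeparatedFor.ext fun _ f hf => h f hf

theorem eq_of_family {W : C} {ι : Type*} (Z : ι → C) (f : ∀ i, Z i ⟶ W)
    (hc : Sieve.ofArrows Z f ∈ J W) {x y : Q.obj.obj (op W)}
    (h : ∀ i, Q.obj.map (f i).op x = Q.obj.map (f i).op y) : x = y :=
  eq_of_local Q hc fun Y g hg => by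
    obtain ⟨i, k, rfl⟩ := (Sieve.mem_ofArrows_iff _ _ _).1 hg
    rw [← map_map, ← map_map, h i]

theorem subsingleton_of_bot {W : C} (h : (⊥ : Sieve W) ∈ J W) : Subsingleton (Q.obj.obj (op W)) :=
  ⟨fun _ _ => eq_of_local Q h fun _ _ hf => hf.elim⟩

/-- Sections on the pieces of a covering with empty overlaps glue. -/
theorem exists_glue {W : C} {ι : Type*} (Z : ι → C) (f : ∀ i, Z i ⟶ W)
    (hc : Sieve.ofArrows Z f ∈ J W)
    (hd : ∀ i j (T : C) (a : T ⟶ Z i) (b : T ⟶ Z j), a ≫ f i = b ≫ f j →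
      (∃ e : i = j, a ≫ eqToHom (congrArg Z e) = b) ∨ (⊥ : Sieve T) ∈ J T)
    (s : ∀ i, Q.obj.obj (op (Z i))) :
    ∃ x, ∀ i, Q.obj.map (f i).op x = s i := by
  have hs : Presieve.IsSheafFor (Q.obj ⋙ CategoryTheory.forget AddCommGrpCat.{w})
      (Presieve.ofArrows Z f) := by
    rw [Presieve.isSheafFor_iff_generate]
    exact isSheafFor Q hc
  have hcomp : Presieve.Arrows.Compatible (Q.obj ⋙ CategoryTheory.forget AddCommGrpCat.{w}) f s := by
    intro i j T a b hab
    obtain ⟨rfl, rfl⟩ | hbot := hd i j T a b hab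
    · show Q.obj.map a.op (s i) = Q.obj.map (a ≫ eqToHom rfl).op (s i)
      exact map_congr Q (Category.comp_id a).symm _
    · have := subsingleton_of_bot Q hbot
      exact @Subsingleton.elim _ this _ _
  obtain ⟨x, hx, -⟩ := (Presieve.isSheafFor_arrows_iff _ _).1 hs s hcomp
  exact ⟨x, hx⟩

variable {Q}

/-- Left exactness of sections. -/
theorem injective_app {Q' : Sheaf J AddCommGrpCat.{w}} (φ : Q ⟶ Q') [Mono φ] (W : C) :
    Function.Injective (φ.hom.app (op W)) :=
  (AddCommGrpCat.mono_iff_injective _).1 (inferInstanceAs (Mono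
    ((sheafToPresheaf J _ ⋙ (evaluation Cᵒᵖ AddCommGrpCat.{w}).obj (op W)).map φ)))

theorem exists_app_eq {T : ShortComplex (Sheaf J AddCommGrpCat.{w})} (hT : T.Exact) [Mono T.f]
    (W : C) (x : T.X₂.obj.obj (op W)) (hx : T.g.hom.app (op W) x = 0) :
    ∃ y, T.f.hom.app (op W) y = x :=
  (ShortComplex.ab_exact_iff _).1 (hT.map_of_mono_of_preservesKernel
    (sheafToPresheaf J _ ⋙ (evaluation Cᵒᵖ AddCommGrpCat.{w}).obj (op W))
    inferInstance inferInstance) x hx

/-- Exactness: preimages exist locally. -/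
theorem exists_local_preimage {T : ShortComplex (Sheaf J AddCommGrpCat.{w})} (hT : T.Exact)
    (W : C) (x : T.X₂.obj.obj (op W)) (hx : T.g.hom.app (op W) x = 0) :
    ∃ R ∈ J W, ∀ ⦃Z : C⦄ (f : Z ⟶ W), R.arrows f → ∃ y, T.f.hom.app (op Z) y = T.X₂.obj.map f.op x := by
  obtain ⟨k, hk⟩ := exists_app_eq (T := ShortComplex.mk (kernel.ι T.g) T.g (kernel.condition _))
    (ShortComplex.exact_of_f_is_kernel _ (kernelIsKernel _)) W x hx
  haveI := hT.epi_kernelLift
  have hloc : Sheaf.IsLocallySurjective (kernel.lift T.g T.f T.zero) :=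
    (Sheaf.isLocallySurjective_iff_epi' _ _).2 inferInstance
  refine ⟨_, hloc.imageSieve_mem k, fun Z f ⟨y, hy⟩ => ⟨y, ?_⟩⟩
  have e : T.f.hom.app (op Z) y = (kernel.ι T.g).hom.app (op Z)
      ((kernel.lift T.g T.f T.zero).hom.app (op Z) y) :=
    (ConcreteCategory.congr_hom (congr_app (congrArg (fun g => g.hom) (kernel.lift_ι T.g T.f T.zero)) (op Z)) y).symm
  refine e.trans ((congrArg _ hy).trans ?_)
  refine (ConcreteCategory.congr_hom ((kernel.ι T.g).hom.naturality f.op) k).trans ?_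
  exact congrArg (T.X₂.obj.map f.op) hk

end Groth.Agent.H15Site.FppfEt.Sections
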