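import Groth.Agent.H15Site.FppfEt.ProperPushR
import Groth.Agent.H15Site.FppfEt.RelSS
import Groth.Agent.H17.FLI.CompDeg
import Groth.Agent.S14622

/-!
# Descent along proper surjective morphisms for torsion sheaves, given proper base change on stalks

The sections vanishing on all objects lifting to `X` form a left exact functor of fppf sheaves; its derived
functors kill `π⁻¹F` for torsion `F`, as they kill `π⁻¹f_*G` for acyclic torsion `G`.
-/

set_option autoImplicit false
set_option linter.style.haveILetI false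
set_option linter.unusedSectionVars false
set_option backward.isDefEq.respectTransparency false
set_option backward.isDefEq.respectTransparency.types false

universe u

open CategoryTheory CategoryTheory.Limits AlgebraicGeometry Opposite
open scoped Groth.Agent.H18Et

namespace Groth.Agent.H15Site.FppfEt.Rel

open Groth.Agent.H15Site.IntDesc (bigSh)
open Groth.Agent.H15Site.Shriek (StalkBC isTorsion_of_epi' exists_mono_torsion_Rpush_acyclic)

variable {X S : Scheme.{u}} (f : X ⟶ S) (U : Over S)

/-- Sections vanishing on the objects which lift to `X`. -/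
noncomputable def vanF : EtFppf.AbF S ⥤ AddCommGrpCat.{u + 1} where
  obj A := AddCommGrpCat.of (vanSub (LiftsTo (Over.mk f)) A.obj U)
  map φ := AddCommGrpCat.ofHom (AddMonoidHom.mk'
    (fun x => (⟨φ.hom.app (op U) x.1, Van.app φ.hom x.2⟩ : vanSub (LiftsTo (Over.mk f)) _ U))
    fun a b => Subtype.ext (map_add (φ.hom.app (op U)).hom a.1 b.1))
  map_id A := by ext x; rfl
  map_comp φ ψ := by ext x; rfl

instance vanF_additive : (vanF f U).Additive where
  map_add {A B φ ψ} := by ext x; rfl

instance vanF_preservesFiniteLimits : PreservesFiniteLimits (vanF f U) := by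
  refine ((vanF f U).preservesFiniteLimits_tfae.out 0 3 rfl rfl).1 fun T hT => ?_
  haveI := hT.mono_f
  refine ⟨?_, ?_⟩
  · rw [ShortComplex.ab_exact_iff]
    intro x hx
    obtain ⟨y, hy⟩ := Sections.exists_app_eq hT.exact U x.1 (congrArg Subtype.val hx)
    refine ⟨⟨y, fun W g hW => Sections.injective_app T.f W ?_⟩, Subtype.ext hy⟩
    rw [map_zero]
    exact (ConcreteCategory.congr_hom (T.f.hom.naturality g.op) y).trans
      ((congrArg (T.X₂.obj.map g.op) hy).trans (x.2 W g hW))
  · rw [AddCommGrpCat.mono_iff_injective]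
    exact fun a b h => Subtype.ext (Sections.injective_app T.f U (congrArg Subtype.val h))

/-- Sections of direct images have no vanishing part. -/
theorem isZero_vanF_pushBig (Q : EtFppf.AbF X) : IsZero ((vanF f U).obj ((EtFppf.pushBig f).obj Q)) := by
  haveI : Subsingleton ((vanF f U).obj ((EtFppf.pushBig f).obj Q)) := by
    refine subsingleton_of_forall_eq 0 fun x => Subtype.ext ?_
    let W : Over S := (Over.map f).obj ((Over.pullback f).obj U)
    let g : W ⟶ U := (Over.mapPullbackAdj f).counit.app U
    let s : (Over.pullback f).obj U ⟶ (Over.pullback f).obj W :=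
      (Over.mapPullbackAdj f).unit.app ((Over.pullback f).obj U)
    have hs : s ≫ (Over.pullback f).map g = 𝟙 _ := (Over.mapPullbackAdj f).right_triangle_components U
    have h0 := x.2 W g ⟨Over.homMk ((Over.pullback f).obj U).hom rfl⟩
    refine ((Sections.map_map Q s _ x.1).trans ((Sections.map_congr Q hs x.1).trans
      (ConcreteCategory.congr_hom (Q.obj.map_id _) x.1))).symm.trans ?_
    exact (congrArg _ h0).trans (map_zero _)
  exact AddCommGrpCat.isZero_of_subsingleton _

variable (S) in
/-- `π⁻¹` to the fppf site. -/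
noncomputable abbrev piF : EtCoh.Ab S ⥤ EtFppf.AbF S := BigSite.piEtPull Scheme.etalePrecoverage S ⋙ L S

theorem exact_piF :
    PreservesFiniteLimits (piF S) ∧ PreservesFiniteColimits (piF S) ∧ (piF S).Additive := by
  let adj := (BigSite.piEtAdj Scheme.etalePrecoverage S).comp (adjLE S)
  haveI : (piF S).IsLeftAdjoint := ⟨_, ⟨adj⟩⟩
  haveI := preservesBinaryBiproducts_of_preservesBinaryCoproducts (piF S)
  haveI : (piF S).Additive := Functor.additive_of_preservesBinaryBiproducts (piF S)
  haveI := H13Desc.BigExact.preservesMonomorphisms_piEtPull Scheme.etalePrecoverage S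
  haveI := preservesMono_L S
  haveI : (piF S).PreservesMonomorphisms := ⟨fun {A B} φ _ =>
    inferInstanceAs (Mono ((L S).map ((BigSite.piEtPull Scheme.etalePrecoverage S).map φ)))⟩
  have h1 : ∀ T : ShortComplex (EtCoh.Ab S), T.ShortExact → (T.map (piF S)).Exact ∧
      Mono ((piF S).map T.f) := fun T hT => by
    haveI := hT.mono_f
    haveI := hT.epi_g
    exact ⟨hT.exact.map_of_epi_of_preservesCokernel (piF S) inferInstance inferInstance, inferInstance⟩
  exact ⟨((piF S).preservesFiniteLimits_tfae.out 0 3 rfl rfl).1 h1, inferInstance, inferInstance⟩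

theorem injective_pushBig (I : EtFppf.AbF X) [Injective I] : Injective ((EtFppf.pushBig f).obj I) := by
  let adj : (Over.map f).sheafPushforwardContinuous AddCommGrpCat.{u + 1} (EtFppf.J X) (EtFppf.J S) ⊣
      EtFppf.pushBig f := (Over.mapPullbackAdj f).sheafPushforwardContinuous (EtFppf.J X) (EtFppf.J S)
  haveI : ((Over.map f).sheafPushforwardContinuous AddCommGrpCat.{u + 1} (EtFppf.J X)
      (EtFppf.J S)).PreservesMonomorphisms := ⟨fun {A B} φ _ => by
    haveI : ∀ W, Mono ((((Over.map f).sheafPushforwardContinuous AddCommGrpCat.{u + 1} (EtFppf.J X)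
        (EtFppf.J S)).map φ).hom.app W) := fun W =>
      (AddCommGrpCat.mono_iff_injective _).2 (Sections.injective_app φ _)
    haveI : Mono ((sheafToPresheaf _ _).map (((Over.map f).sheafPushforwardContinuous AddCommGrpCat.{u + 1}
        (EtFppf.J X) (EtFppf.J S)).map φ)) :=
      @NatTrans.mono_of_mono_app _ _ _ _ _ _ (((Over.map f).sheafPushforwardContinuous AddCommGrpCat.{u + 1}
        (EtFppf.J X) (EtFppf.J S)).map φ).hom this
    exact (sheafToPresheaf _ _).mono_of_mono_map this⟩
  exact Injective.injective_of_adjoint adj I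

variable [IsProper f]

/-- The derived vanishing sections of acyclic direct images vanish. -/
theorem isZero_derived_vanF_push (hbc : StalkBC.{u}) (G : EtCoh.Ab X) (hG : EtCoh.IsTorsion G)
    (hz : ∀ q, 0 < q → IsZero ((EtCoh.Rpush f q).obj G)) (q : ℕ) :
    IsZero (((vanF f U).rightDerived q).obj ((piF S).obj ((EtCoh.push f).obj G))) := by
  haveI : (EtFppf.pushBig f).IsRightAdjoint := ⟨_, ⟨(Over.mapPullbackAdj f).sheafPushforwardContinuous
    (EtFppf.J X) (EtFppf.J S)⟩⟩
  haveI : PreservesFiniteLimits (EtFppf.pushBig f) := inferInstance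
  obtain ⟨e⟩ := H17.FLI.CompDeg.nonempty_rightDerived_comp (EtFppf.pushBig f) (vanF f U)
    (fun I hI => injective_pushBig f I) (QF G) 0
    (fun i hi => by
      obtain ⟨j, rfl⟩ : ∃ j, i = j + 1 := ⟨i - 1, by omega⟩
      exact isZero_RpushBig_of_acyclic f G hbc hG j (hz (j + 1) (by omega))) q
  let R := injectiveResolution (QF G)
  have h0 : IsZero (((EtFppf.pushBig f ⋙ vanF f U).rightDerived (q + 0)).obj (QF G)) :=
    ((HomologicalComplex.exactAt_iff_isZero_homology _ _).1
      (ShortComplex.exact_of_isZero_X₂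
        ((((EtFppf.pushBig f ⋙ vanF f U).mapHomologicalComplex (ComplexShape.up ℕ)).obj R.cocomplex).sc (q + 0))
        (isZero_vanF_pushBig f U (R.cocomplex.X (q + 0))))).of_iso
      (R.isoRightDerivedObj (EtFppf.pushBig f ⋙ vanF f U) (q + 0))
  exact (h0.of_iso e.symm).of_iso (((vanF f U).rightDerived q).mapIso
    (αFppfProper f G ≪≫ ((Functor.rightDerivedZeroIsoSelf (EtFppf.pushBig f)).app (QF G)).symm))

/-- **The derived vanishing sections of torsion sheaves vanish.** -/
theorem isZero_derived_vanF [Surjective f] (hbc : StalkBC.{u}) :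
    ∀ (q : ℕ) (F : EtCoh.Ab S), EtCoh.IsTorsion F →
      IsZero (((vanF f U).rightDerived q).obj ((piF S).obj F)) := by
  obtain ⟨hl, hr, ha⟩ := exact_piF (S := S)
  haveI := hl
  haveI := hr
  haveI := ha
  haveI : PreservesFiniteLimits (EtCoh.push f) :=
    haveI : (EtCoh.push f).IsRightAdjoint := ⟨_, ⟨EtCoh.pullPushAdj f⟩⟩
    inferInstance
  have step : ∀ F : EtCoh.Ab S, EtCoh.IsTorsion F →
      ∃ (T : ShortComplex (EtCoh.Ab S)) (_ : T.ShortExact), T.X₁ = F ∧ EtCoh.IsTorsion T.X₃ ∧
        ∀ i, IsZero (((vanF f U).rightDerived i).obj ((piF S).obj T.X₂)) := by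
    intro F hF
    obtain ⟨G, ι, hι, hG, hz⟩ :=
      exists_mono_torsion_Rpush_acyclic f _ (H18Et.Coh.isTorsion_pull f F hF)
    haveI := S14622.result f F
    let m : F ⟶ (EtCoh.push f).obj G := (EtCoh.pullPushAdj f).unit.app F ≫ (EtCoh.push f).map ι
    haveI : Mono m := mono_comp _ _
    have ht : EtCoh.IsTorsion ((EtCoh.push f).obj G) := H18Et.Coh.isTorsion_of_iso
      ((Functor.rightDerivedZeroIsoSelf (EtCoh.push f)).app G) (H18Et.Coh.isTorsion_Rpush f G hG 0)
    exact ⟨ShortComplex.mk m (cokernel.π m) (cokernel.condition m),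
      { exact := ShortComplex.exact_of_g_is_cokernel _ (cokernelIsCokernel m) }, rfl,
      isTorsion_of_epi' (cokernel.π m) ht, fun i => isZero_derived_vanF_push f U hbc G hG hz i⟩
  have hself : ∀ A : EtFppf.AbF S, IsZero (((vanF f U).rightDerived 0).obj A) → IsZero ((vanF f U).obj A) :=
    fun A h => h.of_iso ((Functor.rightDerivedZeroIsoSelf (vanF f U)).app A).symm
  intro q
  induction q using Nat.strong_induction_on with
  | _ q ih =>
    intro F hF
    obtain ⟨T, hT, rfl, h3, h2⟩ := step F hF
    have hT' := hT.map_of_exact (piF S)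
    haveI : Mono ((piF S).map T.f) := hT'.mono_f
    haveI : Mono ((vanF f U).map ((piF S).map T.f)) := inferInstance
    have hacy : H16Derived.AcyclicLES.IsAcyclic (vanF f U) ((piF S).obj T.X₂) := fun i _ => h2 i
    match q, ih with
    | 0, _ =>
      exact ((hself _ (h2 0)).of_mono ((vanF f U).map ((piF S).map T.f))).of_iso
        ((Functor.rightDerivedZeroIsoSelf (vanF f U)).app _)
    | 1, ih =>
      obtain ⟨e⟩ := H10Coh.nonempty_rightDerived_one (vanF f U) hT' hacy
      haveI : Epi ((vanF f U).map (T.map (piF S)).g) :=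
        ⟨fun a b _ => (hself _ (ih 0 (by omega) T.X₃ h3)).eq_of_src a b⟩
      exact (isZero_cokernel_of_epi _).of_iso e
    | m + 2, ih =>
      obtain ⟨e⟩ := H10Coh.nonempty_rightDerived_shift (vanF f U) hT' hacy m
      exact (ih (m + 1) (by omega) T.X₃ h3).of_iso e

/-- **Descent along proper surjective morphisms for torsion sheaves.** -/
theorem ex_proper [Surjective f] (hbc : StalkBC.{u}) (F : EtCoh.Ab S) (hF : EtCoh.IsTorsion F) :
    Ex (LiftsTo (Over.mk f)) (fun q => (J F q).obj) (dI F) U := by
  let K := ((vanF f U).mapHomologicalComplex (ComplexShape.up ℕ)).obj (Res F).cocomplex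
  have hK : ∀ i, K.ExactAt i := fun i => (HomologicalComplex.exactAt_iff_isZero_homology _ _).2
    ((isZero_derived_vanF f U hbc i F hF).of_iso ((Res F).isoRightDerivedObj (vanF f U) i).symm)
  refine ⟨fun x hx hd => ?_, fun q x hx hd => ?_⟩
  · have h := hK 0
    rw [HomologicalComplex.exactAt_iff' _ 0 0 1 (by simp) (by simp), ShortComplex.ab_exact_iff] at h
    obtain ⟨y, hy⟩ := h ⟨x, hx⟩ (Subtype.ext hd)
    have h0 : K.d 0 0 = 0 := K.shape 0 0 (by simp)
    exact (congrArg Subtype.val (hy.symm.trans (ConcreteCategory.congr_hom h0 y))).trans rfl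
  · have h := hK (q + 1)
    rw [HomologicalComplex.exactAt_iff' _ q (q + 1) (q + 1 + 1) (by simp) (by simp), ShortComplex.ab_exact_iff] at h
    obtain ⟨y, hy⟩ := h ⟨x, hx⟩ (Subtype.ext hd)
    exact ⟨y.1, y.2, congrArg Subtype.val hy⟩

end Groth.Agent.H15Site.FppfEt.Rel
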